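import Cfsg.Agent.Lib.PSL2.Maximal
import Cfsg.Agent.S1012

/-!
The four-groups of `PSL₂(F)` for odd `q` and their normalisers in `PGL₂(F)`.
-/

set_option autoImplicit false
set_option linter.style.haveILetI false
set_option linter.unusedSectionVars false

namespace CfsgLib.PSL2

section Generic

variable {G : Type*} [Group G] [Finite G]

theorem mem_normalizer_of_conj_mem {V : Subgroup G} {g : G} (h : ∀ v ∈ V, g * v * g⁻¹ ∈ V) :
    g ∈ Subgroup.normalizer (V : Set G) := by
  refine Subgroup.mem_normalizer_iff_map_conj_eq.2 (Subgroup.eq_of_le_of_card_ge ?_ ?_)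
  · rintro _ ⟨v, hv, rfl⟩
    exact h v hv
  · exact (Subgroup.card_map_of_injective (MulAut.conj g).injective).ge

theorem orderOf_four_alternating (g : alternatingGroup (Fin 4)) : orderOf g ≠ 4 := by
  intro h
  have h1 : g ^ 4 = 1 := orderOf_dvd_iff_pow_eq_one.1 h.dvd
  have h2 : ∀ g : alternatingGroup (Fin 4), g ^ 4 = 1 → g ^ 2 = 1 := by decide
  have := orderOf_le_of_pow_eq_one two_pos (h2 g h1)
  omega

theorem exists_orderOf_four_perm : ∃ g : Equiv.Perm (Fin 4), orderOf g = 4 :=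
  ⟨finRotate 4, orderOf_eq_prime_pow (p := 2) (n := 1) (by decide) (by decide)⟩

theorem alt_of_index_two (e : G ≃* Equiv.Perm (Fin 4)) {K : Subgroup G} (h : K.index = 2) :
    Nonempty (K ≃* alternatingGroup (Fin 4)) := by
  have hidx : (K.map e.toMonoidHom).index = 2 := by rw [← h]; exact Subgroup.index_map_equiv K e
  exact ⟨(e.subgroupMap K).trans
    (MulEquiv.subgroupCongr (Equiv.Perm.eq_alternatingGroup_of_index_eq_two hidx))⟩

omit [Finite G] in
theorem eq_of_three {A B C b v u a : G} (hb : b ∈ ({A, B, C} : Set G)) (hv : v ∈ ({A, B, C} : Set G))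
    (hu : u ∈ ({A, B, C} : Set G)) (ha : a ∈ ({A, B, C} : Set G))
    (h1 : b ≠ u) (h2 : b ≠ a) (h3 : v ≠ u) (h4 : v ≠ a) (h5 : a ≠ u) : b = v := by
  rcases hb with rfl | rfl | rfl <;> rcases hv with rfl | rfl | rfl <;> first
    | rfl
    | (rcases hu with rfl | rfl | rfl <;> first
        | exact absurd rfl h1
        | exact absurd rfl h3
        | (rcases ha with rfl | rfl | rfl <;> first
            | exact absurd rfl h2
            | exact absurd rfl h4
            | exact absurd rfl h5))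

/-- A group of order 24 acting faithfully on a self-centralizing four-group. -/
theorem perm_four_of_klein (h24 : Nat.card G = 24) {x y : G} (hx : x * x = 1) (hy : y * y = 1)
    (hx1 : x ≠ 1) (hy1 : y ≠ 1) (hne : x ≠ y) (hc : Commute x y)
    (hV : ∀ g : G, g * x * g⁻¹ ∈ ({x, y, x * y} : Set G) ∧ g * y * g⁻¹ ∈ ({x, y, x * y} : Set G))
    (hC : ∀ g : G, Commute g x → Commute g y → g ∈ ({1, x, y, x * y} : Set G)) :
    Nonempty (G ≃* Equiv.Perm (Fin 4)) := by
  set S : Set G := {x, y, x * y} with hS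
  have hxy_y : x * y * y = x := by rw [mul_assoc, hy, mul_one]
  have hx_xy : x * (x * y) = y := by rw [← mul_assoc, hx, one_mul]
  have hxx : x ≠ x * y := fun e => hy1 (mul_eq_left.1 e.symm)
  have hyy : y ≠ x * y := fun e => hx1 (mul_eq_right.1 e.symm)
  have htwo : ∀ g u v : G, u ∈ S → v ∈ S → u ≠ v → Commute g u → Commute g v → Commute g x ∧ Commute g y := by
    intro g u v hu hv huv gu gv
    rcases hu with rfl | rfl | rfl <;> rcases hv with rfl | rfl | rfl
    · exact absurd rfl huv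
    · exact ⟨gu, gv⟩
    · exact ⟨gu, hx_xy ▸ gu.mul_right gv⟩
    · exact ⟨gv, gu⟩
    · exact absurd rfl huv
    · exact ⟨hxy_y ▸ gv.mul_right gu, gu⟩
    · exact ⟨gv, hx_xy ▸ gv.mul_right gu⟩
    · exact ⟨hxy_y ▸ gu.mul_right gv, gv⟩
    · exact absurd rfl huv
  have hmap : ∀ g u : G, u ∈ S → g * u * g⁻¹ ∈ ({1, x, y, x * y} : Set G) ∧ g * u * g⁻¹ ≠ 1 := by
    intro g u hu
    have hu1 : u ≠ 1 := by
      rcases hu with rfl | rfl | rfl
      · exact hx1
      · exact hy1
      · exact fun e => hne (by rw [← hxy_y, e, one_mul])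
    refine ⟨?_, fun e => hu1 (conj_eq_one_iff.1 e)⟩
    obtain ⟨h1, h2⟩ := hV g
    rcases hu with rfl | rfl | rfl
    · exact .inr h1
    · exact .inr h2
    · rw [show g * (x * y) * g⁻¹ = (g * x * g⁻¹) * (g * y * g⁻¹) by group]
      rcases h1 with e1 | e1 | e1 <;> rcases h2 with e2 | e2 | e2 <;> rw [e1, e2]
      · exact .inl hx
      · exact .inr (.inr (.inr rfl))
      · exact .inr (.inr (.inl hx_xy))
      · exact .inr (.inr (.inr hc.eq.symm))
      · exact .inl hy
      · exact .inr (.inl (by rw [hc.eq, ← mul_assoc, hy, one_mul]))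
      · exact .inr (.inr (.inl (by rw [hc.eq, mul_assoc, hx, mul_one])))
      · exact .inr (.inl hxy_y)
      · refine .inl ?_
        rw [mul_assoc, ← mul_assoc y, ← hc.eq, hxy_y, hx]
  have hmapS : ∀ g u : G, u ∈ S → g * u * g⁻¹ ∈ S := by
    intro g u hu
    obtain ⟨h1, h2⟩ := hmap g u hu
    exact h1.resolve_left h2
  have hC4 : ∀ g : G, Commute g x → Commute g y → g * g = 1 := by
    intro g h1 h2
    rcases hC g h1 h2 with rfl | rfl | rfl | rfl
    · exact one_mul 1
    · exact hx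
    · exact hy
    · rw [mul_assoc, ← mul_assoc y, ← hc.eq, hxy_y, hx]
  refine Cfsg.Agent.S1012.result h24 fun g hg => ?_
  set t := g ^ 2 with ht
  set z := g ^ 3 with hz
  have ht3 : t ^ 3 = 1 := by rw [ht, ← pow_mul]; exact orderOf_dvd_iff_pow_eq_one.1 hg.dvd
  have hz2 : z * z = 1 := by rw [hz, ← pow_add]; exact orderOf_dvd_iff_pow_eq_one.1 hg.dvd
  have ht1 : t ≠ 1 := fun e => by
    have := orderOf_le_of_pow_eq_one two_pos (ht ▸ e : g ^ 2 = 1)
    omega
  have hz1 : z ≠ 1 := fun e => by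
    have := orderOf_le_of_pow_eq_one three_pos (hz ▸ e : g ^ 3 = 1)
    omega
  have htz : Commute t z := Commute.pow_pow_self g 2 3
  -- the element of order three fixes nothing
  have hnofix : ∀ u ∈ S, ¬ Commute t u := by
    intro u hu hcu
    obtain ⟨v, hv, hvu⟩ : ∃ v ∈ S, v ≠ u := by
      by_cases h : u = x
      · exact ⟨y, .inr (.inl rfl), fun e => hne (h ▸ e.symm)⟩
      · exact ⟨x, .inl rfl, Ne.symm h⟩
    obtain ⟨a, ha⟩ : ∃ a, t * v * t⁻¹ = a := ⟨_, rfl⟩
    have haS : a ∈ S := ha ▸ hmapS t v hv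
    have hau : a ≠ u := fun e => hvu (by
      have : t * v * t⁻¹ = t * u * t⁻¹ := by rw [ha, e, hcu.eq, mul_inv_cancel_right]
      exact mul_left_cancel (mul_right_cancel this))
    have hsq : Commute (t ^ 2) v := by
      by_cases hav : a = v
      · have : Commute t v := mul_inv_eq_iff_eq_mul.1 (ha.trans hav)
        exact this.pow_left 2
      · obtain ⟨b, hb⟩ : ∃ b, t * a * t⁻¹ = b := ⟨_, rfl⟩
        have hbS : b ∈ S := hb ▸ hmapS t a haS
        have hbu : b ≠ u := fun e => hau (by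
          have : t * a * t⁻¹ = t * u * t⁻¹ := by rw [hb, e, hcu.eq, mul_inv_cancel_right]
          exact mul_left_cancel (mul_right_cancel this))
        have hba : b ≠ a := fun e => hav (by
          have : t * a * t⁻¹ = t * v * t⁻¹ := by rw [hb, e, ha]
          exact mul_left_cancel (mul_right_cancel this))
        have hbv : b = v := by
          exact eq_of_three hbS hv hu haS hbu hba hvu (Ne.symm hav) hau
        refine mul_inv_eq_iff_eq_mul.1 ?_
        rw [pow_two, _root_.mul_inv_rev]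
        calc t * t * v * (t⁻¹ * t⁻¹) = t * (t * v * t⁻¹) * t⁻¹ := by group
          _ = v := by rw [ha, hb, hbv]
    obtain ⟨h1, h2⟩ := htwo (t ^ 2) u v hu hv hvu.symm (hcu.pow_left 2) hsq
    have h4 := hC4 _ h1 h2
    exact ht1 (by rw [← pow_add, show (2 + 2 : ℕ) = 3 + 1 from rfl, pow_succ, ht3, one_mul] at h4; exact h4)
  -- the involution fixes something
  obtain ⟨u, hu, hzu⟩ : ∃ u ∈ S, Commute z u := by
    have hzinv : z⁻¹ = z := inv_eq_of_mul_eq_one_right hz2
    rcases (hV z).1 with e | e | e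
    · exact ⟨x, .inl rfl, mul_inv_eq_iff_eq_mul.1 e⟩
    · refine ⟨x * y, .inr (.inr rfl), mul_inv_eq_iff_eq_mul.1 ?_⟩
      have e2 : z * y * z⁻¹ = x := by
        rw [← e]
        calc z * (z * x * z⁻¹) * z⁻¹ = (z * z) * x * (z * z)⁻¹ := by group
          _ = x := by rw [hz2, inv_one, one_mul, mul_one]
      rw [show z * (x * y) * z⁻¹ = (z * x * z⁻¹) * (z * y * z⁻¹) by group, e, e2, hc.eq]
    · refine ⟨y, .inr (.inl rfl), mul_inv_eq_iff_eq_mul.1 ?_⟩
      have e2 : z * (x * y) * z⁻¹ = x := by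
        rw [← e]
        calc z * (z * x * z⁻¹) * z⁻¹ = (z * z) * x * (z * z)⁻¹ := by group
          _ = x := by rw [hz2, inv_one, one_mul, mul_one]
      calc z * y * z⁻¹ = z * (x * (x * y)) * z⁻¹ := by rw [hx_xy]
        _ = (z * x * z⁻¹) * (z * (x * y) * z⁻¹) := by group
        _ = y := by rw [e, e2, hc.eq, mul_assoc, hx, mul_one]
  have hzu' : Commute z (t * u * t⁻¹) := (htz.symm.mul_right hzu).mul_right htz.symm.inv_right
  obtain ⟨h1, h2⟩ := htwo z u (t * u * t⁻¹) hu (hmapS t u hu)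
    (fun e => hnofix u hu (mul_inv_eq_iff_eq_mul.1 e.symm)) hzu hzu'
  rcases hC z h1 h2 with e | e
  · exact hz1 e
  · exact hnofix z e htz

end Generic

open Matrix MulAction CfsgLib.Classical
open scoped LinearAlgebra.Projectivization

variable {F : Type*} [Field F] [Finite F] {p : ℕ} [Fact p.Prime] [CharP F p]

local notation "PG" => Matrix.ProjGenLinGroup (Fin 2) F
local notation "P1" => ℙ F (Fin 2 → F)
local notation "PE" => ℙ (Ext2 F p) (Fin 2 → Ext2 F p)

theorem ne_two_of_odd (h : Odd (Nat.card F)) : p ≠ 2 := by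
  rintro rfl
  obtain ⟨k, hk0, hk⟩ := card_eq_charPow (F := F) (p := 2)
  rw [hk, Nat.odd_pow_iff hk0.ne'] at h
  exact absurd h (by decide)

variable (p) in
/-- The centre of an involution of `PSL₂`. -/
theorem invol_fix (hodd : Odd (Nat.card F)) {x : PG} (hx : x ∈ pslRange F)
    (hx1 : x ≠ 1) (hx2 : x * x = 1) :
    ∃ a b : ℙ (Ext2 F p) (Fin 2 → Ext2 F p), GoodPair a b ∧ x • a = a ∧ x • b = b ∧ 4 ∣ torusCard a := by
  haveI := charP_ext2 (F := F) (p := p)
  have hPE : P1Like p PG PE := p1Like_ext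
  have hp : x ^ p ≠ 1 := by
    obtain ⟨j, hj⟩ := (Fact.out : p.Prime).odd_of_ne_two (ne_two_of_odd hodd)
    rw [hj, pow_succ, pow_mul, pow_two, hx2, one_pow, one_mul]
    exact hx1
  obtain ⟨a, ha⟩ := exists_fix_ext (p := p) x
  obtain ⟨b, hba, hb⟩ := hPE.exists_other hp ha
  have hg : GoodPair a b := goodPair_of_fixed hx1 hba.symm ha hb
  refine ⟨a, b, hg, ha, hb, ?_⟩
  haveI := Fintype.ofFinite F
  rw [torusCard]
  split_ifs with hr
  · obtain ⟨-, ⟨⟨c, rfl⟩, ⟨d, rfl⟩⟩ | ⟨hna, -⟩⟩ := hg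
    swap
    · exact absurd hr hna
    have hcd : c ≠ d := fun e => hba (by rw [e])
    have hxc : x • c = c := embP_injective p (by rw [embP_smul]; exact ha)
    have hxd : x • d = d := embP_injective p (by rw [embP_smul]; exact hb)
    obtain ⟨k, hkc, hkd⟩ := exists_to_std hcd
    obtain ⟨u, t, hut⟩ := exists_affP_of_fix (g := k⁻¹ * x * k) (conj_smul_eq hkc hxc)
    have ht : t = 0 := by
      have h3 := conj_smul_eq (g := x) hkd hxd
      rw [hut, ← ptP_zero, affP_smul_pt, mul_zero, zero_add] at h3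
      exact ptP_injective h3
    subst ht
    have hmem : affP u 0 ∈ pslRange F := hut ▸ by simpa using normal_pslRange.conj_mem _ hx k⁻¹
    have hu2 : affP u (0 : F) * affP u 0 = 1 := by
      rw [← hut, ← one_mul (1 : PG)]
      calc k⁻¹ * x * k * (k⁻¹ * x * k) = k⁻¹ * (x * x) * k := by group
        _ = 1 * 1 := by rw [hx2, mul_one, inv_mul_cancel, mul_one]
    have hsq : IsSquare (-1 : F) := by
      have hu : (u : F) = -1 := by
        rw [affP_mul, mul_zero, add_zero] at hu2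
        have h1 : u * u = 1 := (affP_injective (hu2.trans affP_one.symm)).1
        rcases mul_self_eq_one_iff.1 (show (u : F) * u = 1 by rw [← Units.val_mul, h1, Units.val_one]) with e | e
        · exfalso
          refine hx1 ?_
          have : affP u (0 : F) = 1 := by rw [show u = 1 from Units.ext e, affP_one]
          rw [this, mul_assoc, inv_mul_eq_one] at hut
          exact mul_eq_right.1 hut.symm
        · exact e
      rw [affP, mk_mem_pslRange_iff] at hmem
      simpa [affMat, GeneralLinearGroup.mkOfDetNeZero, Matrix.det_fin_two, hu] using hmem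
    rw [FiniteField.isSquare_neg_one_iff] at hsq
    rw [Nat.card_eq_fintype_card, Nat.odd_iff] at hodd
    rw [Nat.card_eq_fintype_card]
    omega
  · obtain ⟨r, w, -, -, -, -, -, -, hro, hz, -, -⟩ := torus_psl hg (fun h => absurd h hr)
    have hxz : x ∈ Subgroup.zpowers r := hz ▸ ⟨⟨ha, hb⟩, hx⟩
    have hd2 : orderOf x ∣ orderOf r := by
      have := orderOf_dvd_natCard (⟨x, hxz⟩ : Subgroup.zpowers r)
      rwa [Nat.card_zpowers, Subgroup.orderOf_mk] at this
    rw [orderOf_eq_prime (by rw [pow_two, hx2]) hx1, hro, gcd_two_card_sub_one_of_odd hodd,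
      torusCard, if_neg hr] at hd2
    obtain ⟨j, hj⟩ := hodd
    omega

/-- Two commuting involutions of `PSL₂(F)`. -/
structure FourPair (x y : PG) : Prop where
  hx : x ∈ pslRange F
  hy : y ∈ pslRange F
  x1 : x ≠ 1
  y1 : y ≠ 1
  ne : x ≠ y
  sx : x * x = 1
  sy : y * y = 1
  comm : Commute x y

theorem goodPair_conj_unique {a b b' : PE} (h : GoodPair a b) (hb' : b' ≠ a)
    (hst : ∀ g : PG, g • a = a → g • b' = b') (ha : ¬ IsRat a) : b' = b := by
  haveI := charP_ext2 (F := F) (p := p)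
  have hPE : P1Like p PG PE := p1Like_ext
  haveI : Nontrivial (stabilizer PG a) := Finite.one_lt_card_iff_nontrivial.1
    (by rw [card_stab_nonrat ha]; have := Finite.one_lt_card (α := F); omega)
  obtain ⟨g, hg⟩ := exists_ne (1 : stabilizer PG a)
  obtain ⟨hab, ⟨hr, -⟩ | ⟨-, -, hst'⟩⟩ := h
  · exact absurd hr ha
  by_contra hcb
  exact hg (Subtype.ext (hPE.sharp hab hb'.symm (Ne.symm hcb) g.2 (hst' _ g.2) (hst _ g.2)))

/-- Good pairs of the same type are conjugate. -/
theorem goodPair_conj {a b a' b' : PE} (h : GoodPair a b) (h' : GoodPair a' b') (hr : IsRat a ↔ IsRat a') :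
    ∃ g : PG, g • a = a' ∧ g • b = b' := by
  by_cases ha : IsRat a
  · obtain ⟨hab, ⟨⟨x, rfl⟩, ⟨y, rfl⟩⟩ | ⟨hna, -⟩⟩ := h
    swap
    · exact absurd ha hna
    obtain ⟨hab', ⟨⟨x', rfl⟩, ⟨y', rfl⟩⟩ | ⟨hna, -⟩⟩ := h'
    swap
    · exact absurd (hr.1 ha) hna
    obtain ⟨k, hkx, hky⟩ := exists_to_std (show x ≠ y from fun e => hab (by rw [e]))
    obtain ⟨l, hlx, hly⟩ := exists_to_std (show x' ≠ y' from fun e => hab' (by rw [e]))
    refine ⟨l * k⁻¹, ?_, ?_⟩ <;> rw [← embP_smul, mul_smul]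
    · rw [← hkx, inv_smul_smul, hlx]
    · rw [← hky, inv_smul_smul, hly]
  · have ha' : ¬ IsRat a' := fun e => ha (hr.2 e)
    obtain ⟨g, rfl⟩ := transitive_nonrat ha ha'
    refine ⟨g, rfl, goodPair_conj_unique h' (fun e => h.1 (smul_left_cancel g e).symm) ?_ ha'⟩
    obtain ⟨-, ⟨hra, -⟩ | ⟨-, -, hst⟩⟩ := h
    · exact absurd hra ha
    intro u hu
    have := hst (g⁻¹ * u * g) (by rw [mul_smul, mul_smul, hu, inv_smul_smul])
    rwa [mul_smul, mul_smul, inv_smul_eq_iff] at this

theorem four_dvd_torusCard_iff (hodd : Odd (Nat.card F)) (a : PE) :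
    4 ∣ torusCard a ↔ (IsRat a ↔ Nat.card F % 4 = 1) := by
  obtain ⟨j, hj⟩ := hodd
  rw [torusCard]
  split_ifs with h <;> simp only [h, true_iff, false_iff] <;> omega

/-- An element fixing a good pair and squaring to one is unique. -/
theorem invol_unique {a b : PE} (hab : a ≠ b) {x x' : PG} (hx1 : x ≠ 1) (hx'1 : x' ≠ 1) (hx : x * x = 1)
    (hx' : x' * x' = 1) (ha : x • a = a) (hb : x • b = b) (ha' : x' • a = a) (hb' : x' • b = b) : x = x' := by
  classical
  haveI := charP_ext2 (F := F) (p := p)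
  have hPE : P1Like p PG PE := p1Like_ext
  set S := stabilizer PG a ⊓ stabilizer PG b
  haveI : IsCyclic S := hPE.two_cyclic hab
  haveI := Fintype.ofFinite S
  by_contra hne
  have h2 := IsCyclic.card_pow_eq_one_le (α := S) (n := 2) two_pos
  have hsub : ({1, ⟨x, ha, hb⟩, ⟨x', ha', hb'⟩} : Finset S) ⊆ Finset.univ.filter (fun g : S => g ^ 2 = 1) := by
    intro g hg
    rw [Finset.mem_filter]
    simp only [Finset.mem_insert, Finset.mem_singleton] at hg
    refine ⟨Finset.mem_univ _, ?_⟩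
    rcases hg with rfl | rfl | rfl
    · exact one_pow 2
    · exact Subtype.ext (by simpa [pow_two] using hx)
    · exact Subtype.ext (by simpa [pow_two] using hx')
  have h3 : ({1, ⟨x, ha, hb⟩, ⟨x', ha', hb'⟩} : Finset S).card = 3 :=
    Finset.card_eq_three.2 ⟨_, _, _, fun e => hx1 (congrArg Subtype.val e).symm,
      fun e => hx'1 (congrArg Subtype.val e).symm, fun e => hne (congrArg Subtype.val e), rfl⟩
  have := Finset.card_le_card hsub
  omega

theorem FourPair.swap {x y : PG} (h : FourPair x y) {a b : PE} (hab : a ≠ b) (ha : x • a = a) (hb : x • b = b) :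
    y • a = b ∧ y • b = a := by
  haveI := charP_ext2 (F := F) (p := p)
  have hPE : P1Like p PG PE := p1Like_ext
  have hfix : ∀ c : PE, x • c = c → c = a ∨ c = b := fun c hc => by
    by_contra hne
    push Not at hne
    exact h.x1 (hPE.sharp hab (Ne.symm hne.1) (Ne.symm hne.2) ha hb hc)
  have hy : ∀ c : PE, x • c = c → x • y • c = y • c := fun c hc => by
    rw [← mul_smul, h.comm.eq, mul_smul, hc]
  rcases hfix _ (hy a ha) with e | e <;> rcases hfix _ (hy b hb) with e' | e'
  · exact absurd (smul_left_cancel y (e.trans e'.symm)) hab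
  · exact absurd (invol_unique hab h.x1 h.y1 h.sx h.sy ha hb e e') h.ne
  · exact ⟨e, e'⟩
  · exact absurd (smul_left_cancel y (e.trans e'.symm)) hab

/-- All swaps in `PSL₂` are conjugate under the torus. -/
theorem swap_conj (hodd : Odd (Nat.card F)) {a b : PE} (hg : GoodPair a b) (h4 : 4 ∣ torusCard a) {w w' : PG}
    (hw : w ∈ pslRange F) (hwa : w • a = b) (hwb : w • b = a)
    (hw' : w' ∈ pslRange F) (hwa' : w' • a = b) (hwb' : w' • b = a) :
    ∃ s : PG, s • a = a ∧ s • b = b ∧ s * w * s⁻¹ = w' := by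
  haveI := charP_ext2 (F := F) (p := p)
  have hPE : P1Like p PG PE := p1Like_ext
  set S := stabilizer PG a ⊓ stabilizer PG b
  haveI := hPE.two_cyclic hg.1
  have ht : w' * w⁻¹ ∈ S ⊓ pslRange F := ⟨⟨by
      show (w' * w⁻¹) • a = a
      rw [mul_smul, inv_smul_eq_iff.2 hwb.symm, hwb'],
    by show (w' * w⁻¹) • b = b
       rw [mul_smul, inv_smul_eq_iff.2 hwa.symm, hwa']⟩, (pslRange F).mul_mem hw' ((pslRange F).inv_mem hw)⟩
  obtain ⟨⟨r₀, hr₀⟩, hgen⟩ := IsCyclic.exists_generator (α := S)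
  have h3 : IsRat a → Nat.card F ≠ 3 := fun hr e => by
    rw [torusCard, if_pos hr, e] at h4
    omega
  obtain ⟨r, -, -, -, -, -, -, -, hro, hz, -, -⟩ := torus_psl hg h3
  have hnot : r₀ ∉ pslRange F := fun hin => by
    have hle : S ≤ S ⊓ pslRange F := fun g hg' => by
      obtain ⟨n, hn⟩ := hgen ⟨g, hg'⟩
      have e : r₀ ^ n = g := congrArg Subtype.val hn
      exact ⟨hg', e ▸ (pslRange F).zpow_mem hin n⟩
    have h1 := Subgroup.card_le_of_le hle
    rw [show Nat.card ↥(S ⊓ pslRange F) = orderOf r by rw [hz, Nat.card_zpowers], hro, card_torus hg,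
      gcd_two_card_sub_one_of_odd hodd] at h1
    have h2 : 0 < torusCard a := by rw [← card_torus hg]; exact Nat.card_pos
    omega
  obtain ⟨n, hn⟩ := hgen ⟨_, ht.1⟩
  have hn' : r₀ ^ n = w' * w⁻¹ := congrArg Subtype.val hn
  obtain ⟨m, hm⟩ : Even n := by
    rcases Int.even_or_odd n with he | ⟨m, hm⟩
    · exact he
    · exfalso
      refine hnot ?_
      have hsq : r₀ ^ (2 * m) ∈ pslRange F := by
        rw [_root_.zpow_mul]
        refine (pslRange F).zpow_mem ?_ m
        have h := Subgroup.pow_index_mem (pslRange F) r₀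
        rwa [index_pslRange, gcd_two_card_sub_one_of_odd hodd] at h
      have h5 : r₀ ^ (2 * m) * r₀ ∈ pslRange F := by rw [← _root_.zpow_add_one, ← hm, hn']; exact ht.2
      exact (Subgroup.mul_mem_cancel_left _ hsq).1 h5
  have hsa : r₀ ^ m • a = a := (Subgroup.zpow_mem S hr₀ m).1
  have hsb : r₀ ^ m • b = b := (Subgroup.zpow_mem S hr₀ m).2
  refine ⟨r₀ ^ m, hsa, hsb, ?_⟩
  set s := r₀ ^ m
  have hsq := hPE.swap_sq (g := w * s⁻¹) hg.1 (by rw [mul_smul, inv_smul_eq_iff.2 hsa.symm, hwa])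
    (by rw [mul_smul, inv_smul_eq_iff.2 hsb.symm, hwb])
  have hinv : w * s⁻¹ = s * w⁻¹ := by
    rw [← inv_eq_of_mul_eq_one_right hsq]; group
  have hw2 : w⁻¹ = w := inv_eq_of_mul_eq_one_right (hPE.swap_sq hg.1 hwa hwb)
  calc s * w * s⁻¹ = s * (s * w⁻¹) := by rw [mul_assoc, hinv]
    _ = r₀ ^ n * w := by rw [hw2, ← mul_assoc, hm, _root_.zpow_add]
    _ = w' := by rw [hn', inv_mul_cancel_right]

variable (p) in
include p in
/-- Four-pairs are conjugate in `PGL₂(F)`. -/
theorem FourPair.conj (hodd : Odd (Nat.card F)) {x y x' y' : PG} (h : FourPair x y) (h' : FourPair x' y') :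
    ∃ g : PG, g * x * g⁻¹ = x' ∧ g * y * g⁻¹ = y' := by
  haveI := charP_ext2 (F := F) (p := p)
  obtain ⟨a, b, hg, ha, hb, h4⟩ := invol_fix p hodd h.hx h.x1 h.sx
  obtain ⟨a', b', hg', ha', hb', h4'⟩ := invol_fix p hodd h'.hx h'.x1 h'.sx
  obtain ⟨g, hga, hgb⟩ := goodPair_conj hg hg'
    (by rw [four_dvd_torusCard_iff hodd] at h4 h4'; tauto)
  have hca : g⁻¹ • a' = a := inv_smul_eq_iff.2 hga.symm
  have hcb : g⁻¹ • b' = b := inv_smul_eq_iff.2 hgb.symm
  have hx' : g * x * g⁻¹ = x' := invol_unique hg'.1 (fun e => h.x1 (conj_eq_one_iff.1 e)) h'.x1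
    (by rw [show g * x * g⁻¹ * (g * x * g⁻¹) = g * (x * x) * g⁻¹ by group, h.sx, mul_one, mul_inv_cancel])
    h'.sx (by rw [mul_smul, mul_smul, hca, ha, hga]) (by rw [mul_smul, mul_smul, hcb, hb, hgb]) ha' hb'
  obtain ⟨hya, hyb⟩ := h.swap hg.1 ha hb
  obtain ⟨hya', hyb'⟩ := h'.swap hg'.1 ha' hb'
  obtain ⟨s, hsa, hsb, hs⟩ := swap_conj hodd hg' h4' (w := g * y * g⁻¹) (w' := y')
    (normal_pslRange.conj_mem _ h.hy g) (by rw [mul_smul, mul_smul, hca, hya, hgb])
    (by rw [mul_smul, mul_smul, hcb, hyb, hga]) h'.hy hya' hyb'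
  refine ⟨s * g, ?_, by rw [← hs]; group⟩
  have hc : s * x' * s⁻¹ = x' := by
    have hsi : ∀ c : PE, s • c = c → s⁻¹ • c = c := fun c hc => inv_smul_eq_iff.2 hc.symm
    exact invol_unique hg'.1 (fun e => h'.x1 (conj_eq_one_iff.1 e)) h'.x1
      (by rw [show s * x' * s⁻¹ * (s * x' * s⁻¹) = s * (x' * x') * s⁻¹ by group, h'.sx, mul_one, mul_inv_cancel])
      h'.sx (by rw [mul_smul, mul_smul, hsi _ hsa, ha', hsa]) (by rw [mul_smul, mul_smul, hsi _ hsb, hb', hsb]) ha' hb'
  rw [show s * g * x * (s * g)⁻¹ = s * (g * x * g⁻¹) * s⁻¹ by group, hx', hc]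

variable (p) in
include p in
theorem FourPair.centralizer (hodd : Odd (Nat.card F)) {x y : PG} (h : FourPair x y) {g : PG}
    (hgx : Commute g x) (hgy : Commute g y) : g ∈ ({1, x, y, x * y} : Set PG) := by
  haveI := charP_ext2 (F := F) (p := p)
  have hPE : P1Like p PG PE := p1Like_ext
  obtain ⟨a, b, hg, ha, hb, -⟩ := invol_fix p hodd h.hx h.x1 h.sx
  obtain ⟨hya, hyb⟩ := h.swap hg.1 ha hb
  have key : ∀ k : PG, Commute k x → Commute k y → k • a = a → k • b = b → k = 1 ∨ k = x := by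
    intro k _ hky hka hkb
    by_cases hk : k = 1
    · exact .inl hk
    refine .inr (invol_unique hg.1 hk h.x1 ?_ h.sx hka hkb ha hb)
    have hsq := hPE.swap_sq (g := y * k) hg.1 (by rw [mul_smul, hka, hya]) (by rw [mul_smul, hkb, hyb])
    rwa [← mul_assoc, mul_assoc y k y, hky.eq, ← mul_assoc, h.sy, one_mul] at hsq
  have hfix : ∀ c : PE, x • c = c → c = a ∨ c = b := fun c hc => by
    by_contra hne
    push Not at hne
    exact h.x1 (hPE.sharp hg.1 (Ne.symm hne.1) (Ne.symm hne.2) ha hb hc)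
  have hg' : ∀ c : PE, x • c = c → x • g • c = g • c := fun c hc => by
    rw [← mul_smul, ← hgx.eq, mul_smul, hc]
  rcases hfix _ (hg' a ha) with e | e <;> rcases hfix _ (hg' b hb) with e' | e'
  · exact absurd (smul_left_cancel g (e.trans e'.symm)) hg.1
  · rcases key g hgx hgy e e' with r | r
    · exact .inl r
    · exact .inr (.inl r)
  · rcases key (y * g) (h.comm.symm.mul_left hgx) ((Commute.refl y).mul_left hgy)
      (by rw [mul_smul, e, hyb]) (by rw [mul_smul, e', hya]) with r | r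
    · refine .inr (.inr (.inl ?_))
      calc g = y * (y * g) := by rw [← mul_assoc, h.sy, one_mul]
        _ = y := by rw [r, mul_one]
    · refine .inr (.inr (.inr ?_))
      calc g = y * (y * g) := by rw [← mul_assoc, h.sy, one_mul]
        _ = x * y := by rw [r, h.comm.eq]
  · exact absurd (smul_left_cancel g (e.trans e'.symm)) hg.1

/-- The four-group of a four-pair. -/
def fourGrp (x y : PG) : Subgroup PG := Subgroup.centralizer {x, y}

/-- Its normaliser. -/
def fourNorm (x y : PG) : Subgroup PG := Subgroup.normalizer (fourGrp x y : Set PG)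

theorem mem_fourGrp {x y g : PG} : g ∈ fourGrp x y ↔ Commute g x ∧ Commute g y := by
  rw [fourGrp, Subgroup.mem_centralizer_iff]
  constructor
  · intro h
    exact ⟨(h x (.inl rfl)).symm, (h y (.inr rfl)).symm⟩
  · rintro ⟨h1, h2⟩ u (rfl | rfl)
    · exact h1.eq.symm
    · exact h2.eq.symm

theorem FourPair.coe_fourGrp (hodd : Odd (Nat.card F)) {x y : PG} (h : FourPair x y) :
    (fourGrp x y : Set PG) = {1, x, y, x * y} := by
  obtain ⟨p, hp⟩ := CharP.exists F
  haveI := Fact.mk (CharP.char_is_prime F p)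
  ext g
  rw [SetLike.mem_coe, mem_fourGrp]
  refine ⟨fun hg => h.centralizer p hodd hg.1 hg.2, ?_⟩
  rintro (rfl | rfl | rfl | rfl)
  · exact ⟨Commute.one_left _, Commute.one_left _⟩
  · exact ⟨Commute.refl _, h.comm⟩
  · exact ⟨h.comm.symm, Commute.refl _⟩
  · exact ⟨(Commute.refl x).mul_left h.comm.symm, h.comm.mul_left (Commute.refl y)⟩

theorem FourPair.mem_four (hodd : Odd (Nat.card F)) {x y g : PG} (h : FourPair x y) :
    g ∈ fourGrp x y ↔ g ∈ ({1, x, y, x * y} : Set PG) := by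
  rw [← SetLike.mem_coe, h.coe_fourGrp hodd]

theorem FourPair.left_mem {x y : PG} (h : FourPair x y) : x ∈ fourGrp x y :=
  mem_fourGrp.2 ⟨Commute.refl _, h.comm⟩

theorem FourPair.right_mem {x y : PG} (h : FourPair x y) : y ∈ fourGrp x y :=
  mem_fourGrp.2 ⟨h.comm.symm, Commute.refl _⟩

theorem FourPair.card_four (hodd : Odd (Nat.card F)) {x y : PG} (h : FourPair x y) :
    Nat.card (fourGrp x y) = 4 := by
  have h1 : x * y ≠ 1 := fun e => h.ne (by rw [← mul_one x, ← h.sy, ← mul_assoc, e, one_mul])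
  have h2 : x * y ≠ x := fun e => h.y1 (mul_eq_left.1 e)
  have h3 : x * y ≠ y := fun e => h.x1 (mul_eq_right.1 e)
  rw [← SetLike.coe_sort_coe, Nat.card_coe_set_eq, h.coe_fourGrp hodd,
    Set.ncard_insert_of_notMem (by simp [Ne.symm h.x1, Ne.symm h.y1, Ne.symm h1]),
    Set.ncard_insert_of_notMem (by simp [h.ne, Ne.symm h2]), Set.ncard_pair h3.symm]

theorem FourPair.four_le (hodd : Odd (Nat.card F)) {x y : PG} (h : FourPair x y) :
    fourGrp x y ≤ pslRange F := by
  intro g hg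
  rcases (h.mem_four hodd).1 hg with rfl | rfl | rfl | rfl
  · exact one_mem _
  · exact h.hx
  · exact h.hy
  · exact mul_mem h.hx h.hy

theorem FourPair.isKlein (hodd : Odd (Nat.card F)) {x y : PG} (h : FourPair x y) :
    IsKleinFour (fourGrp x y) := by
  haveI : Nontrivial (fourGrp x y) := Finite.one_lt_card_iff_nontrivial.1 (by rw [h.card_four hodd]; norm_num)
  refine ⟨h.card_four hodd, (Monoid.exponent_eq_prime_iff Nat.prime_two).2 fun g hg => ?_⟩
  refine orderOf_eq_prime (Subtype.ext ?_) hg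
  rw [SubgroupClass.coe_pow, pow_two, OneMemClass.coe_one]
  rcases (h.mem_four hodd).1 g.2 with e | e | e | e <;> rw [e]
  · exact one_mul 1
  · exact h.sx
  · exact h.sy
  · rw [mul_assoc, ← mul_assoc y, ← h.comm.eq, mul_assoc x y y, h.sy, mul_one, h.sx]

theorem fourPair_of_mem {V : Subgroup PG} [IsKleinFour V] (hV : V ≤ pslRange F) {u v : V}
    (hu : u ≠ 1) (hv : v ≠ 1) (huv : u ≠ v) : FourPair (u : PG) v where
  hx := hV u.2
  hy := hV v.2
  x1 e := hu (Subtype.ext e)
  y1 e := hv (Subtype.ext e)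
  ne e := huv (Subtype.ext e)
  sx := congrArg Subtype.val (IsKleinFour.mul_self u)
  sy := congrArg Subtype.val (IsKleinFour.mul_self v)
  comm := congrArg Subtype.val (IsKleinFour.isMulCommutative.is_comm.comm u v)

theorem pair_of_klein (hodd : Odd (Nat.card F)) {V : Subgroup PG} (hK : IsKleinFour V) (hV : V ≤ pslRange F) :
    ∃ x y : PG, FourPair x y ∧ V = fourGrp x y := by
  classical
  haveI := Fintype.ofFinite V
  have h4 : Fintype.card V = 4 := by rw [← Nat.card_eq_fintype_card]; exact hK.card_four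
  obtain ⟨u, hu⟩ := Fintype.exists_ne_of_one_lt_card (by omega) (1 : V)
  obtain ⟨v, hv, hvu⟩ : ∃ v : V, v ≠ 1 ∧ v ≠ u := by
    by_contra hne
    push Not at hne
    have : Finset.univ ⊆ ({1, u} : Finset V) := fun v _ => by
      by_cases h : v = 1
      · simp [h]
      · simp [hne v h]
    have := Finset.card_le_card this
    rw [Finset.card_univ, h4, Finset.card_pair hu.symm] at this
    omega
  have hp := fourPair_of_mem hV hu hv hvu.symm
  refine ⟨u, v, hp, Subgroup.eq_of_le_of_card_ge (fun w hw => mem_fourGrp.2 ⟨?_, ?_⟩) ?_⟩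
  · exact congrArg Subtype.val (IsKleinFour.isMulCommutative.is_comm.comm (⟨w, hw⟩ : V) u)
  · exact congrArg Subtype.val (IsKleinFour.isMulCommutative.is_comm.comm (⟨w, hw⟩ : V) v)
  · rw [hp.card_four hodd]; exact hK.card_four.ge

theorem FourPair.mem_norm (hodd : Odd (Nat.card F)) {x y : PG} (h : FourPair x y) {g : PG}
    (h1 : g * x * g⁻¹ ∈ fourGrp x y) (h2 : g * y * g⁻¹ ∈ fourGrp x y) : g ∈ fourNorm x y := by
  refine mem_normalizer_of_conj_mem fun v hv => ?_
  rcases (h.mem_four hodd).1 hv with rfl | rfl | rfl | rfl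
  · rw [mul_one, mul_inv_cancel]; exact one_mem _
  · exact h1
  · exact h2
  · rw [show g * (x * y) * g⁻¹ = (g * x * g⁻¹) * (g * y * g⁻¹) by group]; exact mul_mem h1 h2

theorem fourNorm_conj_mem {x y g v : PG} (hg : g ∈ fourNorm x y) (hv : v ∈ fourGrp x y) :
    g * v * g⁻¹ ∈ fourGrp x y :=
  (Subgroup.mem_normalizer_iff.1 hg v).1 hv

theorem FourPair.card_norm (hodd : Odd (Nat.card F)) {x y : PG} (h : FourPair x y) :
    Nat.card (fourNorm x y) = 24 := by
  classical
  obtain ⟨p, hp⟩ := CharP.exists F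
  haveI := Fact.mk (CharP.char_is_prime F p)
  haveI := h.isKlein hodd
  haveI := Fintype.ofFinite (fourGrp x y)
  have hle := h.four_le hodd
  let V := fourGrp x y
  let D := ((Finset.univ : Finset V).erase 1).offDiag
  have hD : D.card = 6 := by
    rw [Finset.offDiag_card, Finset.card_erase_of_mem (Finset.mem_univ _), Finset.card_univ,
      ← Nat.card_eq_fintype_card, h.card_four hodd]
  have hmem : ∀ q : D, (q.1.1 : V) ≠ 1 ∧ q.1.2 ≠ 1 ∧ q.1.1 ≠ q.1.2 := fun q => by
    have := q.2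
    simp only [D, Finset.mem_offDiag, Finset.mem_erase, Finset.mem_univ, and_true] at this
    exact this
  have hex : ∀ q : D, ∃ g : PG, g * x * g⁻¹ = (q.1.1 : PG) ∧ g * y * g⁻¹ = (q.1.2 : PG) := fun q =>
    h.conj p hodd (fourPair_of_mem hle (hmem q).1 (hmem q).2.1 (hmem q).2.2)
  choose g₀ hg₀ using hex
  have hg₀N : ∀ q, g₀ q ∈ fourNorm x y := fun q =>
    h.mem_norm hodd ((hg₀ q).1 ▸ q.1.1.2) ((hg₀ q).2 ▸ q.1.2.2)
  have hVN : V ≤ fourNorm x y := Subgroup.le_normalizer
  let f : D × V → fourNorm x y := fun qv => ⟨g₀ qv.1 * qv.2, mul_mem (hg₀N qv.1) (hVN qv.2.2)⟩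
  have hconjV : ∀ v : V, (v : PG) * x * (v : PG)⁻¹ = x ∧ (v : PG) * y * (v : PG)⁻¹ = y := fun v =>
    ⟨mul_inv_eq_iff_eq_mul.2 (mem_fourGrp.1 v.2).1.eq, mul_inv_eq_iff_eq_mul.2 (mem_fourGrp.1 v.2).2.eq⟩
  have hact : ∀ qv : D × V, (f qv : PG) * x * (f qv : PG)⁻¹ = qv.1.1.1 ∧
      (f qv : PG) * y * (f qv : PG)⁻¹ = qv.1.1.2 := fun qv => by
    constructor
    · rw [← (hg₀ qv.1).1]
      calc g₀ qv.1 * qv.2 * x * (g₀ qv.1 * qv.2)⁻¹ = g₀ qv.1 * ((qv.2 : PG) * x * (qv.2 : PG)⁻¹) * (g₀ qv.1)⁻¹ := by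
            group
        _ = _ := by rw [(hconjV qv.2).1]
    · rw [← (hg₀ qv.1).2]
      calc g₀ qv.1 * qv.2 * y * (g₀ qv.1 * qv.2)⁻¹ = g₀ qv.1 * ((qv.2 : PG) * y * (qv.2 : PG)⁻¹) * (g₀ qv.1)⁻¹ := by
            group
        _ = _ := by rw [(hconjV qv.2).2]
  have hf : Function.Bijective f := by
    constructor
    · intro qv qv' e
      have e' := congrArg Subtype.val e
      have h1 : qv.1 = qv'.1 := by
        refine Subtype.ext (Prod.ext (Subtype.ext ?_) (Subtype.ext ?_))
        · rw [← (hact qv).1, ← (hact qv').1, e]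
        · rw [← (hact qv).2, ← (hact qv').2, e]
      refine Prod.ext h1 (Subtype.ext (mul_left_cancel (a := g₀ qv.1) ?_))
      simpa [f, h1] using e'
    · intro g
      have hgx := fourNorm_conj_mem g.2 h.left_mem
      have hgy := fourNorm_conj_mem g.2 h.right_mem
      have hq : ((⟨_, hgx⟩ : V), (⟨_, hgy⟩ : V)) ∈ D := by
        simp only [D, Finset.mem_offDiag, Finset.mem_erase, Finset.mem_univ, and_true]
        refine ⟨fun e => h.x1 ?_, fun e => h.y1 ?_, fun e => h.ne ?_⟩
        · exact conj_eq_one_iff.1 (congrArg Subtype.val e)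
        · exact conj_eq_one_iff.1 (congrArg Subtype.val e)
        · exact mul_left_cancel (mul_right_cancel (congrArg Subtype.val e))
      set q : D := ⟨_, hq⟩
      have hv : (g₀ q)⁻¹ * g ∈ V := by
        refine mem_fourGrp.2 ⟨?_, ?_⟩ <;> refine mul_inv_eq_iff_eq_mul.1 ?_
        · calc (g₀ q)⁻¹ * g * x * ((g₀ q)⁻¹ * g)⁻¹ = (g₀ q)⁻¹ * ((g : PG) * x * (g : PG)⁻¹) * g₀ q := by group
            _ = x := by rw [show (g : PG) * x * (g : PG)⁻¹ = g₀ q * x * (g₀ q)⁻¹ from (hg₀ q).1.symm]; group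
        · calc (g₀ q)⁻¹ * g * y * ((g₀ q)⁻¹ * g)⁻¹ = (g₀ q)⁻¹ * ((g : PG) * y * (g : PG)⁻¹) * g₀ q := by group
            _ = y := by rw [show (g : PG) * y * (g : PG)⁻¹ = g₀ q * y * (g₀ q)⁻¹ from (hg₀ q).2.symm]; group
      exact ⟨(q, ⟨_, hv⟩), Subtype.ext (mul_inv_cancel_left _ _)⟩
  rw [← Nat.card_congr (Equiv.ofBijective f hf), Nat.card_prod, Nat.card_eq_fintype_card, Fintype.card_coe,
    hD, h.card_four hodd]

theorem FourPair.norm_equiv (hodd : Odd (Nat.card F)) {x y : PG} (h : FourPair x y) :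
    Nonempty (fourNorm x y ≃* Equiv.Perm (Fin 4)) := by
  obtain ⟨p, hp⟩ := CharP.exists F
  haveI := Fact.mk (CharP.char_is_prime F p)
  have hxN : x ∈ fourNorm x y := Subgroup.le_normalizer h.left_mem
  have hyN : y ∈ fourNorm x y := Subgroup.le_normalizer h.right_mem
  refine perm_four_of_klein (h.card_norm hodd) (x := ⟨x, hxN⟩) (y := ⟨y, hyN⟩) (Subtype.ext h.sx)
    (Subtype.ext h.sy) (fun e => h.x1 (congrArg Subtype.val e)) (fun e => h.y1 (congrArg Subtype.val e))
    (fun e => h.ne (congrArg Subtype.val e)) (Subtype.ext h.comm.eq) (fun g => ?_) (fun g h1 h2 => ?_)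
  · constructor
    · rcases (h.mem_four hodd).1 (fourNorm_conj_mem g.2 h.left_mem) with e | e | e | e
      · exact absurd (conj_eq_one_iff.1 e) h.x1
      · exact .inl (Subtype.ext e)
      · exact .inr (.inl (Subtype.ext e))
      · exact .inr (.inr (Subtype.ext e))
    · rcases (h.mem_four hodd).1 (fourNorm_conj_mem g.2 h.right_mem) with e | e | e | e
      · exact absurd (conj_eq_one_iff.1 e) h.y1
      · exact .inl (Subtype.ext e)
      · exact .inr (.inl (Subtype.ext e))
      · exact .inr (.inr (Subtype.ext e))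
  · rcases h.centralizer p hodd (show Commute (g : PG) x from congrArg Subtype.val h1)
      (show Commute (g : PG) y from congrArg Subtype.val h2) with e | e | e | e
    · exact .inl (Subtype.ext e)
    · exact .inr (.inl (Subtype.ext e))
    · exact .inr (.inr (.inl (Subtype.ext e)))
    · exact .inr (.inr (.inr (Subtype.ext e)))

variable (p) in
include p in
theorem exists_fourPair (hodd : Odd (Nat.card F)) : ∃ x y : PG, FourPair x y := by
  haveI := charP_ext2 (F := F) (p := p)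
  classical
  obtain ⟨a, b, hg, h4⟩ : ∃ a b : PE, GoodPair a b ∧ 4 ∣ torusCard a := by
    by_cases hq : Nat.card F % 4 = 1
    · obtain ⟨a, b, hg, hr⟩ := exists_goodPair (F := F) (p := p)
      exact ⟨a, b, hg, (four_dvd_torusCard_iff hodd a).2 ⟨fun _ => hq, fun _ => hr⟩⟩
    · obtain ⟨a, ha⟩ : ∃ a : PE, ¬ IsRat a := by
        by_contra hall
        push Not at hall
        have hs : Function.Surjective (embP (F := F) p) := hall
        have := Nat.card_le_card_of_surjective _ hs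
        rw [card_pline_ext, card_proj_line, pow_two] at this
        have h1 : 1 < Nat.card F := Finite.one_lt_card
        have h2 := Nat.mul_le_mul_right (Nat.card F) h1
        omega
      obtain ⟨b, hb, hb', hst, -⟩ := exists_conj_point ha
      exact ⟨a, b, ⟨hb.symm, .inr ⟨ha, hb', hst⟩⟩,
        (four_dvd_torusCard_iff hodd a).2 ⟨fun h => absurd h ha, fun h => absurd h hq⟩⟩
  have h3 : IsRat a → Nat.card F ≠ 3 := fun hr e => by
    rw [torusCard, if_pos hr, e] at h4
    omega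
  obtain ⟨r, w, hr, hw, hra, hrb, hwa, hwb, hro, -, -, -⟩ := torus_psl hg h3
  have hPE : P1Like p PG PE := p1Like_ext
  rw [gcd_two_card_sub_one_of_odd hodd] at hro
  have hpos : 0 < orderOf r := orderOf_pos r
  have hxo : orderOf (r ^ (orderOf r / 2)) = 2 := by
    rw [orderOf_pow' r (by omega), Nat.gcd_eq_right (Nat.div_dvd_of_dvd (by omega)),
      Nat.div_div_self (by omega) (by omega)]
  set x := r ^ (orderOf r / 2)
  have hsx : x * x = 1 := by rw [← pow_two]; exact orderOf_dvd_iff_pow_eq_one.1 hxo.dvd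
  have hx1 : x ≠ 1 := fun e => by rw [e, orderOf_one] at hxo; omega
  have hxa : x • a = a := (stabilizer PG a).pow_mem hra _
  have hxb : x • b = b := (stabilizer PG b).pow_mem hrb _
  have hww := hPE.swap_sq hg.1 hwa hwb
  refine ⟨x, w, ⟨(pslRange F).pow_mem hr _, hw, hx1, fun e => hg.1 ?_, fun e => hg.1 ?_, hsx, hww, ?_⟩⟩
  · rw [← hwa, e, one_smul]
  · rw [← hwa, ← e, hxa]
  · have hsq := hPE.swap_sq (g := w * x) hg.1 (by rw [mul_smul, hxa, hwa]) (by rw [mul_smul, hxb, hwb])
    have h1 : (w * x)⁻¹ = w * x := inv_eq_of_mul_eq_one_right hsq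
    rw [_root_.mul_inv_rev, inv_eq_of_mul_eq_one_right hww, inv_eq_of_mul_eq_one_right hsx] at h1
    exact h1

variable (p) in
include p in
/-- An element of order four in `PSL₂(F)`. -/
theorem card_mod_of_orderOf_four {x : PG} (hx : x ∈ pslRange F) (h4 : orderOf x = 4) :
    Nat.card F % 8 = 1 ∨ Nat.card F % 8 = 7 := by
  haveI := charP_ext2 (F := F) (p := p)
  have hp2 : p ≠ 2 := by
    rintro rfl
    have hPE : P1Like 2 PG (ℙ (Ext2 F 2) (Fin 2 → Ext2 F 2)) := p1Like_ext
    obtain ⟨c, hc⟩ := exists_fix_ext (p := 2) x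
    have h1 := pow_eq_one_of_pow_pow hPE hc (m := 2) (orderOf_dvd_iff_pow_eq_one.1 (h4.dvd))
    have := orderOf_le_of_pow_eq_one two_pos h1
    omega
  have hnd : ¬ p ∣ orderOf x := fun hd => by
    rw [h4, show (4 : ℕ) = 2 ^ 2 from rfl] at hd
    exact hp2 ((Nat.prime_dvd_prime_iff_eq (Fact.out : p.Prime) Nat.prime_two).1 ((Fact.out : p.Prime).dvd_of_dvd_pow hd))
  have hodd : Odd (Nat.card F) := by
    obtain ⟨k, -, hk⟩ := card_eq_charPow (F := F) (p := p)
    rw [hk]
    exact ((Fact.out : p.Prime).odd_of_ne_two hp2).pow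
  have h := order_dvd_pslRange p hx hnd
  rw [h4, gcd_two_card_sub_one_of_odd hodd] at h
  obtain ⟨j, hj⟩ := hodd
  rcases h with h | h <;> omega

theorem fourNorm_le_psl_iff (hodd : Odd (Nat.card F)) {x y : PG} (h : FourPair x y) :
    fourNorm x y ≤ pslRange F ↔ Nat.card F % 8 = 1 ∨ Nat.card F % 8 = 7 := by
  obtain ⟨p, hp⟩ := CharP.exists F
  haveI := Fact.mk (CharP.char_is_prime F p)
  haveI := charP_ext2 (F := F) (p := p)
  obtain ⟨e⟩ := h.norm_equiv hodd
  constructor
  · intro hle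
    obtain ⟨g, hg⟩ := exists_orderOf_four_perm
    refine card_mod_of_orderOf_four p (hle (e.symm g).2) ?_
    rw [Subgroup.orderOf_coe, MulEquiv.orderOf_eq, hg]
  · intro h8
    obtain ⟨a, b, hg, hxa, hxb, h4⟩ := invol_fix p hodd h.hx h.x1 h.sx
    have htc : 8 ∣ torusCard a := by
      rw [torusCard] at h4 ⊢
      split_ifs at h4 ⊢ <;> omega
    have h3 : IsRat a → Nat.card F ≠ 3 := fun _ e => by omega
    obtain ⟨r, w, hr, -, hra, hrb, -, -, hro, -, -, -⟩ := torus_psl hg h3
    rw [gcd_two_card_sub_one_of_odd hodd] at hro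
    have hpos : 0 < orderOf r := orderOf_pos r
    have hto : orderOf (r ^ (orderOf r / 4)) = 4 := by
      rw [orderOf_pow' r (by omega), Nat.gcd_eq_right (Nat.div_dvd_of_dvd (by omega)),
        Nat.div_div_self (by omega) (by omega)]
    set t := r ^ (orderOf r / 4)
    have htL : t ∈ pslRange F := (pslRange F).pow_mem hr _
    have hta : t • a = a := (stabilizer PG a).pow_mem hra _
    have htb : t • b = b := (stabilizer PG b).pow_mem hrb _
    have htx : t * t = x := by
      refine invol_unique hg.1 (fun e => ?_) h.x1 ?_ h.sx (by rw [mul_smul, hta, hta]) (by rw [mul_smul, htb, htb]) hxa hxb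
      · have := orderOf_le_of_pow_eq_one two_pos ((pow_two t).trans e)
        omega
      · rw [← mul_assoc, ← pow_two, ← pow_succ, ← pow_succ]
        exact orderOf_dvd_iff_pow_eq_one.1 hto.dvd
    obtain ⟨hya, hyb⟩ := h.swap hg.1 hxa hxb
    have hPE : P1Like p PG (ℙ (Ext2 F p) (Fin 2 → Ext2 F p)) := p1Like_ext
    have hsq := hPE.swap_sq (g := y * t⁻¹) hg.1 (by rw [mul_smul, inv_smul_eq_iff.2 hta.symm, hya])
      (by rw [mul_smul, inv_smul_eq_iff.2 htb.symm, hyb])
    have htN : t ∈ fourNorm x y := by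
      refine h.mem_norm hodd ?_ ?_
      · rw [← htx, show t * (t * t) * t⁻¹ = t * t by group, htx]
        exact h.left_mem
      · have h1 : y * t⁻¹ = t * y⁻¹ := by rw [← inv_eq_of_mul_eq_one_right hsq]; group
        rw [mul_assoc, h1, ← mul_assoc, htx, inv_eq_of_mul_eq_one_right h.sy]
        exact mul_mem h.left_mem h.right_mem
    by_contra hle
    have hidx : ((pslRange F).subgroupOf (fourNorm x y)).index = 2 := by
      have hd := Subgroup.relIndex_dvd_index_of_normal (pslRange F) (fourNorm x y)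
      rw [index_pslRange, gcd_two_card_sub_one_of_odd hodd] at hd
      exact ((Nat.dvd_prime Nat.prime_two).1 hd).resolve_left fun h1 => hle (Subgroup.relIndex_eq_one.1 h1)
    obtain ⟨i⟩ := alt_of_index_two e hidx
    refine orderOf_four_alternating (i ⟨⟨t, htN⟩, htL⟩) ?_
    rw [MulEquiv.orderOf_eq, ← Subgroup.orderOf_coe, ← Subgroup.orderOf_coe]
    exact hto

/-- The property of containing a normal four-group. -/
def HasFour (G : Type*) [Group G] : Prop :=
  ∃ a b : G, a ≠ 1 ∧ b ≠ 1 ∧ a ≠ b ∧ a * a = 1 ∧ b * b = 1 ∧ a * b = b * a ∧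
    ∀ g : G, (g * a * g⁻¹ = a ∨ g * a * g⁻¹ = b ∨ g * a * g⁻¹ = a * b) ∧
      (g * b * g⁻¹ = a ∨ g * b * g⁻¹ = b ∨ g * b * g⁻¹ = a * b)

theorem hasFour_perm : HasFour (Equiv.Perm (Fin 4)) :=
  ⟨Equiv.swap 0 1 * Equiv.swap 2 3, Equiv.swap 0 2 * Equiv.swap 1 3,
    by decide, by decide, by decide, by decide, by decide, by decide, by decide⟩

theorem hasFour_alt : HasFour (alternatingGroup (Fin 4)) :=
  ⟨⟨Equiv.swap 0 1 * Equiv.swap 2 3, Equiv.Perm.mem_alternatingGroup.2 (by decide)⟩,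
    ⟨Equiv.swap 0 2 * Equiv.swap 1 3, Equiv.Perm.mem_alternatingGroup.2 (by decide)⟩,
    by decide, by decide, by decide, by decide, by decide, by decide, by decide⟩

/-- A subgroup with a normal four-group sits in the normaliser of a four-pair. -/
theorem pair_of_subgroup (hodd : Odd (Nat.card F)) {G : Type*} [Group G] (hG : HasFour G) {X : Subgroup PG}
    (hX : X ≤ pslRange F) (e : X ≃* G) : ∃ x y : PG, FourPair x y ∧ X ≤ fourNorm x y := by
  obtain ⟨a, b, ha, hb, hab, haa, hbb, hc, hg⟩ := hG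
  set φ : G →* PG := X.subtype.comp e.symm.toMonoidHom with hφd
  have hφ : Function.Injective φ := X.subtype_injective.comp e.symm.injective
  have hmem : ∀ g, φ g ∈ X := fun g => (e.symm g).2
  have hp : FourPair (φ a) (φ b) :=
    { hx := hX (hmem a)
      hy := hX (hmem b)
      x1 := fun h => ha (hφ (h.trans (map_one φ).symm))
      y1 := fun h => hb (hφ (h.trans (map_one φ).symm))
      ne := fun h => hab (hφ h)
      sx := by rw [← map_mul, haa, map_one]
      sy := by rw [← map_mul, hbb, map_one]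
      comm := by show φ a * φ b = φ b * φ a; rw [← map_mul, hc, map_mul] }
  refine ⟨_, _, hp, fun z hz => ?_⟩
  have hz' : φ (e ⟨z, hz⟩) = z := by simp [hφd]
  obtain ⟨h1, h2⟩ := hg (e ⟨z, hz⟩)
  refine hp.mem_norm hodd ?_ ?_
  · rw [← hz', ← map_mul, ← map_inv, ← map_mul]
    rcases h1 with r | r | r <;> rw [r]
    · exact hp.left_mem
    · exact hp.right_mem
    · rw [map_mul]; exact mul_mem hp.left_mem hp.right_mem
  · rw [← hz', ← map_mul, ← map_inv, ← map_mul]
    rcases h2 with r | r | r <;> rw [r]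
    · exact hp.left_mem
    · exact hp.right_mem
    · rw [map_mul]; exact mul_mem hp.left_mem hp.right_mem

/-- A subgroup of type `S₄` is the normaliser of its four-group. -/
theorem eq_norm_of_perm (hodd : Odd (Nat.card F)) {Y : Subgroup PG} (hY : Y ≤ pslRange F)
    (e : Y ≃* Equiv.Perm (Fin 4)) : ∃ x y : PG, FourPair x y ∧ Y = fourNorm x y := by
  obtain ⟨x, y, h, hle⟩ := pair_of_subgroup hodd hasFour_perm hY e
  refine ⟨x, y, h, Subgroup.eq_of_le_of_card_ge hle ?_⟩
  rw [h.card_norm hodd, Nat.card_congr e.toEquiv, Nat.card_perm, Nat.card_fin]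
  rfl

theorem card_alt_four : Nat.card (alternatingGroup (Fin 4)) = 12 := by
  rw [nat_card_alternatingGroup, Nat.card_fin]; rfl

theorem card_perm_four : Nat.card (Equiv.Perm (Fin 4)) = 24 := by
  rw [Nat.card_perm, Nat.card_fin]; rfl

theorem card_alt_five : Nat.card (alternatingGroup (Fin 5)) = 60 := by
  rw [nat_card_alternatingGroup, Nat.card_fin]; rfl

/-- The `A₄` inside the normaliser of a four-group is unique. -/
theorem alt_unique (hodd : Odd (Nat.card F)) {x y : PG} (h : FourPair x y) {X X' : Subgroup PG}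
    (hX : X ≤ fourNorm x y) (hX' : X' ≤ fourNorm x y) (e : X ≃* alternatingGroup (Fin 4))
    (e' : X' ≃* alternatingGroup (Fin 4)) : X = X' := by
  obtain ⟨i⟩ := h.norm_equiv hodd
  have key : ∀ Z : Subgroup PG, Z ≤ fourNorm x y → Nat.card Z = 12 →
      (Z.subgroupOf (fourNorm x y)).map i.toMonoidHom = alternatingGroup (Fin 4) := by
    intro Z hZ hc
    refine Equiv.Perm.eq_alternatingGroup_of_index_eq_two ?_
    refine (Subgroup.index_map_equiv (Z.subgroupOf (fourNorm x y)) i).trans ?_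
    have h1 := (Z.subgroupOf (fourNorm x y)).card_mul_index
    rw [Nat.card_congr (Subgroup.subgroupOfEquivOfLe hZ).toEquiv, hc, h.card_norm hodd] at h1
    omega
  have h2 := (key X hX ((Nat.card_congr e.toEquiv).trans card_alt_four)).trans
    (key X' hX' ((Nat.card_congr e'.toEquiv).trans card_alt_four)).symm
  have h3 := Subgroup.map_injective i.injective h2
  rw [← Subgroup.map_subgroupOf_eq_of_le hX, ← Subgroup.map_subgroupOf_eq_of_le hX', h3]

theorem FourPair.exists_alt (hodd : Odd (Nat.card F)) {x y : PG} (h : FourPair x y) :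
    ∃ X : Subgroup PG, X ≤ fourNorm x y ∧ X ≤ pslRange F ∧ Nonempty (X ≃* alternatingGroup (Fin 4)) := by
  obtain ⟨i⟩ := h.norm_equiv hodd
  by_cases hle : fourNorm x y ≤ pslRange F
  · let K : Subgroup (fourNorm x y) := (alternatingGroup (Fin 4)).map i.symm.toMonoidHom
    exact ⟨K.map (fourNorm x y).subtype, Subgroup.map_subtype_le K, (Subgroup.map_subtype_le K).trans hle,
      ⟨((K.equivMapOfInjective _ (fourNorm x y).subtype_injective).symm).trans
        ((alternatingGroup (Fin 4)).equivMapOfInjective _ i.symm.injective).symm⟩⟩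
  · have hidx : ((pslRange F).subgroupOf (fourNorm x y)).index = 2 := by
      have hd := Subgroup.relIndex_dvd_index_of_normal (pslRange F) (fourNorm x y)
      rw [index_pslRange, gcd_two_card_sub_one_of_odd hodd] at hd
      exact ((Nat.dvd_prime Nat.prime_two).1 hd).resolve_left fun h1 => hle (Subgroup.relIndex_eq_one.1 h1)
    obtain ⟨j⟩ := alt_of_index_two i hidx
    refine ⟨fourNorm x y ⊓ pslRange F, inf_le_left, inf_le_right, ⟨?_⟩⟩
    refine ((Subgroup.subgroupOfEquivOfLe (inf_le_left : fourNorm x y ⊓ pslRange F ≤ fourNorm x y)).symm.trans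
      (MulEquiv.subgroupCongr ?_)).trans j
    rw [inf_comm, Subgroup.inf_subgroupOf_right]

theorem exists_alt_four (hodd : Odd (Nat.card F)) :
    ∃ X : Subgroup PG, X ≤ pslRange F ∧ Nonempty (X ≃* alternatingGroup (Fin 4)) := by
  obtain ⟨p, hp⟩ := CharP.exists F
  haveI := Fact.mk (CharP.char_is_prime F p)
  obtain ⟨x, y, h⟩ := exists_fourPair p hodd
  obtain ⟨X, -, hX, e⟩ := h.exists_alt hodd
  exact ⟨X, hX, e⟩

theorem exists_perm_four (hodd : Odd (Nat.card F)) (h8 : Nat.card F % 8 = 1 ∨ Nat.card F % 8 = 7) :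
    ∃ Y : Subgroup PG, Y ≤ pslRange F ∧ Nonempty (Y ≃* Equiv.Perm (Fin 4)) := by
  obtain ⟨p, hp⟩ := CharP.exists F
  haveI := Fact.mk (CharP.char_is_prime F p)
  obtain ⟨x, y, h⟩ := exists_fourPair p hodd
  exact ⟨fourNorm x y, (fourNorm_le_psl_iff hodd h).2 h8, h.norm_equiv hodd⟩

theorem fourNorm_map_conj (g x y : PG) :
    (fourNorm x y).map (MulAut.conj g).toMonoidHom = fourNorm (g * x * g⁻¹) (g * y * g⁻¹) := by
  have h1 : (fourGrp x y).map (MulAut.conj g).toMonoidHom = fourGrp (g * x * g⁻¹) (g * y * g⁻¹) := by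
    ext z
    rw [mem_fourGrp, Subgroup.mem_map_equiv, mem_fourGrp]
    have key : ∀ u : PG, Commute ((MulAut.conj g).symm z) u ↔ Commute z (g * u * g⁻¹) := fun u => by
      rw [← commute_map_iff (f := MulAut.conj g) (MulAut.conj g).injective, MulEquiv.apply_symm_apply,
        MulAut.conj_apply]
    rw [key, key]
  rw [fourNorm, fourNorm, ← h1]
  exact Subgroup.map_equiv_normalizer_eq _ (MulAut.conj g)

variable (p) in
include p in
/-- All subgroups of type `A₄` are conjugate in `PGL₂(F)`. -/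
theorem alt_four_conj (hodd : Odd (Nat.card F)) {X X' : Subgroup PG} (hX : X ≤ pslRange F) (hX' : X' ≤ pslRange F)
    (e : X ≃* alternatingGroup (Fin 4)) (e' : X' ≃* alternatingGroup (Fin 4)) :
    ∃ g : PG, X.map (MulAut.conj g).toMonoidHom = X' := by
  obtain ⟨x, y, h, hle⟩ := pair_of_subgroup hodd hasFour_alt hX e
  obtain ⟨x', y', h', hle'⟩ := pair_of_subgroup hodd hasFour_alt hX' e'
  obtain ⟨g, rfl, rfl⟩ := h.conj p hodd h'
  refine ⟨g, alt_unique hodd h' ?_ hle' ((X.equivMapOfInjective _ (MulAut.conj g).injective).symm.trans e) e'⟩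
  rw [← fourNorm_map_conj]
  exact Subgroup.map_mono hle

variable (p) in
include p in
/-- All subgroups of type `S₄` are conjugate in `PGL₂(F)`. -/
theorem perm_four_conj (hodd : Odd (Nat.card F)) {Y Y' : Subgroup PG} (hY : Y ≤ pslRange F) (hY' : Y' ≤ pslRange F)
    (e : Y ≃* Equiv.Perm (Fin 4)) (e' : Y' ≃* Equiv.Perm (Fin 4)) :
    ∃ g : PG, Y.map (MulAut.conj g).toMonoidHom = Y' := by
  obtain ⟨x, y, h, rfl⟩ := eq_norm_of_perm hodd hY e
  obtain ⟨x', y', h', rfl⟩ := eq_norm_of_perm hodd hY' e'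
  obtain ⟨g, rfl, rfl⟩ := h.conj p hodd h'
  exact ⟨g, fourNorm_map_conj g x y⟩

/-- For `q ≡ ±1 (mod 8)` every `A₄` lies in an `S₄`. -/
theorem alt_le_perm (hodd : Odd (Nat.card F)) (h8 : Nat.card F % 8 = 1 ∨ Nat.card F % 8 = 7) {X : Subgroup PG}
    (hX : X ≤ pslRange F) (e : X ≃* alternatingGroup (Fin 4)) :
    ∃ Y : Subgroup PG, X < Y ∧ Y ≤ pslRange F ∧ Nonempty (Y ≃* Equiv.Perm (Fin 4)) := by
  obtain ⟨x, y, h, hle⟩ := pair_of_subgroup hodd hasFour_alt hX e
  refine ⟨fourNorm x y, lt_of_le_of_ne hle fun he => ?_, (fourNorm_le_psl_iff hodd h).2 h8, h.norm_equiv hodd⟩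
  have h1 := h.card_norm hodd
  rw [← he, Nat.card_congr e.toEquiv, card_alt_four] at h1
  omega

theorem fourGrp_map_conj (g x y : PG) :
    (fourGrp x y).map (MulAut.conj g).toMonoidHom = fourGrp (g * x * g⁻¹) (g * y * g⁻¹) := by
  ext z
  rw [mem_fourGrp, Subgroup.mem_map_equiv, mem_fourGrp]
  have key : ∀ u : PG, Commute ((MulAut.conj g).symm z) u ↔ Commute z (g * u * g⁻¹) := fun u => by
    rw [← commute_map_iff (f := MulAut.conj g) (MulAut.conj g).injective, MulEquiv.apply_symm_apply,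
      MulAut.conj_apply]
  rw [key, key]

variable (p) in
include p in
/-- All four-groups of `PSL₂(F)` are conjugate in `PGL₂(F)`. -/
theorem klein_conj (hodd : Odd (Nat.card F)) {V W : Subgroup PG} (hV : IsKleinFour V) (hV' : V ≤ pslRange F)
    (hW : IsKleinFour W) (hW' : W ≤ pslRange F) : ∃ g : PG, V.map (MulAut.conj g).toMonoidHom = W := by
  obtain ⟨x, y, h, rfl⟩ := pair_of_klein hodd hV hV'
  obtain ⟨x', y', h', rfl⟩ := pair_of_klein hodd hW hW'
  obtain ⟨g, rfl, rfl⟩ := h.conj p hodd h'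
  exact ⟨g, fourGrp_map_conj g x y⟩

theorem map_conj_eq_iff {H : Subgroup PG} {g h : PG} :
    H.map (MulAut.conj g).toMonoidHom = H.map (MulAut.conj h).toMonoidHom ↔
      g⁻¹ * h ∈ Subgroup.normalizer (H : Set PG) := by
  rw [Subgroup.mem_normalizer_iff_map_conj_eq]
  have key : ∀ a b : PG, (H.map (MulAut.conj b).toMonoidHom).map (MulAut.conj a).toMonoidHom =
      H.map (MulAut.conj (a * b)).toMonoidHom := fun a b => by
    rw [Subgroup.map_map, map_mul]
    rfl
  constructor
  · intro e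
    show H.map (MulAut.conj (g⁻¹ * h)).toMonoidHom = H
    rw [← key, ← e, key, inv_mul_cancel, map_one]
    exact Subgroup.map_id H
  · intro e
    have e' : H.map (MulAut.conj (g⁻¹ * h)).toMonoidHom = H := e
    conv_lhs => rw [← e', key, mul_inv_cancel_left]

variable (p) in
include p in
theorem card_klein (hodd : Odd (Nat.card F)) :
    24 * Nat.card {V : Subgroup PG // IsKleinFour V ∧ V ≤ pslRange F} = Nat.card PG := by
  obtain ⟨x, y, h⟩ := exists_fourPair p hodd
  let f : PG → {V : Subgroup PG // IsKleinFour V ∧ V ≤ pslRange F} := fun g =>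
    ⟨(fourGrp x y).map (MulAut.conj g).toMonoidHom, by
      have hg : FourPair (g * x * g⁻¹) (g * y * g⁻¹) :=
        { hx := normal_pslRange.conj_mem _ h.hx g
          hy := normal_pslRange.conj_mem _ h.hy g
          x1 := fun e => h.x1 (conj_eq_one_iff.1 e)
          y1 := fun e => h.y1 (conj_eq_one_iff.1 e)
          ne := fun e => h.ne (mul_left_cancel (mul_right_cancel e))
          sx := by rw [show g * x * g⁻¹ * (g * x * g⁻¹) = g * (x * x) * g⁻¹ by group, h.sx, mul_one, mul_inv_cancel]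
          sy := by rw [show g * y * g⁻¹ * (g * y * g⁻¹) = g * (y * y) * g⁻¹ by group, h.sy, mul_one, mul_inv_cancel]
          comm := h.comm.map (MulAut.conj g).toMonoidHom }
      rw [fourGrp_map_conj]
      exact ⟨hg.isKlein hodd, hg.four_le hodd⟩⟩
  have hf : ∀ g h' : PG, f g = f h' ↔ g⁻¹ * h' ∈ fourNorm x y := fun g h' =>
    Subtype.ext_iff.trans map_conj_eq_iff
  let f' : PG ⧸ fourNorm x y → {V : Subgroup PG // IsKleinFour V ∧ V ≤ pslRange F} :=
    Quotient.lift f fun a b hab => (hf a b).2 (QuotientGroup.leftRel_apply.1 hab)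
  have hb : Function.Bijective f' := by
    constructor
    · rintro ⟨a⟩ ⟨b⟩ e
      exact QuotientGroup.eq.2 ((hf a b).1 e)
    · rintro ⟨W, hW, hW'⟩
      obtain ⟨g, hg⟩ := klein_conj p hodd (h.isKlein hodd) (h.four_le hodd) hW hW'
      exact ⟨(g : PG ⧸ fourNorm x y), Subtype.ext hg⟩
  rw [← Nat.card_congr (Equiv.ofBijective f' hb), ← (fourNorm x y).index_mul_card, h.card_norm hodd, mul_comm]
  rfl

variable (p) in
include p in
theorem klein_conj_psl (hodd : Odd (Nat.card F)) (h8 : ¬ (Nat.card F % 8 = 1 ∨ Nat.card F % 8 = 7))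
    {V W : Subgroup PG} (hV : IsKleinFour V) (hV' : V ≤ pslRange F)
    (hW : IsKleinFour W) (hW' : W ≤ pslRange F) :
    ∃ g ∈ pslRange F, V.map (MulAut.conj g).toMonoidHom = W := by
  obtain ⟨g, hg⟩ := klein_conj p hodd hV hV' hW hW'
  by_cases hgL : g ∈ pslRange F
  · exact ⟨g, hgL, hg⟩
  obtain ⟨x, y, h, rfl⟩ := pair_of_klein hodd hV hV'
  obtain ⟨n, hnN, hn⟩ := SetLike.not_le_iff_exists.1 fun hle => h8 ((fourNorm_le_psl_iff hodd h).1 hle)
  refine ⟨g * n, ?_, ?_⟩
  · exact (Subgroup.mul_mem_iff_of_index_two (by rw [index_pslRange, gcd_two_card_sub_one_of_odd hodd])).2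
      ⟨fun e => absurd e hgL, fun e => absurd e hn⟩
  · rw [← hg]
    refine (map_conj_eq_iff.2 ?_)
    rw [_root_.mul_inv_rev, inv_mul_cancel_right]
    exact inv_mem hnN

variable (p) in
include p in
theorem klein_two_classes (hodd : Odd (Nat.card F)) (h8 : Nat.card F % 8 = 1 ∨ Nat.card F % 8 = 7) :
    ∃ V₁ V₂ : Subgroup PG, (IsKleinFour V₁ ∧ V₁ ≤ pslRange F) ∧ (IsKleinFour V₂ ∧ V₂ ≤ pslRange F) ∧
      (∀ g ∈ pslRange F, V₁.map (MulAut.conj g).toMonoidHom ≠ V₂) ∧
      ∀ W : Subgroup PG, IsKleinFour W → W ≤ pslRange F →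
        (∃ g ∈ pslRange F, V₁.map (MulAut.conj g).toMonoidHom = W) ∨
          (∃ g ∈ pslRange F, V₂.map (MulAut.conj g).toMonoidHom = W) := by
  obtain ⟨x, y, h⟩ := exists_fourPair p hodd
  have hidx : (pslRange F).index = 2 := by rw [index_pslRange, gcd_two_card_sub_one_of_odd hodd]
  obtain ⟨g₀, hg₀⟩ : ∃ g₀ : PG, g₀ ∉ pslRange F := by
    by_contra hall
    push Not at hall
    rw [(Subgroup.eq_top_iff' _).2 hall, Subgroup.index_top] at hidx
    omega
  have hN := (fourNorm_le_psl_iff hodd h).2 h8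
  refine ⟨fourGrp x y, (fourGrp x y).map (MulAut.conj g₀).toMonoidHom, ⟨h.isKlein hodd, h.four_le hodd⟩, ⟨?_, ?_⟩,
    ?_, ?_⟩
  · haveI := h.isKlein hodd
    let e := (fourGrp x y).equivMapOfInjective (MulAut.conj g₀).toMonoidHom (MulAut.conj g₀).injective
    exact ⟨(Nat.card_congr e.toEquiv).symm.trans IsKleinFour.card_four,
      (Monoid.exponent_eq_of_mulEquiv e).symm.trans IsKleinFour.exponent_two⟩
  · rintro _ ⟨v, hv, rfl⟩
    exact normal_pslRange.conj_mem _ (h.four_le hodd hv) g₀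
  · intro g hg e
    have h1 := hN (map_conj_eq_iff.1 e)
    exact hg₀ ((Subgroup.mul_mem_cancel_left _ (inv_mem hg)).1 h1)
  · intro W hW hW'
    obtain ⟨g, hg⟩ := klein_conj p hodd (h.isKlein hodd) (h.four_le hodd) hW hW'
    by_cases hgL : g ∈ pslRange F
    · exact .inl ⟨g, hgL, hg⟩
    · refine .inr ⟨g * g₀⁻¹, (Subgroup.mul_mem_iff_of_index_two hidx).2
        ⟨fun e => absurd e hgL, fun e => absurd (inv_mem_iff.1 e) hg₀⟩, ?_⟩
      rw [← hg, Subgroup.map_map]
      congr 1
      ext z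
      simp [mul_assoc]

end CfsgLib.PSL2
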