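import Mathlib

/-!
Projective groups over isomorphic fields.
-/

set_option autoImplicit false

namespace CfsgLib.PSL2

open Matrix

variable {n : Type*} [Fintype n] [DecidableEq n] {R S : Type*} [CommRing R] [CommRing S]

theorem nonempty_pgl_congr (e : R ≃+* S) :
    Nonempty (Matrix.ProjGenLinGroup n R ≃* Matrix.ProjGenLinGroup n S) :=
  ⟨{ toFun := ProjGenLinGroup.map e.toRingHom
     invFun := ProjGenLinGroup.map e.symm.toRingHom
     left_inv := fun x => by
       rw [← MonoidHom.comp_apply, ← ProjGenLinGroup.map_comp, RingEquiv.toRingHom_eq_coe,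
         RingEquiv.toRingHom_eq_coe, RingEquiv.symm_comp, ProjGenLinGroup.map_id]
       rfl
     right_inv := fun x => by
       rw [← MonoidHom.comp_apply, ← ProjGenLinGroup.map_comp, RingEquiv.toRingHom_eq_coe,
         RingEquiv.toRingHom_eq_coe, RingEquiv.comp_symm, ProjGenLinGroup.map_id]
       rfl
     map_mul' := map_mul _ }⟩

theorem nonempty_psl_congr (e : R ≃+* S) :
    Nonempty (Matrix.ProjectiveSpecialLinearGroup n R ≃* Matrix.ProjectiveSpecialLinearGroup n S) := by
  let E : Matrix.SpecialLinearGroup n R ≃* Matrix.SpecialLinearGroup n S :=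
    { toFun := Matrix.SpecialLinearGroup.map e.toRingHom
      invFun := Matrix.SpecialLinearGroup.map e.symm.toRingHom
      left_inv := fun g => by ext i j; simp
      right_inv := fun g => by ext i j; simp
      map_mul' := map_mul _ }
  exact ⟨QuotientGroup.congr _ _ E (by
    ext x
    show x ∈ Subgroup.map E.toMonoidHom _ ↔ _
    rw [Subgroup.mem_map_equiv, Subgroup.mem_center_iff, Subgroup.mem_center_iff]
    constructor
    · intro h y
      simpa using congrArg E (h (E.symm y))
    · intro h y
      apply E.injective
      simpa using h (E y))⟩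

end CfsgLib.PSL2
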