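import Cfsg.Agent.Lib.PSL2.Orbits

/-!
Solving the orbit equation.
-/

set_option autoImplicit false
set_option linter.style.haveILetI false
set_option linter.unusedSectionVars false

namespace CfsgLib.PSL2

open MulAction

variable {p : ℕ} {G X : Type*} [Group G] [MulAction G X] [Finite G] [Finite X] [Fact p.Prime]

theorem orbit_card_pos (a : X) : 0 < Nat.card (orbit G a) :=
  Nat.card_pos_iff.2 ⟨⟨⟨a, mem_orbit_self a⟩⟩, inferInstance⟩

/-- The classes of points with non-trivial stabilisers, other than a given one. -/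
noncomputable def bigOrbits (G X : Type*) [Group G] [MulAction G X] [Fintype (orbitRel.Quotient G X)] :
    Finset (orbitRel.Quotient G X) :=
  Finset.univ.filter fun ω => 2 ≤ Nat.card (stabilizer G ω.out)

/-- The contribution of an orbit. -/
noncomputable def orbCon (G X : Type*) [Group G] [MulAction G X] (ω : orbitRel.Quotient G X) : ℕ :=
  Nat.card G - Nat.card (orbit G ω.out)

theorem two_mul_orbit_le {ω : orbitRel.Quotient G X} [Fintype (orbitRel.Quotient G X)]
    (hω : ω ∈ bigOrbits G X) : 2 * Nat.card (orbit G ω.out) ≤ Nat.card G := by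
  rw [bigOrbits, Finset.mem_filter] at hω
  rw [← card_orbit_mul (G := G) ω.out, mul_comm 2]
  exact Nat.mul_le_mul_left _ hω.2

theorem orbit_eq_of_mem_class {a b : X} (h : b ∈ orbit G a) :
    (Quotient.mk'' b : orbitRel.Quotient G X) = Quotient.mk'' a := Quotient.sound' h

/-- The orbit equation. -/
theorem orbit_equation (hP : P1Like p G X) (hfix : ∀ g : G, ∃ a : X, g • a = a) [Fintype X]
    [Fintype (orbitRel.Quotient G X)] :
    (∑ ω ∈ bigOrbits G X, orbCon G X ω) + numParabolic p G = 2 * (Nat.card G - 1) := by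
  classical
  rw [← sum_stabilizer_add hP hfix,
    sum_orbits (G := G) (fun a => Nat.card (stabilizer G a) - 1) (fun g a => by simp only [card_stabilizer_smul])]
  congr 1
  rw [bigOrbits, Finset.sum_filter]
  refine Finset.sum_congr rfl fun ω _ => ?_
  have h := card_orbit_mul (G := G) ω.out
  split_ifs with h2
  · rw [orbCon, ← h, Nat.mul_sub_one]
  · have h1 : Nat.card (stabilizer G ω.out) = 1 := by
      have := Nat.card_pos (α := stabilizer G ω.out); omega
    rw [h1, Nat.sub_self, mul_zero]

theorem card_stabilizer_eq_of_orbit (a : X) {m : ℕ} (hm : Nat.card (orbit G a) = m) :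
    m * Nat.card (stabilizer G a) = Nat.card G := hm ▸ card_orbit_mul a

/-- The outcomes of the classification of finite groups of Möbius transformations. -/
inductive P1Case (p : ℕ) (G X : Type*) [Group G] [MulAction G X] : Prop
  | borel (a : X) (hp : p ∣ Nat.card G) (hfix : ∀ g : G, g • a = a) : P1Case p G X
  | cyclic (hp : ¬ p ∣ Nat.card G) (a b : X) (hab : a ≠ b) (ha : ∀ g : G, g • a = a)
      (hb : ∀ g : G, g • b = b) : P1Case p G X
  | trivial (hG : Nat.card G = 1) : P1Case p G X
  | dihedral (a b : X) (hab : a ≠ b) (horb : orbit G a = {a, b})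
      (hk : 2 ≤ Nat.card (stabilizer G a)) (hp : ¬ p ∣ Nat.card (stabilizer G a)) : P1Case p G X
  | tetra (hp : ¬ p ∣ Nat.card G) (a : X) (hN : Nat.card G = 12) (ho : Nat.card (orbit G a) = 4) : P1Case p G X
  | octa (hp : ¬ p ∣ Nat.card G) (a : X) (hN : Nat.card G = 24) (ho : Nat.card (orbit G a) = 8)
      (huniq : ∀ b : X, Nat.card (stabilizer G b) = 3 → b ∈ orbit G a)
      (hall : ∀ b : X, Nat.card (stabilizer G b) ∈ ({1, 2, 3, 4} : Finset ℕ)) : P1Case p G X
  | icosa (hp : ¬ p ∣ Nat.card G ∨ p = 3) (a : X) (hN : Nat.card G = 60)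
      (ho : Nat.card (orbit G a) = 12) : P1Case p G X
  | subfield (hP : P1Like p G X) (a : X) (Q e : ℕ) (hQ : Nat.card (unipAt hP a) = Q) (h2 : 2 ≤ Q)
      (he : e = Q - 1 ∨ 2 * e = Q - 1) (hS : Nat.card (stabilizer G a) = Q * e)
      (ho : Nat.card (orbit G a) = Q + 1) : P1Case p G X

theorem dvd_card_stabilizer (a : X) : Nat.card (stabilizer G a) ∣ Nat.card G :=
  Subgroup.card_subgroup_dvd_card _

/-- The case of order prime to `p`. -/
theorem case_coprime (hP : P1Like p G X) (hfix : ∀ g : G, ∃ a : X, g • a = a)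
    (hpN : ¬ p ∣ Nat.card G) : P1Case p G X := by
  classical
  haveI := Fintype.ofFinite X
  haveI := Fintype.ofFinite (orbitRel.Quotient G X)
  have hNpos : 0 < Nat.card G := Nat.card_pos
  rcases Nat.lt_or_ge (Nat.card G) 2 with hN | hN
  · exact .trivial (by omega)
  have hpar : numParabolic p G = 0 := by
    haveI : IsEmpty {g : G // g ≠ 1 ∧ g ^ p = 1} := ⟨fun ⟨g, hg1, hgp⟩ => hpN
      ((orderOf_eq_prime hgp hg1) ▸ orderOf_dvd_natCard g)⟩
    exact Nat.card_of_isEmpty
  have E := orbit_equation hP hfix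
  rw [hpar, add_zero] at E
  set R := bigOrbits G X
  have hbnd : R.card * Nat.card G ≤ 2 * ∑ ω ∈ R, orbCon G X ω := by
    rw [Finset.mul_sum, ← smul_eq_mul, ← Finset.sum_const]
    refine Finset.sum_le_sum fun ω hω => ?_
    have := two_mul_orbit_le hω
    rw [orbCon]; omega
  have hR : R.card ≤ 3 := by
    by_contra h
    have : 4 * Nat.card G ≤ R.card * Nat.card G := Nat.mul_le_mul_right _ (by omega)
    omega
  interval_cases hc : R.card
  · rw [Finset.card_eq_zero.1 hc, Finset.sum_empty] at E; omega
  · obtain ⟨ω, hω⟩ := Finset.card_eq_one.1 hc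
    rw [hω, Finset.sum_singleton, orbCon] at E
    have := orbit_card_pos (G := G) ω.out
    omega
  · obtain ⟨ω₁, ω₂, hne, hω⟩ := Finset.card_eq_two.1 hc
    rw [hω, Finset.sum_pair hne, orbCon, orbCon] at E
    have h1 := two_mul_orbit_le (show ω₁ ∈ R by simp [hω])
    have h2 := two_mul_orbit_le (show ω₂ ∈ R by simp [hω])
    have := orbit_card_pos (G := G) ω₁.out
    have := orbit_card_pos (G := G) ω₂.out
    have hone : ∀ ω : orbitRel.Quotient G X, Nat.card (orbit G ω.out) = 1 → ∀ g : G, g • ω.out = ω.out := by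
      intro ω h g
      haveI := (Nat.card_eq_one_iff_unique.1 h).1
      exact congrArg Subtype.val (Subsingleton.elim (⟨g • ω.out, mem_orbit _ g⟩ : orbit G ω.out)
        ⟨ω.out, mem_orbit_self _⟩)
    exact .cyclic hpN ω₁.out ω₂.out (fun h => hne (by rw [← Quotient.out_eq' ω₁, ← Quotient.out_eq' ω₂, h]))
      (hone ω₁ (by omega)) (hone ω₂ (by omega))
  · obtain ⟨ω₁, ω₂, ω₃, h12, h13, h23, hω⟩ := Finset.card_eq_three.1 hc
    obtain ⟨a, b, c, hab, hbc, hmem⟩ : ∃ a b c : X,
        Nat.card (orbit G a) ≤ Nat.card (orbit G b) ∧ Nat.card (orbit G b) ≤ Nat.card (orbit G c) ∧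
        ((∀ x : X, 2 ≤ Nat.card (stabilizer G x) → x ∈ orbit G a ∨ x ∈ orbit G b ∨ x ∈ orbit G c) ∧
        (2 ≤ Nat.card (stabilizer G a) ∧ 2 ≤ Nat.card (stabilizer G b) ∧ 2 ≤ Nat.card (stabilizer G c)) ∧
        Nat.card (orbit G a) + Nat.card (orbit G b) + Nat.card (orbit G c) = Nat.card G + 2) := by
      have hm : ∀ ω ∈ R, 2 ≤ Nat.card (stabilizer G ω.out) := fun ω hω => (Finset.mem_filter.1 hω).2
      have hcov : ∀ x : X, 2 ≤ Nat.card (stabilizer G x) →
          x ∈ orbit G ω₁.out ∨ x ∈ orbit G ω₂.out ∨ x ∈ orbit G ω₃.out := by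
        intro x hx
        set ω : orbitRel.Quotient G X := Quotient.mk'' x with hωx
        have hxo : x ∈ orbit G ω.out := by
          have h : (Quotient.mk'' x : orbitRel.Quotient G X) = Quotient.mk'' ω.out := by
            rw [Quotient.out_eq']
          exact Quotient.exact' h
        have hR : ω ∈ R := by
          obtain ⟨g, hg⟩ := hxo
          refine Finset.mem_filter.2 ⟨Finset.mem_univ _, ?_⟩
          rwa [← card_stabilizer_smul g, show g • ω.out = x from hg]
        rw [hω] at hR
        simp only [Finset.mem_insert, Finset.mem_singleton] at hR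
        rcases hR with h | h | h <;> rw [h] at hxo <;> tauto
      have h1 := hm ω₁ (by simp [hω])
      have h2 := hm ω₂ (by simp [hω])
      have h3 := hm ω₃ (by simp [hω])
      rw [hω, Finset.sum_insert (by simp [h12, h13]), Finset.sum_pair h23, orbCon, orbCon, orbCon] at E
      have := two_mul_orbit_le (show ω₁ ∈ R by simp [hω])
      have := two_mul_orbit_le (show ω₂ ∈ R by simp [hω])
      have := two_mul_orbit_le (show ω₃ ∈ R by simp [hω])
      rcases le_total (Nat.card (orbit G ω₁.out)) (Nat.card (orbit G ω₂.out)) with l1 | l1 <;>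
        rcases le_total (Nat.card (orbit G ω₁.out)) (Nat.card (orbit G ω₃.out)) with l2 | l2 <;>
        rcases le_total (Nat.card (orbit G ω₂.out)) (Nat.card (orbit G ω₃.out)) with l3 | l3
      all_goals first
        | exact ⟨ω₁.out, ω₂.out, ω₃.out, by omega, by omega, hcov, ⟨h1, h2, h3⟩, by omega⟩
        | exact ⟨ω₁.out, ω₃.out, ω₂.out, by omega, by omega, fun x hx => by rcases hcov x hx with h | h | h <;> simp [h], ⟨h1, h3, h2⟩, by omega⟩
        | exact ⟨ω₂.out, ω₁.out, ω₃.out, by omega, by omega, fun x hx => by rcases hcov x hx with h | h | h <;> simp [h], ⟨h2, h1, h3⟩, by omega⟩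
        | exact ⟨ω₂.out, ω₃.out, ω₁.out, by omega, by omega, fun x hx => by rcases hcov x hx with h | h | h <;> simp [h], ⟨h2, h3, h1⟩, by omega⟩
        | exact ⟨ω₃.out, ω₁.out, ω₂.out, by omega, by omega, fun x hx => by rcases hcov x hx with h | h | h <;> simp [h], ⟨h3, h1, h2⟩, by omega⟩
        | exact ⟨ω₃.out, ω₂.out, ω₁.out, by omega, by omega, fun x hx => by rcases hcov x hx with h | h | h <;> simp [h], ⟨h3, h2, h1⟩, by omega⟩
    obtain ⟨hcov, ⟨ha2, hb2, hc2⟩, hsum⟩ := hmem
    have ea := card_orbit_mul (G := G) a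
    have eb := card_orbit_mul (G := G) b
    have ec := card_orbit_mul (G := G) c
    have := orbit_card_pos (G := G) a
    set oa := Nat.card (orbit G a) with hoa
    set ob := Nat.card (orbit G b) with hob
    set oc := Nat.card (orbit G c) with hoc
    set sa := Nat.card (stabilizer G a) with hsa
    set sb := Nat.card (stabilizer G b) with hsb
    set sc := Nat.card (stabilizer G c) with hsc
    set N := Nat.card G with hNdef
    have hsc2 : sc = 2 := by
      by_contra h
      have : oc * 3 ≤ N := ec ▸ Nat.mul_le_mul_left _ (by omega)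
      omega
    rw [hsc2] at ec
    have hob4 : N < ob * 4 := by omega
    have hsb4 : sb < 4 := by
      by_contra h
      have : ob * 4 ≤ N := eb ▸ Nat.mul_le_mul_left _ (by omega)
      omega
    interval_cases hsb' : sb
    · -- dihedral
      have hoa2 : oa = 2 := by omega
      obtain ⟨b', hb', hne⟩ : ∃ b' ∈ orbit G a, b' ≠ a := by
        by_contra h
        push Not at h
        haveI : Subsingleton (orbit G a) := ⟨fun x y => Subtype.ext ((h _ x.2).trans (h _ y.2).symm)⟩
        have := Finite.card_le_one_iff_subsingleton.2 (inferInstance : Subsingleton (orbit G a))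
        omega
      refine .dihedral a b' hne.symm ?_ (by omega) (fun h => hpN (h.trans (dvd_card_stabilizer a)))
      refine (Set.eq_of_subset_of_ncard_le (Set.insert_subset (mem_orbit_self a)
        (Set.singleton_subset_iff.2 hb')) ?_ (Set.toFinite _)).symm
      rw [Set.ncard_pair hne.symm, ← Nat.card_coe_set_eq]
      omega
    · -- polyhedral
      have h6 : 6 * oa = N + 12 := by omega
      have hsa6 : sa < 6 := by
        by_contra h
        have : oa * 6 ≤ N := ea ▸ Nat.mul_le_mul_left _ (by omega)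
        omega
      have hsa3 : 3 ≤ sa := by
        by_contra h
        have : sa = 2 := by omega
        rw [this] at ea
        omega
      interval_cases hsa' : sa
      · exact .tetra hpN a (by omega) (by omega)
      · refine .octa hpN b (by omega) (by omega) (fun x hx => ?_) (fun x => ?_)
        · rcases hcov x (by omega) with h | h | h
          · obtain ⟨g, rfl⟩ := h; rw [card_stabilizer_smul] at hx; omega
          · exact h
          · obtain ⟨g, rfl⟩ := h; rw [card_stabilizer_smul] at hx; omega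
        · rcases Nat.lt_or_ge (Nat.card (stabilizer G x)) 2 with h | h
          · have := Nat.card_pos (α := stabilizer G x)
            simp only [Finset.mem_insert, Finset.mem_singleton]; omega
          · rcases hcov x h with h | h | h <;> obtain ⟨g, rfl⟩ := h <;>
              rw [card_stabilizer_smul] <;> simp only [Finset.mem_insert, Finset.mem_singleton] <;> omega
      · exact .icosa (.inl hpN) a (by omega) (by omega)

/-- The case of order divisible by `p`. -/
theorem case_modular (hP : P1Like p G X) (hfix : ∀ g : G, ∃ a : X, g • a = a)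
    (hpN : p ∣ Nat.card G) : P1Case p G X := by
  classical
  haveI := Fintype.ofFinite X
  haveI := Fintype.ofFinite G
  haveI := Fintype.ofFinite (orbitRel.Quotient G X)
  obtain ⟨g₀, hg₀⟩ := exists_prime_orderOf_dvd_card' p hpN
  have hg₀1 : g₀ ≠ 1 := fun h => (Fact.out : p.Prime).ne_one (by rw [← hg₀, h, orderOf_one])
  have hg₀p : g₀ ^ p = 1 := hg₀ ▸ pow_orderOf_eq_one g₀
  obtain ⟨a, ha⟩ := hfix g₀
  set U := unipAt hP a with hU
  set Q := Nat.card U with hQ
  set o := Nat.card (orbit G a) with ho
  set s := Nat.card (stabilizer G a) with hs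
  have hN : o * s = Nat.card G := card_orbit_mul a
  have hQ2 : 2 ≤ Q := by
    haveI : Nontrivial U := ⟨⟨g₀, ha, hg₀p⟩, 1, fun h => hg₀1 (congrArg Subtype.val h)⟩
    exact Finite.one_lt_card
  have hUfix : ∀ u : U, ∀ b : X, (u : G) • b = b → u = 1 ∨ b = a := fun u b hb => by
    by_cases h : u = 1
    · exact .inl h
    · exact .inr (hP.unique_fix (fun e => h (Subtype.ext e)) u.2.2 hb u.2.1)
  have hQo : ∃ f, o = 1 + f * Q := by
    let Y := {b : X // b ∈ orbit G a ∧ b ≠ a}
    letI : MulAction U Y :=
      { smul := fun u y => ⟨(u : G) • y.1, by obtain ⟨g, hg⟩ := y.2.1; exact ⟨(u : G) * g, (mul_smul _ _ _).trans (congrArg _ hg)⟩, fun h => y.2.2 (by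
          have h2 : y.1 = (u : G)⁻¹ • a := eq_inv_smul_iff.2 h
          rwa [inv_smul_eq_iff.2 u.2.1.symm] at h2)⟩
        one_smul := fun y => Subtype.ext (one_smul G y.1)
        mul_smul := fun u v y => Subtype.ext (mul_smul (u : G) v y.1) }
    obtain ⟨f, hf⟩ := card_dvd_of_free (K := U) (Y := Y)
      (fun u y h => (hUfix u y.1 (congrArg Subtype.val h)).resolve_right y.2.2)
    refine ⟨f, ?_⟩
    have hins : (orbit G a) = insert a {b | b ∈ orbit G a ∧ b ≠ a} := by
      ext b
      refine ⟨fun hb => ?_, ?_⟩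
      · rcases eq_or_ne b a with rfl | h
        · exact Set.mem_insert _ _
        · exact Set.mem_insert_of_mem _ ⟨hb, h⟩
      · rintro (rfl | hb)
        · exact mem_orbit_self _
        · exact hb.1
    rw [ho, Nat.card_coe_set_eq, hins, Set.ncard_insert_of_notMem (fun h => h.2 rfl) (Set.toFinite _),
      ← Nat.card_coe_set_eq]
    show Nat.card Y + 1 = _
    rw [hf, hQ, mul_comm, add_comm]
  obtain ⟨f, hf⟩ := hQo
  have hQs : Q ∣ s := Subgroup.card_dvd_of_le (unipAt_le hP a)
  obtain ⟨e, he⟩ := hQs
  have hsQ : s ≤ Q * (Q - 1) := by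
    let T : Finset G := Finset.univ.filter fun x => x ∈ stabilizer G a
    let W : Finset G := (Finset.univ.filter fun x => x ∈ U).erase 1
    have hT : T.card = s := by rw [hs, Nat.card_eq_fintype_card]; exact (Fintype.card_subtype _).symm
    have hW : W.card = Q - 1 := by
      rw [Finset.card_erase_of_mem (by simp [one_mem]), hQ, Nat.card_eq_fintype_card]
      exact congrArg (· - 1) (Fintype.card_subtype _).symm
    have himg : T.image (fun x => x * g₀ * x⁻¹) ⊆ W := by
      intro y hy
      simp only [T, Finset.mem_image, Finset.mem_filter, Finset.mem_univ, true_and, mem_stabilizer_iff] at hy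
      obtain ⟨x, hx, rfl⟩ := hy
      simp only [W, Finset.mem_erase, Finset.mem_filter, Finset.mem_univ, true_and, ne_eq, conj_eq_one_iff]
      refine ⟨hg₀1, ?_, by rw [conj_pow, hg₀p, mul_one, mul_inv_cancel]⟩
      rw [mul_smul, mul_smul, inv_smul_eq_iff.2 hx.symm, ha, hx]
    rw [← hT]
    refine (Finset.card_le_mul_card_image T Q fun y hy => ?_).trans
      (Nat.mul_le_mul_left _ (hW ▸ Finset.card_le_card himg))
    simp only [T, Finset.mem_image, Finset.mem_filter, Finset.mem_univ, true_and] at hy
    obtain ⟨x₀, hx₀, rfl⟩ := hy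
    rw [hQ, Nat.card_eq_fintype_card, Fintype.card_subtype]
    refine Finset.card_le_card_of_injOn (fun x => x₀⁻¹ * x) (fun x hx => ?_) (fun x _ y _ h => mul_left_cancel h)
    simp only [T, Finset.coe_filter, Finset.mem_filter, Finset.mem_univ, true_and, Set.mem_setOf_eq] at hx
    simp only [Finset.coe_filter, Finset.mem_univ, true_and, Set.mem_setOf_eq]
    have hz : (x₀⁻¹ * x) * g₀ = g₀ * (x₀⁻¹ * x) := by
      have h := hx.2
      calc (x₀⁻¹ * x) * g₀ = x₀⁻¹ * (x * g₀ * x⁻¹) * x := by group
        _ = x₀⁻¹ * (x₀ * g₀ * x₀⁻¹) * x := by rw [h]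
        _ = g₀ * (x₀⁻¹ * x) := by group
    have hza : (x₀⁻¹ * x) • a = a := mem_stabilizer_iff.1 (mul_mem (inv_mem hx₀) hx.1)
    by_contra hzp
    obtain ⟨b, hba, hb⟩ := hP.exists_other (fun h => hzp ⟨hza, h⟩) hza
    have hz1 : x₀⁻¹ * x ≠ 1 := fun h => hzp (by rw [h]; exact one_mem _)
    refine hz1 (hP.sharp (a := a) (b := b) (c := g₀ • b) hba.symm (fun h => hba ?_) (fun h => hba ?_) hza hb ?_)
    · have h2 : b = g₀⁻¹ • a := by rw [h, inv_smul_smul]
      rwa [inv_smul_eq_iff.2 ha.symm] at h2
    · exact hP.unique_fix hg₀1 hg₀p h.symm ha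
    · rw [← mul_smul, hz, mul_smul, hb]
  have he1 : 1 ≤ e := by
    rcases Nat.eq_zero_or_pos e with rfl | h
    · rw [mul_zero] at he; have := Nat.card_pos (α := stabilizer G a); omega
    · exact h
  have heQ : e ≤ Q - 1 := Nat.le_of_mul_le_mul_left (he ▸ hsQ) (by omega)
  -- the parabolic elements
  have hpar : numParabolic p G = o * (Q - 1) := by
    rw [numParabolic_eq hP hfix]
    have hoff : ∀ b : X, b ∉ orbit G a → Nat.card (unipAt hP b) - 1 = 0 := fun b hb => by
      rw [Nat.sub_eq_zero_iff_le, Finite.card_le_one_iff_subsingleton]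
      refine ⟨fun x y => ?_⟩
      have h1 : ∀ z : unipAt hP b, z = 1 := fun z => by
        by_contra hz
        exact hb (mem_orbit_of_parabolic hP hg₀1 hg₀p ha (fun h => hz (Subtype.ext h)) z.2.2 z.2.1)
      rw [h1 x, h1 y]
    rw [← Finset.sum_subset (Finset.subset_univ (orbit G a).toFinset)
      (fun b _ hb => hoff b (fun h => hb (Set.mem_toFinset.2 h))),
      Finset.sum_congr rfl (g := fun _ => Q - 1) (fun b hb => ?_), Finset.sum_const, smul_eq_mul,
      Set.toFinset_card, ho, Nat.card_eq_fintype_card]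
    obtain ⟨g, rfl⟩ := Set.mem_toFinset.1 hb
    rw [card_unipAt_smul]
  have E := orbit_equation hP hfix
  rw [hpar] at E
  set ω₀ : orbitRel.Quotient G X := Quotient.mk'' a with hω₀
  have hω₀o : Nat.card (orbit G ω₀.out) = o := by
    have h : (Quotient.mk'' ω₀.out : orbitRel.Quotient G X) = Quotient.mk'' a := by rw [Quotient.out_eq']
    rw [ho, orbit_eq_iff.2 (Quotient.exact' h)]
  have hω₀m : ω₀ ∈ bigOrbits G X := by
    refine Finset.mem_filter.2 ⟨Finset.mem_univ _, ?_⟩
    have h2 := card_orbit_mul (G := G) ω₀.out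
    rw [hω₀o, ← hN] at h2
    rw [Nat.eq_of_mul_eq_mul_left (orbit_card_pos a) h2, he]
    calc 2 = 2 * 1 := rfl
      _ ≤ Q * e := Nat.mul_le_mul hQ2 he1
  rw [← Finset.add_sum_erase _ _ hω₀m, orbCon, hω₀o] at E
  set R := (bigOrbits G X).erase ω₀
  have hbnd : R.card * Nat.card G ≤ 2 * ∑ ω ∈ R, orbCon G X ω := by
    rw [Finset.mul_sum, ← smul_eq_mul, ← Finset.sum_const]
    refine Finset.sum_le_sum fun ω hω => ?_
    have := two_mul_orbit_le (Finset.mem_of_mem_erase hω)
    rw [orbCon]; omega
  have hR : R.card ≤ 1 := by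
    by_contra h
    have h1 : 2 * Nat.card G ≤ R.card * Nat.card G := Nat.mul_le_mul_right _ (by omega)
    have h2 : o ≤ o * (Q - 1) := Nat.le_mul_of_pos_right _ (by omega)
    have : 0 < o := orbit_card_pos a
    omega
  have hoN : o ≤ Nat.card G := hN ▸ Nat.le_mul_of_pos_right _ Nat.card_pos
  obtain ⟨Q', rfl'⟩ : ∃ k, Q = k + 2 := ⟨Q - 2, by omega⟩
  rw [show Q - 1 = Q' + 1 by omega] at E heQ
  have hNe : Nat.card G = o * (Q * e) := by rw [← hN, he]
  interval_cases hc : R.card
  · rw [Finset.card_eq_zero.1 hc, Finset.sum_empty] at E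
    have h1 : o * Q' + 2 = Nat.card G := by
      have : o * (Q' + 1) = o * Q' + o := by ring
      omega
    have h2 : o ∣ 2 := (Nat.dvd_add_right (dvd_mul_right o Q')).1 (h1 ▸ hNe ▸ dvd_mul_right o _)
    have h3 := Nat.le_of_dvd (by norm_num) h2
    have hf0 : f = 0 := by
      rcases Nat.eq_zero_or_pos f with h | h
      · exact h
      · have : Q ≤ f * Q := Nat.le_mul_of_pos_left _ h
        omega
    refine .borel a hpN fun g => ?_
    haveI := (Nat.card_eq_one_iff_unique.1 (show Nat.card (orbit G a) = 1 by rw [← ho, hf, hf0]; simp)).1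
    exact congrArg Subtype.val (Subsingleton.elim (⟨g • a, mem_orbit _ g⟩ : orbit G a) ⟨a, mem_orbit_self _⟩)
  · obtain ⟨ω, hω⟩ := Finset.card_eq_one.1 hc
    rw [hω, Finset.sum_singleton, orbCon] at E
    have h1 := two_mul_orbit_le (Finset.mem_of_mem_erase (show ω ∈ R by simp [hω]))
    set o₁ := Nat.card (orbit G ω.out) with ho₁
    set d := Nat.card (stabilizer G ω.out) with hd
    have hd1 : o₁ * d = Nat.card G := card_orbit_mul _
    have ho1 : o₁ = 2 + o * Q' := by
      have : o * (Q' + 1) = o * Q' + o := by ring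
      omega
    have key : d * (1 + f * Q') = e * o := by
      have : (2 + o * Q') * d = o * (Q * e) := by rw [← ho1, hd1, hNe]
      have hQQ : Q * (1 + f * Q') = 2 + o * Q' := by rw [hf, rfl']; ring
      rw [← hQQ] at this
      refine Nat.eq_of_mul_eq_mul_left (by omega : 0 < Q) ?_
      calc Q * (d * (1 + f * Q')) = Q * (1 + f * Q') * d := by ring
        _ = o * (Q * e) := this
        _ = Q * (e * o) := by ring
    have hdvd : 1 + f * Q' ∣ 2 * e := by
      have h2 : 1 + f * Q' ∣ e * o := ⟨d, by rw [← key]; ring⟩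
      have h3 : e * o + 0 = e * (1 + f * Q') + 2 * e * f := by rw [hf, rfl']; ring
      have h4 : 1 + f * Q' ∣ 2 * e * f := (Nat.dvd_add_right (dvd_mul_left _ e)).1 (h3 ▸ by simpa using h2)
      have hcop : Nat.Coprime (1 + f * Q') f := Nat.Coprime.symm (by
        rw [Nat.coprime_add_mul_left_right f 1 Q']; exact Nat.coprime_one_right f)
      exact hcop.dvd_of_dvd_mul_right h4
    rcases Nat.eq_zero_or_pos f with hf0 | hfpos
    · refine .borel a hpN fun g => ?_
      haveI := (Nat.card_eq_one_iff_unique.1 (show Nat.card (orbit G a) = 1 by rw [← ho, hf, hf0]; simp)).1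
      exact congrArg Subtype.val (Subsingleton.elim (⟨g • a, mem_orbit _ g⟩ : orbit G a) ⟨a, mem_orbit_self _⟩)
    have hle := Nat.le_of_dvd (by omega) hdvd
    rcases eq_or_lt_of_le (Nat.succ_le_of_lt hfpos) with hf1 | hf2
    · -- f = 1
      have hf1' : f = 1 := hf1.symm
      rw [hf1', one_mul] at hdvd hle
      refine .subfield hP a Q e rfl hQ2 ?_ (by rw [← hs, he]) (by rw [← ho, hf, hf1']; ring)
      obtain ⟨c, hc'⟩ := hdvd
      have hc2 : c ≤ 2 := by
        by_contra h
        have : (1 + Q') * 3 ≤ (1 + Q') * c := Nat.mul_le_mul_left _ (by omega)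
        omega
      interval_cases c <;> omega
    · have hQ3 : Q' ≤ 1 := by
        by_contra h
        push Not at h
        rcases eq_or_lt_of_le (Nat.succ_le_of_lt hf2) with hf2' | hf3
        · have hf2'' : f = 2 := hf2'.symm
          rw [hf2''] at hdvd hle
          have hodd : Nat.Coprime (1 + 2 * Q') 2 := by
            rw [Nat.coprime_two_right]; exact ⟨Q', by ring⟩
          have := Nat.le_of_dvd (by omega) (hodd.dvd_of_dvd_mul_left hdvd)
          omega
        · have : 3 * Q' ≤ f * Q' := Nat.mul_le_mul_right _ hf3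
          omega
      interval_cases Q'
      · -- Q = 2: dihedral of twice odd order
        have hQ2' : Q = 2 := rfl'
        have he' : e = 1 := by omega
        have hp2 : p = 2 := by
          obtain ⟨k, hk⟩ := (IsPGroup.iff_card).1 (isPGroup_unipAt hP a)
          rw [← hU, ← hQ, hQ2'] at hk
          rcases Nat.eq_zero_or_pos k with rfl | hk0
          · simp at hk
          exact ((Nat.prime_dvd_prime_iff_eq Fact.out Nat.prime_two).1 (hk ▸ dvd_pow_self p hk0.ne'))
        have hd' : d = 1 + f * Q := by rw [← hf]; simpa [he'] using key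
        have ho1' : o₁ = 2 := by simpa using ho1
        obtain ⟨b', hb', hne⟩ : ∃ b' ∈ orbit G ω.out, b' ≠ ω.out := by
          by_contra h
          push Not at h
          haveI : Subsingleton (orbit G ω.out) := ⟨fun x y => Subtype.ext ((h _ x.2).trans (h _ y.2).symm)⟩
          have := Finite.card_le_one_iff_subsingleton.2 (inferInstance : Subsingleton (orbit G ω.out))
          omega
        refine .dihedral ω.out b' hne.symm ?_ ?_ ?_
        · refine (Set.eq_of_subset_of_ncard_le (Set.insert_subset (mem_orbit_self _)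
            (Set.singleton_subset_iff.2 hb')) ?_ (Set.toFinite _)).symm
          rw [Set.ncard_pair hne.symm, ← Nat.card_coe_set_eq]
          omega
        · rw [← hd, hd', hQ2']; omega
        · rw [← hd, hd', hQ2', hp2]; omega
      · -- Q = 3
        have hQ3' : Q = 3 := rfl'
        have hp3 : p = 3 := by
          obtain ⟨k, hk⟩ := (IsPGroup.iff_card).1 (isPGroup_unipAt hP a)
          rw [← hU, ← hQ, hQ3'] at hk
          rcases Nat.eq_zero_or_pos k with rfl | hk0
          · simp at hk
          exact ((Nat.prime_dvd_prime_iff_eq Fact.out Nat.prime_three).1 (hk ▸ dvd_pow_self p hk0.ne'))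
        have he' : e = 2 ∧ f = 3 := by
          obtain ⟨c, hc'⟩ := hdvd
          have he2 : e ≤ 2 := by omega
          interval_cases e <;> rcases c with _ | _ | c <;>
            simp only [Nat.mul_succ, mul_zero, zero_add, mul_one] at hc' <;> omega
        obtain ⟨he', hf'⟩ := he'
        refine .icosa (.inr hp3) ω.out ?_ ?_
        · rw [hNe, hf, hf', he', hQ3']
        · rw [← ho₁, ho1, hf, hf', hQ3']

/-- Classification of finite groups of Möbius transformations. -/
theorem p1Case (hP : P1Like p G X) (hfix : ∀ g : G, ∃ a : X, g • a = a) : P1Case p G X := by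
  by_cases h : p ∣ Nat.card G
  · exact case_modular hP hfix h
  · exact case_coprime hP hfix h

end CfsgLib.PSL2
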