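import Cfsg.Agent.Lib.PSL2.Moebius
import Cfsg.Agent.Lib.PSL2.Cases
import Cfsg.Agent.Lib.ThreeTransp.SL2
import Cfsg.Agent.Lib.Classical.Order

/-!
The 2-transitive case: the group is a subfield group.
-/

set_option autoImplicit false
set_option linter.style.haveILetI false
set_option linter.unusedSectionVars false

namespace CfsgLib.PSL2

open Matrix MulAction CfsgLib.Classical
open scoped LinearAlgebra.Projectivization

variable {E : Type*} [Field E]

local notation "P1" => ℙ E (Fin 2 → E)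
local notation "PG" => Matrix.ProjGenLinGroup (Fin 2) E

/-- The affine matrix `x ↦ c x + t`. -/
noncomputable def affMat (c : Eˣ) (t : E) : GL (Fin 2) E :=
  GeneralLinearGroup.mkOfDetNeZero !![(c : E), t; 0, 1] (by simp [det_fin_two])

/-- The affine transformation `x ↦ c x + t`. -/
noncomputable def affP (c : Eˣ) (t : E) : PG := ProjGenLinGroup.mk (affMat c t)

/-- The transformation `x ↦ κ / x`. -/
noncomputable def invP (κ : Eˣ) : PG :=
  ProjGenLinGroup.mk (GeneralLinearGroup.mkOfDetNeZero !![(0 : E), (κ : E); 1, 0] (by simp [det_fin_two]))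

/-- The finite point `x`. -/
def ptP (x : E) : P1 := Projectivization.mk E ![x, 1] (fun h => by simpa using congrFun h 1)

theorem affMat_val (c : Eˣ) (t : E) : (affMat c t).1 = !![(c : E), t; 0, 1] := rfl

theorem affP_mul (c c' : Eˣ) (t t' : E) : affP c t * affP c' t' = affP (c * c') (c * t' + t) := by
  rw [affP, affP, affP, ← map_mul]
  refine congrArg _ (Units.ext ?_)
  rw [Units.val_mul, affMat_val, affMat_val, affMat_val, Matrix.mul_fin_two]
  ext i j
  fin_cases i <;> fin_cases j <;> simp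

theorem affP_one : affP (1 : Eˣ) 0 = 1 := by
  refine mk_eq_one_of_entries ?_ ?_ ?_ <;> simp [affMat_val]

theorem affP_inv (c : Eˣ) (t : E) : (affP c t)⁻¹ = affP c⁻¹ (-(c⁻¹ : Eˣ) * t) := by
  rw [inv_eq_iff_mul_eq_one, affP_mul, mul_inv_cancel, ← affP_one]
  congr 1
  simp

theorem affP_smul_inf (c : Eˣ) (t : E) : affP c t • pInf E = pInf E :=
  (fix_pInf_iff _).2 (by simp [affMat_val])

theorem ptP_zero : ptP (0 : E) = pZero E := rfl

theorem affP_smul_pt (c : Eˣ) (t x : E) : affP c t • ptP x = ptP ((c : E) * x + t) := by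
  rw [affP, ptP, ptP, gl_smul_mk, Projectivization.mk_eq_mk_iff']
  refine ⟨1, ?_⟩
  ext i; fin_cases i <;> simp [affMat_val, mulVec, dotProduct]

theorem ptP_injective : Function.Injective (ptP (E := E)) := by
  intro x y h
  rw [ptP, ptP, Projectivization.mk_eq_mk_iff'] at h
  obtain ⟨c, hc⟩ := h
  have h0 := congrFun hc 0
  have h1 := congrFun hc 1
  simp at h0 h1
  rw [← h0, h1, one_mul]

theorem ptP_ne_inf (x : E) : ptP x ≠ pInf E := by
  intro h
  rw [ptP, pInf, Projectivization.mk_eq_mk_iff'] at h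
  obtain ⟨c, hc⟩ := h
  simpa using congrFun hc 1

theorem affP_injective {c c' : Eˣ} {t t' : E} (h : affP c t = affP c' t') : c = c' ∧ t = t' := by
  have h0 := congrArg (· • ptP (0 : E)) h
  have h1 := congrArg (· • ptP (1 : E)) h
  simp only [affP_smul_pt, mul_zero, zero_add, mul_one] at h0 h1
  have ht := ptP_injective h0
  have hc := ptP_injective h1
  rw [ht, add_left_inj] at hc
  exact ⟨Units.ext hc, ht⟩

theorem exists_affP_of_fix {g : PG} (h : g • pInf E = pInf E) : ∃ (c : Eˣ) (t : E), g = affP c t := by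
  induction g using Matrix.ProjGenLinGroup.induction_on with | mk m => ?_
  have h10 := (fix_pInf_iff m).1 h
  have hdet := m.det_ne_zero
  rw [det_fin_two, h10, mul_zero, sub_zero, mul_ne_zero_iff] at hdet
  refine ⟨Units.mk0 (m.1 0 0 / m.1 1 1) (div_ne_zero hdet.1 hdet.2), m.1 0 1 / m.1 1 1, ?_⟩
  refine (ProjGenLinGroup.mk_eq_mk_iff.2 ⟨Units.mk0 _ hdet.2, Units.ext ?_⟩).symm
  ext i j
  fin_cases i <;> fin_cases j <;> simp [affMat_val, h10, hdet.2]

theorem exists_invP_of_swap {g : PG} (h1 : g • pInf E = pZero E) (h2 : g • pZero E = pInf E) :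
    ∃ κ : Eˣ, g = invP κ := by
  induction g using Matrix.ProjGenLinGroup.induction_on with | mk m => ?_
  rw [pInf, pZero, gl_smul_mk, Projectivization.mk_eq_mk_iff'] at h1 h2
  obtain ⟨c, hc⟩ := h1
  obtain ⟨c', hc'⟩ := h2
  have h00 : m.1 0 0 = 0 := by simpa [mulVec, dotProduct] using (congrFun hc 0).symm
  have h11 : m.1 1 1 = 0 := by simpa [mulVec, dotProduct] using (congrFun hc' 1).symm
  have hdet := m.det_ne_zero
  rw [det_fin_two, h00, zero_mul, zero_sub, neg_ne_zero, mul_ne_zero_iff] at hdet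
  refine ⟨Units.mk0 (m.1 0 1 / m.1 1 0) (div_ne_zero hdet.1 hdet.2), ?_⟩
  refine (ProjGenLinGroup.mk_eq_mk_iff.2 ⟨Units.mk0 _ hdet.2, Units.ext ?_⟩).symm
  ext i j
  fin_cases i <;> fin_cases j <;> simp [GeneralLinearGroup.mkOfDetNeZero, h00, h11, hdet.2]

theorem invP_smul_pt (κ : Eˣ) {x : E} (hx : x ≠ 0) : invP κ • ptP x = ptP ((κ : E) / x) := by
  rw [invP, ptP, ptP, gl_smul_mk, Projectivization.mk_eq_mk_iff']
  refine ⟨x, ?_⟩
  ext i; fin_cases i <;> simp [GeneralLinearGroup.mkOfDetNeZero, mulVec, dotProduct, hx]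
  field_simp

theorem affP_pow_eq_one_iff (p : ℕ) [Fact p.Prime] [CharP E p] (c : Eˣ) (t : E) :
    affP c t ^ p = 1 ↔ c = 1 := by
  rw [affP, pow_eq_one_iff_diag p (by simp [affMat_val])]
  simp [affMat_val]

variable [Finite E]

/-- The map of projective linear groups of a subfield. -/
theorem map_subtype_injective {R S : Type*} [Field R] [Field S] (f : R →+* S) :
    Function.Injective (ProjGenLinGroup.map (n := Fin 2) f) := by
  rw [injective_iff_map_eq_one]
  intro g hg
  induction g using Matrix.ProjGenLinGroup.induction_on with | mk m => ?_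
  rw [ProjGenLinGroup.map_mk] at hg
  obtain ⟨h1, h2, h3⟩ := entries_of_mk_eq_one hg
  exact mk_eq_one_of_entries ((map_eq_zero f).1 h1) ((map_eq_zero f).1 h2) (f.injective h3)

/-- Standard position: the group lies in a subfield group. -/
theorem subfield_std (p : ℕ) [Fact p.Prime] [CharP E p] (hP : P1Like p PG P1) (H : Subgroup PG) {Q e : ℕ}
    (hQ : Nat.card (unipAt (hP.subgroup H) (pInf E)) = Q)
    (he : e = Q - 1 ∨ 2 * e = Q - 1) (hS : Nat.card (stabilizer H (pInf E)) = Q * e)
    (ho : Nat.card (orbit H (pInf E)) = Q + 1) (h0 : pZero E ∈ orbit H (pInf E))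
    (h1 : affP 1 1 ∈ H) :
    ∃ (K : Subfield E) (κ : Eˣ), Nat.card K = Q ∧ (κ : E) ∈ K ∧ invP κ ∈ H ∧
      (∀ x ∈ K, affP 1 x ∈ H) ∧ H ≤ (ProjGenLinGroup.map K.subtype).range := by
  classical
  haveI := Fintype.ofFinite E
  haveI : Finite PG := Finite.of_surjective _ ProjGenLinGroup.mk_surjective
  let A : AddSubgroup E :=
    { carrier := {t | affP 1 t ∈ H}
      zero_mem' := by show affP 1 (0 : E) ∈ H; rw [affP_one]; exact one_mem _
      add_mem' := fun {s t} hs ht => by
        have h := mul_mem (show affP 1 t ∈ H from ht) (show affP 1 s ∈ H from hs)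
        rw [affP_mul, one_mul, Units.val_one, one_mul] at h
        exact h
      neg_mem' := fun {s} hs => by
        have h := inv_mem (show affP 1 s ∈ H from hs)
        rw [affP_inv, inv_one, Units.val_one, neg_one_mul] at h
        exact h }
  let C : Subgroup Eˣ :=
    { carrier := {c | affP c 0 ∈ H}
      one_mem' := by show affP (1 : Eˣ) 0 ∈ H; rw [affP_one]; exact one_mem _
      mul_mem' := fun {s t} hs ht => by
        have h := mul_mem (show affP s 0 ∈ H from hs) (show affP t 0 ∈ H from ht)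
        rw [affP_mul, mul_zero, add_zero] at h
        exact h
      inv_mem' := fun {s} hs => by
        have h := inv_mem (show affP s 0 ∈ H from hs)
        rw [affP_inv, mul_zero] at h
        exact h }
  have hAcard : Nat.card A = Q := by
    rw [← hQ]
    let f : A → unipAt (hP.subgroup H) (pInf E) := fun t => ⟨⟨affP 1 t.1, t.2⟩, affP_smul_inf 1 t.1,
      Subtype.ext (by rw [SubgroupClass.coe_pow]; exact (affP_pow_eq_one_iff p 1 t.1).2 rfl)⟩
    refine Nat.card_congr (Equiv.ofBijective f ⟨fun s t h => ?_, fun u => ?_⟩)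
    · exact Subtype.ext (affP_injective (congrArg (fun z : unipAt (hP.subgroup H) (pInf E) => ((z : H) : PG)) h)).2
    · obtain ⟨c, t, hct⟩ := exists_affP_of_fix (g := ((u : H) : PG)) u.2.1
      have hp : ((u : H) : PG) ^ p = 1 := by
        rw [← SubgroupClass.coe_pow, u.2.2, OneMemClass.coe_one]
      rw [hct, affP_pow_eq_one_iff] at hp
      rw [hp] at hct
      exact ⟨⟨t, by show affP 1 t ∈ H; rw [← hct]; exact (u : H).2⟩, Subtype.ext (Subtype.ext hct.symm)⟩
  have horb : ∀ x : P1, x ∈ orbit H (pInf E) → x = pInf E ∨ ∃ t ∈ A, x = ptP t := by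
    let T : Set P1 := insert (pInf E) (ptP '' (A : Set E))
    have hsub : T ⊆ orbit H (pInf E) := by
      rintro x (rfl | ⟨t, ht, rfl⟩)
      · exact mem_orbit_self _
      · have h := mem_orbit_of_mem_orbit (⟨affP 1 t, ht⟩ : H) h0
        rwa [show (⟨affP 1 t, ht⟩ : H) • pZero E = ptP t by
          show affP 1 t • pZero E = ptP t
          rw [← ptP_zero, affP_smul_pt, mul_zero, zero_add]] at h
    have hT : T.ncard = Q + 1 := by
      rw [Set.ncard_insert_of_notMem (by rintro ⟨t, -, h⟩; exact ptP_ne_inf t h) (Set.toFinite _),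
        Set.ncard_image_of_injective _ ptP_injective, ← Nat.card_coe_set_eq]
      exact congrArg (· + 1) hAcard
    have heq : T = orbit H (pInf E) :=
      Set.eq_of_subset_of_ncard_le hsub (by rw [hT, ← Nat.card_coe_set_eq, ho]) (Set.toFinite _)
    intro x hx
    rw [← heq] at hx
    rcases hx with rfl | ⟨t, ht, rfl⟩
    · exact .inl rfl
    · exact .inr ⟨t, ht, rfl⟩
  have hfin : ∀ (g : H) (x : P1), x ∈ orbit H (pInf E) → g • x ≠ pInf E → ∃ t ∈ A, g • x = ptP t :=
    fun g x hx hne => (horb _ (mem_orbit_of_mem_orbit g hx)).resolve_left hne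
  have hstab : ∀ (c : Eˣ) (t : E), affP c t ∈ H → c ∈ C ∧ t ∈ A := by
    intro c t h
    obtain ⟨t', ht', he'⟩ := hfin ⟨_, h⟩ (pZero E) h0 (by
      show affP c t • pZero E ≠ _
      rw [← ptP_zero, affP_smul_pt]; exact ptP_ne_inf _)
    have e' : affP c t • pZero E = ptP t' := he'
    rw [← ptP_zero, affP_smul_pt, mul_zero, zero_add] at e'
    obtain rfl := ptP_injective e'
    refine ⟨?_, ht'⟩
    have h2 := mul_mem (show affP 1 (-t) ∈ H from neg_mem ht') h
    rwa [affP_mul, one_mul, Units.val_one, one_mul, add_neg_cancel] at h2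
  have hCcard : Nat.card C = e := by
    have hQpos : 0 < Q := hAcard ▸ Nat.card_pos
    refine Nat.eq_of_mul_eq_mul_left hQpos ?_
    rw [← hS, ← hAcard, ← Nat.card_prod]
    let f : A × C → stabilizer H (pInf E) := fun z => ⟨⟨affP z.2.1 z.1.1, by
      have h := mul_mem (show affP 1 z.1.1 ∈ H from z.1.2) (show affP z.2.1 0 ∈ H from z.2.2)
      rwa [affP_mul, one_mul, mul_zero, zero_add] at h⟩, affP_smul_inf _ _⟩
    refine Nat.card_congr (Equiv.ofBijective f ⟨fun y z h => ?_, fun g => ?_⟩)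
    · obtain ⟨h1, h2⟩ := affP_injective (congrArg (fun w : stabilizer H (pInf E) => ((w : H) : PG)) h)
      exact Prod.ext (Subtype.ext h2) (Subtype.ext h1)
    · obtain ⟨c, t, hct⟩ := exists_affP_of_fix (g := ((g : H) : PG)) g.2
      obtain ⟨hc, ht⟩ := hstab c t (hct ▸ (g : H).2)
      exact ⟨(⟨t, ht⟩, ⟨c, hc⟩), Subtype.ext (Subtype.ext hct.symm)⟩
  -- the field
  let R : Subring E :=
    { carrier := {x | ∀ t ∈ A, x * t ∈ A}
      one_mem' := fun t ht => by rwa [one_mul]
      mul_mem' := fun {x y} hx hy t ht => by rw [mul_assoc]; exact hx _ (hy t ht)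
      zero_mem' := fun t _ => by rw [zero_mul]; exact zero_mem _
      add_mem' := fun {x y} hx hy t ht => by rw [add_mul]; exact add_mem (hx t ht) (hy t ht)
      neg_mem' := fun {x} hx t ht => by rw [neg_mul]; exact neg_mem (hx t ht) }
  let K : Subfield E :=
    { R with
      inv_mem' := fun x hx => by
        rcases eq_or_ne x 0 with rfl | hx0
        · rw [_root_.inv_zero]; exact R.zero_mem
        · have h : x⁻¹ = x ^ (Fintype.card E - 2) := by
            refine (eq_inv_of_mul_eq_one_left ?_).symm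
            have := Fintype.one_lt_card (α := E)
            rw [← pow_succ, show Fintype.card E - 2 + 1 = Fintype.card E - 1 by omega,
              FiniteField.pow_card_sub_one_eq_one x hx0]
          rw [h]; exact R.pow_mem hx _ }
  have hKA : ∀ x, x ∈ K → x ∈ A := fun x hx => by have := hx 1 h1; rwa [mul_one] at this
  have hCK : ∀ c ∈ C, (c : E) ∈ K := by
    intro c hc t ht
    have h := mul_mem (mul_mem (show affP c 0 ∈ H from hc) (show affP 1 t ∈ H from ht))
      (inv_mem (show affP c 0 ∈ H from hc))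
    rw [affP_inv, affP_mul, affP_mul, mul_one, mul_inv_cancel, add_zero, mul_zero, mul_zero, zero_add] at h
    exact h
  have hKcard : Nat.card K = Q := by
    have hle : Nat.card K ≤ Q := hAcard ▸ Nat.card_le_card_of_injective (fun x : K => (⟨x.1, hKA _ x.2⟩ : A))
      (fun x y h => Subtype.ext (congrArg Subtype.val h :))
    have hge : e + 1 ≤ Nat.card K := by
      haveI := Fintype.ofFinite C
      haveI := Fintype.ofFinite K
      rw [← hCcard, Nat.card_eq_fintype_card, Nat.card_eq_fintype_card, ← Fintype.card_option]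
      refine Fintype.card_le_of_injective (fun o : Option C => o.elim (0 : K) fun c => ⟨_, hCK c.1 c.2⟩) ?_
      rintro (_ | c) (_ | d) h
      · rfl
      · exact absurd (congrArg Subtype.val h) (Ne.symm (d : Eˣ).ne_zero)
      · exact absurd (congrArg Subtype.val h) (c : Eˣ).ne_zero
      · exact congrArg some (Subtype.ext (Units.ext (congrArg Subtype.val h :)))
    haveI : CharP K p := (RingHom.charP_iff_charP K.subtype p).2 inferInstance
    haveI := Fintype.ofFinite K
    obtain ⟨r, -, hr⟩ := FiniteField.card K p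
    obtain ⟨j, hj⟩ : ∃ j : ℕ, Q = p ^ j := hQ ▸ (IsPGroup.iff_card).1 (isPGroup_unipAt _ _)
    rw [← Nat.card_eq_fintype_card] at hr
    rcases lt_trichotomy (r : ℕ) j with h | h | h
    · exfalso
      have h2 : p * Nat.card K ≤ Q := by
        rw [hr, hj, ← pow_succ']
        exact Nat.pow_le_pow_right (Fact.out : p.Prime).pos h
      have := (Fact.out : p.Prime).two_le
      have : 2 * Nat.card K ≤ p * Nat.card K := Nat.mul_le_mul_right _ this
      omega
    · rw [hr, h, hj]
    · exfalso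
      have : Q < Nat.card K := by rw [hr, hj]; exact Nat.pow_lt_pow_right (Fact.out : p.Prime).one_lt h
      omega
  have hAK : ∀ t ∈ A, t ∈ K := by
    have : (K : Set E) = (A : Set E) := Set.eq_of_subset_of_ncard_le hKA (by
      rw [← Nat.card_coe_set_eq, ← Nat.card_coe_set_eq]
      exact (hAcard.trans hKcard.symm).le) (Set.toFinite _)
    intro t ht
    exact (Set.ext_iff.1 this t).2 ht
  obtain ⟨g, hg⟩ := h0
  have hg' : (g : PG) • pInf E = pZero E := hg
  obtain ⟨t, ht, hte⟩ := hfin g⁻¹ (pInf E) (mem_orbit_self _) (fun h => by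
    rw [inv_smul_eq_iff] at h
    exact ptP_ne_inf (0 : E) (by rw [ptP_zero, ← hg']; exact h.symm))
  have hte' : (g : PG)⁻¹ • pInf E = ptP t := hte
  obtain ⟨κ, hκ⟩ := exists_invP_of_swap (g := affP 1 (-t) * (g : PG)⁻¹)
    (by rw [mul_smul, hte', affP_smul_pt, Units.val_one, one_mul, add_neg_cancel, ptP_zero])
    (by rw [mul_smul, inv_smul_eq_iff.2 hg'.symm, affP_smul_inf])
  have hκH : invP κ ∈ H := hκ ▸ mul_mem (show affP 1 (-t) ∈ H from neg_mem ht) (inv_mem g.2)
  have hκK : (κ : E) ∈ K := by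
    obtain ⟨s, hs, hse⟩ := hfin ⟨_, hκH⟩ (ptP 1) (by
        have h := mem_orbit_of_mem_orbit (⟨affP 1 1, h1⟩ : H) (mem_orbit (pInf E) g)
        have e' : (⟨affP 1 1, h1⟩ : H) • g • pInf E = ptP (1 : E) := by
          show affP (1 : Eˣ) (1 : E) • ((g : PG) • pInf E) = _
          rw [hg', ← ptP_zero, affP_smul_pt, mul_zero, zero_add]
        rwa [e'] at h)
      (by show invP κ • ptP (1 : E) ≠ _; rw [invP_smul_pt κ one_ne_zero]; exact ptP_ne_inf _)
    have e2 : invP κ • ptP (1 : E) = ptP s := hse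
    rw [invP_smul_pt κ one_ne_zero, div_one] at e2
    rw [ptP_injective e2]
    exact hAK s hs
  refine ⟨K, κ, hKcard, hκK, hκH, hKA, fun h hh => ?_⟩
  let f := (ProjGenLinGroup.map (n := Fin 2) K.subtype)
  have haff : ∀ (c : Eˣ) (x : E), c ∈ C → x ∈ A → affP c x ∈ f.range := fun c x hc hx =>
    ⟨affP (Units.mk0 (⟨_, hCK c hc⟩ : K) (fun h => c.ne_zero (congrArg Subtype.val h))) ⟨x, hAK x hx⟩, by
      simp only [f, affP, ProjGenLinGroup.map_mk]
      refine congrArg _ (Units.ext ?_)
      ext i j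
      fin_cases i <;> fin_cases j <;> simp [affMat, GeneralLinearGroup.mkOfDetNeZero]⟩
  by_cases hfix : h • pInf E = pInf E
  · obtain ⟨c, x, rfl⟩ := exists_affP_of_fix hfix
    obtain ⟨hc, hx⟩ := hstab c x hh
    exact haff c x hc hx
  · obtain ⟨x, hx, hxe⟩ := hfin ⟨h, hh⟩ (pInf E) (mem_orbit_self _) hfix
    have hxe' : h • pInf E = ptP x := hxe
    have hinv : invP κ • pInf E = pZero E := by
      rw [invP, pInf, pZero, gl_smul_mk, Projectivization.mk_eq_mk_iff']
      exact ⟨1, by ext i; fin_cases i <;> simp [GeneralLinearGroup.mkOfDetNeZero, mulVec, dotProduct]⟩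
    set m := affP 1 x * invP κ with hm
    have hmh : m ∈ H := mul_mem hx hκH
    have hfix' : (m⁻¹ * h) • pInf E = pInf E := by
      rw [mul_smul, inv_smul_eq_iff, hm, mul_smul, hinv, hxe', ← ptP_zero, affP_smul_pt, mul_zero, zero_add]
    obtain ⟨c, y, hcy⟩ := exists_affP_of_fix hfix'
    obtain ⟨hc, hy⟩ := hstab c y (hcy ▸ mul_mem (inv_mem hmh) hh)
    have hw : invP κ ∈ f.range :=
      ⟨invP (Units.mk0 (⟨_, hκK⟩ : K) (fun h => κ.ne_zero (congrArg Subtype.val h))), by
        simp only [f, invP, ProjGenLinGroup.map_mk]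
        refine congrArg _ (Units.ext ?_)
        ext i j
        fin_cases i <;> fin_cases j <;> simp [GeneralLinearGroup.mkOfDetNeZero]⟩
    have := mul_mem (mul_mem (haff 1 x (one_mem C) hx) hw) (haff c y hc hy)
    rwa [← hcy, ← hm, mul_inv_cancel_left] at this

/-- Moving the group into standard position. -/
theorem subfield_case (p : ℕ) [Fact p.Prime] [CharP E p] (hP : P1Like p PG P1) (H : Subgroup PG) {a : P1} {Q e : ℕ}
    (hP' : P1Like p H P1) (hQ : Nat.card (unipAt hP' a) = Q) (h2 : 2 ≤ Q)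
    (he : e = Q - 1 ∨ 2 * e = Q - 1) (hS : Nat.card (stabilizer H a) = Q * e)
    (ho : Nat.card (orbit H a) = Q + 1) :
    ∃ (K : Subfield E) (κ : Eˣ) (k : PG), Nat.card K = Q ∧ (κ : E) ∈ K ∧
      (∀ x ∈ K, k * (affP 1 x * invP κ) * k⁻¹ ∈ H) ∧
      H ≤ ((MulAut.conj k).toMonoidHom.comp (ProjGenLinGroup.map K.subtype)).range := by
  classical
  haveI : Finite PG := Finite.of_surjective _ ProjGenLinGroup.mk_surjective
  obtain ⟨b, hb, hba⟩ : ∃ b ∈ orbit H a, b ≠ a := by
    by_contra h
    push Not at h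
    haveI : Subsingleton (orbit H a) := ⟨fun x y => Subtype.ext ((h _ x.2).trans (h _ y.2).symm)⟩
    have := Finite.card_le_one_iff_subsingleton.2 (inferInstance : Subsingleton (orbit H a))
    omega
  obtain ⟨u, hu1⟩ : ∃ u : unipAt hP' a, u ≠ 1 := by
    haveI : Nontrivial (unipAt hP' a) := Finite.one_lt_card_iff_nontrivial.1 (by omega)
    exact exists_ne 1
  obtain ⟨k₀, hk0, hk0'⟩ := exists_to_std hba.symm
  obtain ⟨c, t, hct⟩ := exists_affP_of_fix (g := k₀⁻¹ * ((u : H) : PG) * k₀) (conj_smul_eq hk0 u.2.1)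
  have hc1 : c = 1 := (affP_pow_eq_one_iff p c t).1 (by
    rw [← hct, conj_pow_eq_one_iff, ← SubgroupClass.coe_pow, u.2.2, OneMemClass.coe_one])
  have ht0 : t ≠ 0 := fun ht => hu1 (by
    rw [hc1, ht, affP_one] at hct
    refine Subtype.ext (Subtype.ext ?_)
    calc ((u : H) : PG) = k₀ * (k₀⁻¹ * ((u : H) : PG) * k₀) * k₀⁻¹ := by group
      _ = 1 := by rw [hct, mul_one, mul_inv_cancel])
  set k := k₀ * affP (Units.mk0 t ht0) 0 with hk
  have hka : k • pInf E = a := by rw [hk, mul_smul, affP_smul_inf, hk0]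
  have hkb : k • pZero E = b := by
    rw [hk, mul_smul, ← ptP_zero, affP_smul_pt, mul_zero, add_zero, ptP_zero, hk0']
  set H' := H.comap (MulAut.conj k).toMonoidHom with hH'
  have mem' : ∀ x, x ∈ H' ↔ k * x * k⁻¹ ∈ H := fun x => Iff.rfl
  let ε : H' ≃ H :=
    { toFun := fun x => ⟨k * x * k⁻¹, x.2⟩
      invFun := fun y => ⟨k⁻¹ * y * k, by rw [mem']; simpa [mul_assoc] using y.2⟩
      left_inv := fun x => Subtype.ext (by simp [mul_assoc])
      right_inv := fun y => Subtype.ext (by simp [mul_assoc]) }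
  have act : ∀ (x : H') (y : P1), ε x • k • y = k • x • y := fun x y => by
    show (k * (x : PG) * k⁻¹) • k • y = k • (x : PG) • y
    rw [← mul_smul, ← mul_smul, inv_mul_cancel_right]
  have hS' : Nat.card (stabilizer H' (pInf E)) = Q * e := by
    rw [← hS]
    refine Nat.card_congr (ε.subtypeEquiv fun x => ?_)
    show x • pInf E = pInf E ↔ ε x • a = a
    rw [← hka, act, smul_left_cancel_iff]
  have hQ' : Nat.card (unipAt (hP.subgroup H') (pInf E)) = Q := by
    rw [← hQ]
    refine Nat.card_congr (ε.subtypeEquiv fun x => ?_)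
    show (x • pInf E = pInf E ∧ x ^ p = 1) ↔ (ε x • a = a ∧ ε x ^ p = 1)
    rw [← hka, act, smul_left_cancel_iff]
    refine and_congr_right fun _ => ?_
    rw [← Subtype.coe_inj, ← Subtype.coe_inj (a := ε x ^ p), SubgroupClass.coe_pow, SubgroupClass.coe_pow]
    show (x : PG) ^ p = 1 ↔ (k * (x : PG) * k⁻¹) ^ p = 1
    rw [conj_pow, conj_eq_one_iff]
  have horb : ∀ y : P1, y ∈ orbit H' (pInf E) ↔ k • y ∈ orbit H a := by
    intro y
    constructor
    · rintro ⟨x, rfl⟩
      refine ⟨ε x, ?_⟩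
      show ε x • a = _
      rw [← hka, act]
    · rintro ⟨z, hz⟩
      refine ⟨ε.symm z, ?_⟩
      show ε.symm z • pInf E = y
      apply smul_left_cancel k
      rw [← act, Equiv.apply_symm_apply, hka]
      exact hz
  have ho' : Nat.card (orbit H' (pInf E)) = Q + 1 := by
    rw [← ho]
    exact Nat.card_congr ((MulAction.toPerm k).subtypeEquiv horb)
  have h1 : affP 1 1 ∈ H' := by
    rw [mem', hk]
    have : affP (Units.mk0 t ht0) 0 * affP 1 1 * (affP (Units.mk0 t ht0) 0)⁻¹ = affP 1 t := by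
      rw [affP_inv, affP_mul, affP_mul]; simp
    rw [show k₀ * affP (Units.mk0 t ht0) 0 * affP 1 1 * (k₀ * affP (Units.mk0 t ht0) 0)⁻¹ = ((u : H) : PG) from
      calc k₀ * affP (Units.mk0 t ht0) 0 * affP 1 1 * (k₀ * affP (Units.mk0 t ht0) 0)⁻¹
          = k₀ * (affP (Units.mk0 t ht0) 0 * affP 1 1 * (affP (Units.mk0 t ht0) 0)⁻¹) * k₀⁻¹ := by group
        _ = ((u : H) : PG) := by rw [this, ← hc1, ← hct]; group]
    exact (u : H).2
  obtain ⟨K, κ, hK, hκK, hκH, hKH, hle⟩ :=
    subfield_std p hP H' hQ' he hS' ho' ((horb _).2 (hkb ▸ hb)) h1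
  refine ⟨K, κ, k, hK, hκK, fun x hx => (mem' _).1 (mul_mem (hKH x hx) hκH), fun h hh => ?_⟩
  obtain ⟨g, hg⟩ := hle (show k⁻¹ * h * k ∈ H' by rw [mem']; simpa [mul_assoc] using hh)
  exact ⟨g, by simp [hg, mul_assoc]⟩

/-- A subgroup of order at least half of `PGL₂(K)`. -/
theorem half_pgl {K : Type*} [Field K] [Finite K] (L : Subgroup (Matrix.ProjGenLinGroup (Fin 2) K))
    (h : Nat.card L = Nat.card (Matrix.ProjGenLinGroup (Fin 2) K) ∨
      (Odd (Nat.card K) ∧ 2 * Nat.card L = Nat.card (Matrix.ProjGenLinGroup (Fin 2) K))) :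
    L = ⊤ ∨ (Odd (Nat.card K) ∧ L = (ProjectiveSpecialLinearGroup.toPGL (n := Fin 2) (R := K)).range) := by
  haveI : Finite (Matrix.ProjGenLinGroup (Fin 2) K) := Finite.of_surjective _ ProjGenLinGroup.mk_surjective
  rcases h with h | ⟨hodd, h⟩
  · exact .inl (Subgroup.eq_top_of_card_eq _ h)
  refine .inr ⟨hodd, (Subgroup.eq_of_le_of_card_ge ?_ ?_).symm⟩
  · have hidx : L.index = 2 := by
      have h1 := L.card_mul_index
      have : 0 < Nat.card L := Nat.card_pos
      rw [← h, mul_comm 2] at h1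
      exact Nat.eq_of_mul_eq_mul_left this h1
    haveI := Subgroup.normal_of_index_eq_two hidx
    have h2 : (2 : K) ≠ 0 := two_ne_zero_of_odd_card hodd
    have hsq : ∀ s : Matrix.SpecialLinearGroup (Fin 2) K, SpecialLinearGroup.toPGL (s * s) ∈ L := fun s => by
      rw [map_mul, ← pow_two]
      have := Subgroup.pow_index_mem L (SpecialLinearGroup.toPGL s)
      rwa [hidx] at this
    have hall : (⊤ : Subgroup (Matrix.SpecialLinearGroup (Fin 2) K)) ≤ L.comap SpecialLinearGroup.toPGL := by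
      rw [← CfsgLib.ThreeTransp.sl2_gen K]
      refine sup_le (fun g hg => ?_) (fun g hg => ?_)
      · obtain ⟨t, rfl⟩ := (CfsgLib.ThreeTransp.mem_lowerUnipotentSL2 K).1 hg
        have := hsq (CfsgLib.ThreeTransp.sl2L K (t / 2))
        rwa [CfsgLib.ThreeTransp.sl2L_mul K, ← two_mul, mul_div_cancel₀ _ h2] at this
      · obtain ⟨t, rfl⟩ := (CfsgLib.ThreeTransp.mem_upperUnipotentSL2 K).1 hg
        have := hsq (CfsgLib.ThreeTransp.sl2U K (t / 2))
        rwa [CfsgLib.ThreeTransp.sl2U_mul K, ← two_mul, mul_div_cancel₀ _ h2] at this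
    rintro _ ⟨x, rfl⟩
    induction x using QuotientGroup.induction_on with | H s => ?_
    exact hall (Subgroup.mem_top s)
  · rw [← Nat.card_congr (MonoidHom.ofInjective ProjectiveSpecialLinearGroup.toPGL_injective).toEquiv]
    have h1 := card_PSL_two_mul (F := K)
    rw [gcd_two_card_sub_one_of_odd hodd, ← card_SL_two, ← card_PGL_eq_card_SL, ← h] at h1
    omega

end CfsgLib.PSL2
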