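import Cfsg.Agent.Lib.PSL2.Dickson
import Cfsg.Agent.Lib.PSL2.Congr
import Cfsg.Agent.Lib.Recog.ProjSpectrum

/-!
Dickson's list inside `PSL₂(F)`.
-/

set_option autoImplicit false
set_option linter.style.haveILetI false
set_option linter.unusedSectionVars false

namespace CfsgLib.PSL2

open Matrix

variable {F : Type*} [Field F] [Finite F] {p : ℕ} [Fact p.Prime] [CharP F p]

theorem dickson_psl (H : Subgroup (Matrix.ProjectiveSpecialLinearGroup (Fin 2) F)) : DicksonCase F p H := by
  haveI : Finite (Matrix.ProjectiveSpecialLinearGroup (Fin 2) F) := Quotient.finite _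
  exact dickson ProjectiveSpecialLinearGroup.toPGL ProjectiveSpecialLinearGroup.toPGL_injective H

theorem dickson_pgl (H : Subgroup (Matrix.ProjGenLinGroup (Fin 2) F)) : DicksonCase F p H := by
  haveI : Finite (Matrix.ProjGenLinGroup (Fin 2) F) := Finite.of_surjective _ ProjGenLinGroup.mk_surjective
  exact dickson (MonoidHom.id _) Function.injective_id H

/-- A subfield as a field in `Type`. -/
theorem exists_small_copy (p : ℕ) [Fact p.Prime] [CharP F p] (K : Subfield F) :
    ∃ (K' : Subfield (Ext2 F p)), Nonempty (K ≃+* K') := by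
  exact ⟨K.map (algebraMap F (Ext2 F p)),
    ⟨(K.toSubring.equivMapOfInjective (algebraMap F (Ext2 F p)) (algebraMap F (Ext2 F p)).injective : _)⟩⟩

theorem dTwo_eq_gcd [Fintype F] : CfsgLib.Recog.dTwo F = Nat.gcd 2 (Fintype.card F - 1) := by
  rw [← Nat.card_eq_fintype_card]
  rcases Nat.even_or_odd (Nat.card F) with h | h
  · rw [CfsgLib.Classical.gcd_two_card_sub_one_of_even h, CfsgLib.Recog.dTwo,
      if_pos (Nat.card_eq_fintype_card (α := F) ▸ h)]
  · rw [CfsgLib.Classical.gcd_two_card_sub_one_of_odd h, CfsgLib.Recog.dTwo,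
      if_neg (Nat.card_eq_fintype_card (α := F) ▸ Nat.not_even_iff_odd.2 h)]

/-- An element of order prime to `p` has order dividing `(q ± 1) / d`. -/
theorem order_dvd [Fintype F] {x : Matrix.ProjectiveSpecialLinearGroup (Fin 2) F} (h : ¬ p ∣ orderOf x) :
    orderOf x ∣ (Fintype.card F + 1) / Nat.gcd 2 (Fintype.card F - 1) ∨
      orderOf x ∣ (Fintype.card F - 1) / Nat.gcd 2 (Fintype.card F - 1) := by
  have h1 : orderOf x ∈ Set.range (orderOf : Matrix.ProjectiveSpecialLinearGroup (Fin 2) F → ℕ) := ⟨x, rfl⟩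
  rw [CfsgLib.Recog.range_orderOf_PSL_two p, Set.mem_ofPred_eq, dTwo_eq_gcd] at h1
  rcases h1 with h1 | h1 | h1
  · exact absurd (by rw [h1]) h
  · exact .inr h1
  · exact .inl h1

end CfsgLib.PSL2
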