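import Cfsg.Agent.Lib.PSL2.Geo
import Cfsg.Agent.Lib.PSL2.DicksonPSL
import Cfsg.Agent.Lib.Classical.Dihedral

/-!
The tori of `PSL₂(F)` and their normalisers.
-/

set_option autoImplicit false
set_option linter.style.haveILetI false
set_option linter.unusedSectionVars false

namespace CfsgLib.PSL2

open Matrix MulAction CfsgLib.Classical
open scoped LinearAlgebra.Projectivization

variable (F : Type*) [Field F] [Finite F]

/-- `PSL₂(F)` inside `PGL₂(F)`. -/
noncomputable def pslRange : Subgroup (Matrix.ProjGenLinGroup (Fin 2) F) :=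
  (ProjectiveSpecialLinearGroup.toPGL (n := Fin 2) (R := F)).range

variable {F} {p : ℕ} [Fact p.Prime] [CharP F p]

local notation "PG" => Matrix.ProjGenLinGroup (Fin 2) F
local notation "P1" => ℙ F (Fin 2 → F)
local notation "E2" => Ext2 F p
local notation "PE" => ℙ (Ext2 F p) (Fin 2 → Ext2 F p)
local notation "φE" => algebraMap F (Ext2 F p)

theorem two_mul_card_pslRange_of_odd (h : Odd (Nat.card F)) :
    2 * Nat.card (pslRange F) = Nat.card PG := by
  rw [pslRange, ← Nat.card_congr (MonoidHom.ofInjective ProjectiveSpecialLinearGroup.toPGL_injective).toEquiv,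
    card_PGL_eq_card_SL, card_SL_two, ← card_PSL_two_mul, gcd_two_card_sub_one_of_odd h]

theorem pslRange_eq_top_of_even (h : Even (Nat.card F)) : pslRange F = ⊤ := by
  refine Subgroup.eq_top_of_card_eq _ ?_
  rw [pslRange, ← Nat.card_congr (MonoidHom.ofInjective ProjectiveSpecialLinearGroup.toPGL_injective).toEquiv,
    card_PGL_eq_card_SL, card_SL_two, ← card_PSL_two_mul, gcd_two_card_sub_one_of_even h, one_mul]

theorem index_pslRange : (pslRange F).index = Nat.gcd 2 (Nat.card F - 1) := by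
  rcases Nat.even_or_odd (Nat.card F) with h | h
  · rw [pslRange_eq_top_of_even h, Subgroup.index_top, gcd_two_card_sub_one_of_even h]
  · rw [gcd_two_card_sub_one_of_odd h]
    have h1 := (pslRange F).card_mul_index
    rw [← two_mul_card_pslRange_of_odd h, mul_comm 2] at h1
    exact Nat.eq_of_mul_eq_mul_left Nat.card_pos h1

instance normal_pslRange : (pslRange F).Normal := by
  rcases Nat.even_or_odd (Nat.card F) with h | h
  · rw [pslRange_eq_top_of_even h]; infer_instance
  · exact Subgroup.normal_of_index_eq_two (by rw [index_pslRange, gcd_two_card_sub_one_of_odd h])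

variable (p) in
theorem order_dvd_pslRange {x : PG} (hx : x ∈ pslRange F) (h : ¬ p ∣ orderOf x) :
    orderOf x ∣ (Nat.card F + 1) / Nat.gcd 2 (Nat.card F - 1) ∨
      orderOf x ∣ (Nat.card F - 1) / Nat.gcd 2 (Nat.card F - 1) := by
  haveI := Fintype.ofFinite F
  obtain ⟨y, rfl⟩ := hx
  rw [orderOf_injective _ ProjectiveSpecialLinearGroup.toPGL_injective y, Nat.card_eq_fintype_card] at *
  exact order_dvd h

/-- A rational point of the extended line. -/
def IsRat (a : PE) : Prop := ∃ x : P1, embP p x = a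

theorem isRat_smul (g : PG) {a : PE} (h : IsRat a) : IsRat (g • a) := by
  obtain ⟨x, rfl⟩ := h
  exact ⟨g • x, embP_smul p g x⟩

theorem isRat_smul_iff (g : PG) {a : PE} : IsRat (g • a) ↔ IsRat a :=
  ⟨fun h => by simpa using isRat_smul g⁻¹ h, isRat_smul g⟩

theorem exists_coord {a : PE} (h : ¬ IsRat a) :
    ∃ α : E2, α ∉ Set.range φE ∧ a = ptP α := by
  induction a using Projectivization.ind with | _ v hv => ?_
  by_cases h1 : v 1 = 0
  · exfalso
    refine h ⟨pInf F, ?_⟩
    rw [pInf, embP_mk, Projectivization.mk_eq_mk_iff']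
    have h0 : v 0 ≠ 0 := fun h0 => hv (by ext i; fin_cases i <;> simp [h0, h1])
    refine ⟨(v 0)⁻¹, ?_⟩
    ext i; fin_cases i <;> simp [h0, h1]
  · have heq : Projectivization.mk E2 v hv = ptP (v 0 / v 1) := by
      rw [ptP, Projectivization.mk_eq_mk_iff']
      exact ⟨v 1, by ext i; fin_cases i <;> simp [h1, mul_div_cancel₀]⟩
    refine ⟨v 0 / v 1, ?_, heq⟩
    rintro ⟨c, hc⟩
    refine h ⟨ptP c, ?_⟩
    rw [heq, ← hc, ptP, embP_mk, ptP, Projectivization.mk_eq_mk_iff']
    exact ⟨1, by ext i; fin_cases i <;> simp⟩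

theorem isRat_ptP_iff {α : E2} : IsRat (ptP α) ↔ α ∈ Set.range φE := by
  constructor
  · rintro ⟨x, hx⟩
    induction x using Projectivization.ind with | _ v hv => ?_
    rw [embP_mk, ptP, Projectivization.mk_eq_mk_iff'] at hx
    obtain ⟨c, hc⟩ := hx
    have h0 := congrFun hc 0
    have h1 := congrFun hc 1
    simp only [Pi.smul_apply, smul_eq_mul, Matrix.cons_val_zero, Matrix.cons_val_one, mul_one] at h0 h1
    have hv1 : v 1 ≠ 0 := by
      intro e
      rw [e, map_zero] at h1
      refine hv (funext fun i => ?_)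
      fin_cases i
      · rw [h1, zero_mul] at h0
        exact (map_eq_zero φE).1 h0.symm
      · exact e
    refine ⟨v 0 / v 1, ?_⟩
    rw [map_div₀, ← h0, ← h1, mul_div_cancel_left₀]
    rw [h1]; exact (map_ne_zero φE).2 hv1
  · rintro ⟨c, rfl⟩
    refine ⟨ptP c, ?_⟩
    rw [ptP, embP_mk, ptP, Projectivization.mk_eq_mk_iff']
    exact ⟨1, by ext i; fin_cases i <;> simp⟩

theorem transitive_nonrat {a b : PE} (ha : ¬ IsRat a) (hb : ¬ IsRat b) : ∃ g : PG, g • a = b := by
  obtain ⟨α, hα, rfl⟩ := exists_coord ha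
  obtain ⟨β, hβ, rfl⟩ := exists_coord hb
  have hli : LinearIndependent F ![1, α] := by
    rw [LinearIndependent.pair_iff' one_ne_zero]
    intro c hc
    exact hα ⟨c, by rw [← hc, Algebra.smul_def, mul_one]⟩
  have hspan := hli.span_eq_top_of_card_eq_finrank (by rw [Fintype.card_fin, FiniteField.finrank_extension])
  have hβm : β ∈ Submodule.span F (Set.range ![1, α]) := hspan ▸ Submodule.mem_top
  rw [Matrix.range_cons, Matrix.range_cons, Matrix.range_empty, Set.union_empty, Set.singleton_union,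
    Submodule.mem_span_pair] at hβm
  obtain ⟨t, u, htu⟩ := hβm
  have hu : u ≠ 0 := by
    rintro rfl
    exact hβ ⟨t, by rw [← htu, Algebra.smul_def, Algebra.smul_def, mul_one, map_zero, zero_mul, add_zero]⟩
  refine ⟨affP (Units.mk0 u hu) t, ?_⟩
  rw [ext_smul_def, affP, ProjGenLinGroup.map_mk, ptP, ptP, gl_smul_mk, Projectivization.mk_eq_mk_iff']
  refine ⟨1, ?_⟩
  ext i
  fin_cases i <;> simp [affMat, GeneralLinearGroup.mkOfDetNeZero, mulVec, dotProduct, ← htu, Algebra.smul_def]
  ring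

theorem card_pline_ext : Nat.card PE = Nat.card F ^ 2 + 1 := by
  rw [card_proj_line, FiniteField.natCard_extension]

/-- The stabiliser of an irrational point has order `q + 1`. -/
theorem card_stab_nonrat {a : PE} (ha : ¬ IsRat a) : Nat.card (stabilizer PG a) = Nat.card F + 1 := by
  classical
  have h := card_orbit_mul (G := PG) a
  have horb : orbit PG a = (Set.range (embP (F := F) p))ᶜ := by
    ext b
    constructor
    · rintro ⟨g, rfl⟩
      exact fun hb => ha ((isRat_smul_iff g).1 hb)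
    · intro hb
      exact transitive_nonrat ha hb
  have hc : Nat.card (orbit PG a) = Nat.card F * (Nat.card F - 1) := by
    rw [Nat.card_coe_set_eq, horb, Set.ncard_compl, Set.ncard_range_of_injective (embP_injective p),
      card_pline_ext, card_proj_line]
    have : 1 < Nat.card F := Finite.one_lt_card
    obtain ⟨j, hj⟩ : ∃ j, Nat.card F = j + 1 := ⟨Nat.card F - 1, by omega⟩
    rw [hj, Nat.add_sub_cancel]
    have : (j + 1) ^ 2 + 1 = (j + 1) * j + (j + 1 + 1) := by ring
    omega
  rw [hc, card_pgl_two rfl, mul_comm (Nat.card F + 1)] at h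
  have : 1 < Nat.card F := Finite.one_lt_card
  exact Nat.eq_of_mul_eq_mul_left (Nat.mul_pos (by omega) (by omega)) h

/-- The stabiliser of two rational points has order `q - 1`. -/
theorem card_stab_rat {x y : P1} (hxy : x ≠ y) :
    Nat.card ↥(stabilizer PG (embP p x) ⊓ stabilizer PG (embP p y)) = Nat.card F - 1 := by
  rw [← card_units_field]
  obtain ⟨k, hkx, hky⟩ := exists_to_std hxy
  let f : Fˣ → ↥(stabilizer PG (embP p x) ⊓ stabilizer PG (embP p y)) := fun c => ⟨k * affP c 0 * k⁻¹,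
    by
      show (k * affP c 0 * k⁻¹) • embP p x = embP p x
      rw [← embP_smul, ← hkx, mul_smul, inv_smul_smul, mul_smul, affP_smul_inf],
    by
      show (k * affP c 0 * k⁻¹) • embP p y = embP p y
      rw [← embP_smul, ← hky, mul_smul, inv_smul_smul, mul_smul, ← ptP_zero, affP_smul_pt, mul_zero, add_zero]⟩
  refine (Nat.card_congr (Equiv.ofBijective f ⟨fun c c' h => ?_, fun g => ?_⟩)).symm
  · have := congrArg Subtype.val h
    simp only [f, mul_left_inj, mul_right_inj] at this
    exact (affP_injective this).1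
  · obtain ⟨g, hgx, hgy⟩ := g
    have h1 : g • x = x := embP_injective p (by rw [embP_smul]; exact hgx)
    have h2 : g • y = y := embP_injective p (by rw [embP_smul]; exact hgy)
    obtain ⟨c, t, hct⟩ := exists_affP_of_fix (g := k⁻¹ * g * k) (conj_smul_eq hkx h1)
    have ht : t = 0 := by
      have h3 := conj_smul_eq (g := g) hky h2
      rw [hct, ← ptP_zero, affP_smul_pt, mul_zero, zero_add] at h3
      exact ptP_injective h3
    refine ⟨c, Subtype.ext ?_⟩
    show k * affP c 0 * k⁻¹ = g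
    rw [← ht, ← hct]; group

/-- The conjugate of an irrational point. -/
theorem exists_conj_point {a : PE} (ha : ¬ IsRat a) :
    ∃ b : PE, b ≠ a ∧ ¬ IsRat b ∧ (∀ g : PG, g • a = a → g • b = b) ∧ ∃ w : PG, w • a = b ∧ w • b = a := by
  obtain ⟨α, hα, rfl⟩ := exists_coord ha
  haveI := charP_ext2 (F := F) (p := p)
  haveI := Fintype.ofFinite F
  haveI := Fintype.ofFinite E2
  let σ : E2 ≃ₐ[F] E2 := FiniteField.Extension.frob F p 2
  have hfix : ∀ x : E2, σ x = x → x ∈ Set.range φE := by
    intro x hx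
    by_contra hxr
    have hli : LinearIndependent F ![1, x] := by
      rw [LinearIndependent.pair_iff' one_ne_zero]
      intro c hc
      exact hxr ⟨c, by rw [← hc, Algebra.smul_def, mul_one]⟩
    have hspan := hli.span_eq_top_of_card_eq_finrank (by rw [Fintype.card_fin, FiniteField.finrank_extension])
    have hid : σ = 1 := by
      refine AlgEquiv.ext fun y => ?_
      have hy : y ∈ Submodule.span F (Set.range ![1, x]) := hspan ▸ Submodule.mem_top
      rw [Matrix.range_cons, Matrix.range_cons, Matrix.range_empty, Set.union_empty, Set.singleton_union,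
        Submodule.mem_span_pair] at hy
      obtain ⟨s, t, rfl⟩ := hy
      simp [hx]
    have h2 := FiniteField.card_algEquiv_extension F p 2
    have h1 : Fintype.card Gal(Ext2 F p/F) ≤ 1 := Fintype.card_le_one_iff.2 fun g g' => by
      have hall : ∀ g : Gal(Ext2 F p/F), g = 1 := fun g => by
        obtain ⟨i, -, hi⟩ := FiniteField.Extension.exists_frob_pow_eq F p 2 g
        rw [← hi]
        show σ ^ i = 1
        rw [hid, one_pow]
      rw [hall g, hall g']
    have h3 : Nat.card Gal(Ext2 F p/F) = 2 := FiniteField.natCard_algEquiv_extension F p 2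
    rw [Fintype.card_eq_nat_card] at h1
    omega
  refine ⟨ptP (σ α), fun h => hα (hfix α (ptP_injective h)), fun h => hα ?_, fun g hg => ?_, ?_⟩
  · obtain ⟨c, hc⟩ := isRat_ptP_iff.1 h
    exact ⟨c, σ.injective (by rw [← hc, AlgEquiv.commutes])⟩
  · induction g using Matrix.ProjGenLinGroup.induction_on with | mk g => ?_
    rw [ext_smul_def, ProjGenLinGroup.map_mk, ptP, gl_smul_mk, Projectivization.mk_eq_mk_iff'] at hg ⊢
    obtain ⟨c, hc⟩ := hg
    refine ⟨σ c, funext fun i => ?_⟩
    have := congrArg σ (congrFun hc i)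
    fin_cases i <;> simpa [mulVec, dotProduct, Fin.sum_univ_two] using this
  · obtain ⟨t, ht⟩ : α + σ α ∈ Set.range φE := hfix _ (by
      have h2 : σ (σ α) = α := by
        simp only [σ, FiniteField.Extension.frob_apply, ← pow_mul, ← pow_two]
        rw [← FiniteField.natCard_extension F p 2, Nat.card_eq_fintype_card, FiniteField.pow_card]
      rw [map_add, h2, add_comm])
    refine ⟨affP (-1) t, ?_, ?_⟩ <;>
      rw [ext_smul_def, affP, ProjGenLinGroup.map_mk, ptP, ptP, gl_smul_mk, Projectivization.mk_eq_mk_iff'] <;>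
      refine ⟨1, funext fun i => ?_⟩ <;> fin_cases i <;>
      simp [affMat, GeneralLinearGroup.mkOfDetNeZero, mulVec, dotProduct, ht]

/-- A good pair: two rational points, or two conjugate irrational points. -/
def GoodPair (a b : PE) : Prop :=
  a ≠ b ∧ ((IsRat a ∧ IsRat b) ∨
    (¬ IsRat a ∧ ¬ IsRat b ∧ ∀ g : PG, g • a = a → g • b = b))

theorem goodPair_of_fixed {g : PG} {a b : PE} (hg : g ≠ 1) (hab : a ≠ b) (ha : g • a = a) (hb : g • b = b) :
    GoodPair a b := by
  have hPE : P1Like p PG PE := p1Like_ext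
  refine ⟨hab, ?_⟩
  have hgp : g ^ p ≠ 1 := fun h => hab (hPE.unique_fix hg h ha hb)
  have hrat : ∀ {a b : PE}, a ≠ b → g • a = a → g • b = b → IsRat a → IsRat b := by
    rintro a b hab ha hb ⟨x, rfl⟩
    obtain ⟨y, hyx, hy⟩ := (p1Like_pgl (E := F) p).exists_other hgp
      (embP_injective p (by rw [embP_smul]; exact ha))
    by_contra hbr
    refine hg (hPE.sharp hab (fun h => hyx (embP_injective p h).symm) (fun h => hbr (h ▸ ⟨y, rfl⟩))
      ha hb (by rw [← embP_smul, hy]))
  by_cases h1 : IsRat a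
  · exact .inl ⟨h1, hrat hab ha hb h1⟩
  · refine .inr ⟨h1, fun h => h1 (hrat hab.symm hb ha h), fun u hu => ?_⟩
    obtain ⟨c, hca, -, hc, -⟩ := exists_conj_point h1
    obtain rfl : c = b := by
      by_contra hcb
      exact hg (hPE.sharp hab (Ne.symm hca) (Ne.symm hcb) ha hb (hc g ha))
    exact hc u hu

theorem exists_goodPair : ∃ a b : PE, GoodPair a b ∧ IsRat a := by
  obtain ⟨y, hy, -⟩ := exists_third (pInf F) (pInf F)
  exact ⟨embP p (pInf F), embP p y, ⟨fun h => hy (embP_injective p h), .inl ⟨⟨_, rfl⟩, ⟨_, rfl⟩⟩⟩, ⟨_, rfl⟩⟩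

/-- The order of the pointwise stabiliser of a good pair. -/
noncomputable def torusCard (a : PE) : ℕ :=
  @ite ℕ (IsRat a) (_root_.Classical.propDecidable _) (Nat.card F - 1) (Nat.card F + 1)

theorem card_torus {a b : PE} (h : GoodPair a b) :
    Nat.card ↥(stabilizer PG a ⊓ stabilizer PG b) = torusCard a := by
  obtain ⟨hab, ⟨⟨x, rfl⟩, ⟨y, rfl⟩⟩ | ⟨ha, -, hst⟩⟩ := h
  · rw [torusCard, if_pos ⟨x, rfl⟩, card_stab_rat (fun e => hab (by rw [e]))]
  · rw [torusCard, if_neg ha, inf_eq_left.2 (fun g hg => hst g hg), card_stab_nonrat ha]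

theorem exists_swap {a b : PE} (h : GoodPair a b) : ∃ w : PG, w • a = b ∧ w • b = a := by
  obtain ⟨hab, ⟨⟨x, rfl⟩, ⟨y, rfl⟩⟩ | ⟨ha, hb, hst⟩⟩ := h
  · obtain ⟨k, hkx, hky⟩ := exists_to_std (show x ≠ y from fun e => hab (by rw [e]))
    have h1 : invP (1 : Fˣ) • pInf F = pZero F := by
      rw [invP, pInf, pZero, gl_smul_mk, Projectivization.mk_eq_mk_iff']
      exact ⟨1, by ext i; fin_cases i <;> simp [GeneralLinearGroup.mkOfDetNeZero, mulVec, dotProduct]⟩
    have h2 : invP (1 : Fˣ) • pZero F = pInf F := by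
      rw [invP, pInf, pZero, gl_smul_mk, Projectivization.mk_eq_mk_iff']
      exact ⟨1, by ext i; fin_cases i <;> simp [GeneralLinearGroup.mkOfDetNeZero, mulVec, dotProduct]⟩
    refine ⟨k * invP 1 * k⁻¹, ?_, ?_⟩ <;> rw [← embP_smul, mul_smul, mul_smul]
    · rw [inv_smul_eq_iff.2 hkx.symm, h1, hky]
    · rw [inv_smul_eq_iff.2 hky.symm, h2, hkx]
  · obtain ⟨c, hca, -, hc, w, hw⟩ := exists_conj_point ha
    have hPE : P1Like p PG PE := p1Like_ext
    haveI : Nontrivial (stabilizer PG a) := Finite.one_lt_card_iff_nontrivial.1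
      (by rw [card_stab_nonrat ha]; have := Finite.one_lt_card (α := F); omega)
    obtain ⟨g, hg⟩ := exists_ne (1 : stabilizer PG a)
    obtain rfl : c = b := by
      by_contra hcb
      exact hg (Subtype.ext (hPE.sharp hab (Ne.symm hca) (Ne.symm hcb) g.2 (hst _ g.2) (hc _ g.2)))
    exact ⟨w, hw⟩

/-- The torus normaliser in `PSL₂(F)` is dihedral. -/
theorem torus_psl {a b : PE} (h : GoodPair a b) (h3 : IsRat a → Nat.card F ≠ 3) :
    ∃ r w : PG, r ∈ pslRange F ∧ w ∈ pslRange F ∧ r • a = a ∧ r • b = b ∧ w • a = b ∧ w • b = a ∧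
      orderOf r = torusCard a / Nat.gcd 2 (Nat.card F - 1) ∧
      stabilizer PG a ⊓ stabilizer PG b ⊓ pslRange F = Subgroup.zpowers r ∧
      Nat.card ↥(pairStab a b ⊓ pslRange F) = 2 * orderOf r ∧
      Nonempty (↥(pairStab a b ⊓ pslRange F) ≃* DihedralGroup (orderOf r)) := by
  classical
  have hPE : P1Like p PG PE := p1Like_ext
  have hab := h.1
  set S := stabilizer PG a ⊓ stabilizer PG b with hS
  haveI := hPE.two_cyclic hab
  have hSc : Nat.card S = torusCard a := card_torus h
  have hq : 2 ≤ Nat.card F := Finite.one_lt_card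
  set d := Nat.gcd 2 (Nat.card F - 1) with hd
  have hd12 : (d = 1 ∧ Even (Nat.card F)) ∨ (d = 2 ∧ Odd (Nat.card F)) := by
    rcases Nat.even_or_odd (Nat.card F) with he | ho
    · exact .inl ⟨gcd_two_card_sub_one_of_even he, he⟩
    · exact .inr ⟨gcd_two_card_sub_one_of_odd ho, ho⟩
  obtain ⟨⟨r₀, hr₀⟩, hr₀o⟩ := IsCyclic.exists_ofOrder_eq_natCard (α := S)
  rw [Subgroup.orderOf_mk] at hr₀o
  have hgen : S = Subgroup.zpowers r₀ :=
    (Subgroup.eq_of_le_of_card_ge (Subgroup.zpowers_le.2 hr₀) (by rw [Nat.card_zpowers, hr₀o])).symm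
  have hsemi : ∀ g ∈ S, g ≠ 1 → ¬ p ∣ orderOf g := by
    intro g hg hg1 hdvd
    obtain ⟨g', hg', ho⟩ : ∃ g' ∈ S, orderOf g' = p := ⟨g ^ (orderOf g / p), S.pow_mem hg _, by
      rw [orderOf_pow_orderOf_div ((orderOf_pos g).ne') hdvd]⟩
    exact hab (hPE.unique_fix (fun e => (Fact.out : p.Prime).ne_one (by rw [← ho, e, orderOf_one]))
      (ho ▸ pow_orderOf_eq_one g') hg'.1 hg'.2)
  -- the generator inside the special part
  obtain ⟨r, hrS, hrL, hro, hout⟩ : ∃ r ∈ S, r ∈ pslRange F ∧ orderOf r = torusCard a / d ∧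
      (d = 2 → r₀ ∉ pslRange F) := by
    rcases hd12 with ⟨hd1, he⟩ | ⟨hd2, ho⟩
    · refine ⟨r₀, hr₀, by rw [pslRange_eq_top_of_even he]; trivial, by rw [hr₀o, hSc, hd1, Nat.div_one], ?_⟩
      omega
    · have hsq : r₀ ^ 2 ∈ pslRange F := by
        have h := Subgroup.pow_index_mem (pslRange F) r₀
        rwa [index_pslRange, ← hd, hd2] at h
      have hseven : 2 ∣ torusCard a := by
        obtain ⟨k, hk⟩ := ho
        rw [torusCard]; split_ifs <;> omega
      have hnot : r₀ ∉ pslRange F := by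
        intro hin
        have hne : r₀ ≠ 1 := fun e => by
          rw [e, orderOf_one, hSc] at hr₀o
          omega
        have h1 := order_dvd_pslRange p hin (hsemi _ hr₀ hne)
        rw [hr₀o, hSc, ← hd, hd2] at h1
        obtain ⟨k, hk⟩ := ho
        have hpos : 0 < Nat.card F / 2 := by omega
        rw [torusCard] at h1
        split_ifs at h1 with hr
        · have := h3 hr
          rcases h1 with h1 | h1 <;> have := Nat.le_of_dvd (by omega) h1 <;> omega
        · rcases h1 with h1 | h1 <;> have := Nat.le_of_dvd (by omega) h1 <;> omega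
      refine ⟨r₀ ^ 2, S.pow_mem hr₀ 2, hsq, ?_, fun _ => hnot⟩
      rw [orderOf_pow' r₀ two_ne_zero, hr₀o, hSc, hd2, Nat.gcd_eq_right hseven]
  have hzp : S ⊓ pslRange F = Subgroup.zpowers r := by
    refine (Subgroup.eq_of_le_of_card_ge (Subgroup.zpowers_le.2 (Subgroup.mem_inf.2 ⟨hrS, hrL⟩)) ?_).symm
    rw [Nat.card_zpowers, hro, ← hSc]
    rcases hd12 with ⟨hd1, -⟩ | ⟨hd2, -⟩
    · rw [hd1, Nat.div_one]; exact Subgroup.card_le_of_le inf_le_left
    · rw [hd2, Nat.le_div_iff_mul_le two_pos]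
      have hlt : S ⊓ pslRange F < S := lt_of_le_of_ne inf_le_left fun e => hout hd2 (e.symm.le hr₀ |>.2)
      obtain ⟨c, hc⟩ := Subgroup.card_dvd_of_le hlt.le
      have hc2 : 2 ≤ c := by
        rcases c with _ | _ | c
        · have := Nat.card_pos (α := S); omega
        · exact absurd (Subgroup.eq_of_le_of_card_ge hlt.le (by omega)) hlt.ne
        · omega
      calc Nat.card ↥(S ⊓ pslRange F) * 2 ≤ Nat.card ↥(S ⊓ pslRange F) * c := Nat.mul_le_mul_left _ hc2
        _ = Nat.card S := hc.symm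
  -- a swapping element of the special part
  obtain ⟨w, hwL, hwa, hwb⟩ : ∃ w ∈ pslRange F, w • a = b ∧ w • b = a := by
    obtain ⟨w, hwa, hwb⟩ := exists_swap h
    by_cases hw : w ∈ pslRange F
    · exact ⟨w, hw, hwa, hwb⟩
    · rcases hd12 with ⟨hd1, he⟩ | ⟨hd2, ho⟩
      · exact absurd (by rw [pslRange_eq_top_of_even he]; trivial) hw
      · refine ⟨w * r₀, ?_, by rw [mul_smul, mem_stabilizer_iff.1 hr₀.1, hwa],
          by rw [mul_smul, mem_stabilizer_iff.1 hr₀.2, hwb]⟩
        have hidx : (pslRange F).index = 2 := by rw [index_pslRange, ← hd, hd2]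
        exact (Subgroup.mul_mem_iff_of_index_two hidx).2 ⟨fun e => absurd e hw, fun e => absurd e (hout hd2)⟩
  have hcard : Nat.card ↥(pairStab a b ⊓ pslRange F) = 2 * orderOf r := by
    set T := pairStab a b ⊓ pslRange F with hT
    have hle : S ⊓ pslRange F ≤ T := inf_le_inf_right _ fun g hg => .inl ⟨hg.1, hg.2⟩
    have hwT : w ∈ T := ⟨.inr ⟨hwa, hwb⟩, hwL⟩
    have hidx : ((S ⊓ pslRange F).subgroupOf T).index = 2 := by
      rw [Subgroup.index_eq_two_iff]
      refine ⟨⟨w, hwT⟩, fun z => ?_⟩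
      have hz := z.2.1
      rcases hz with ⟨hza, hzb⟩ | ⟨hza, hzb⟩
      · refine .inr ⟨?_, ?_⟩
        · exact ⟨⟨hza, hzb⟩, z.2.2⟩
        · intro hm
          have : ((z : PG) * w) • a = a := hm.1.1
          rw [mul_smul, hwa, hzb] at this
          exact hab this.symm
      · refine .inl ⟨⟨⟨?_, ?_⟩, mul_mem z.2.2 hwL⟩, ?_⟩
        · show ((z : PG) * w) • a = a
          rw [mul_smul, hwa, hzb]
        · show ((z : PG) * w) • b = b
          rw [mul_smul, hwb, hza]
        · intro hm
          have : (z : PG) • a = a := hm.1.1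
          rw [hza] at this
          exact hab this.symm
    have h1 := ((S ⊓ pslRange F).subgroupOf T).card_mul_index
    rw [Nat.card_congr (Subgroup.subgroupOfEquivOfLe hle).toEquiv, hidx, hzp, Nat.card_zpowers] at h1
    omega
  refine ⟨r, w, hrL, hwL, hrS.1, hrS.2, hwa, hwb, hro, hzp, hcard, ?_⟩
  have hrpos : 0 < orderOf r := orderOf_pos r
  refine CfsgLib.Classical.nonempty_mulEquiv_dihedralGroup
    (x := (⟨r, .inl ⟨hrS.1, hrS.2⟩, hrL⟩ : ↥(pairStab a b ⊓ pslRange F)))
    (s := (⟨w, .inr ⟨hwa, hwb⟩, hwL⟩ : ↥(pairStab a b ⊓ pslRange F))) hrpos (Subgroup.orderOf_mk _ _) ?_ ?_ ?_ hcard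
  · exact Subtype.ext (hPE.swap_sq hab hwa hwb)
  · refine Subtype.ext ?_
    show w * r * w⁻¹ = r⁻¹
    have hww := hPE.swap_sq hab hwa hwb
    have h := hPE.swap_sq (g := w * r) hab (by rw [mul_smul, mem_stabilizer_iff.1 hrS.1, hwa])
      (by rw [mul_smul, mem_stabilizer_iff.1 hrS.2, hwb])
    calc w * r * w⁻¹ = w * r * (w * r) * (r⁻¹ * (w⁻¹ * w⁻¹)) := by group
      _ = r⁻¹ := by rw [h, ← _root_.mul_inv_rev, hww, inv_one, one_mul, mul_one]
  · intro hm
    obtain ⟨n, hn⟩ := hm
    have hn' : r ^ n = w := congrArg Subtype.val hn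
    have h2 : w • a = a := by rw [← hn']; exact Subgroup.zpow_mem _ hrS.1 n
    exact hab (h2.symm.trans hwa)

end CfsgLib.PSL2
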