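import Mathlib

/-!
The exceptional case of Dickson's generation theorem: over the field with nine elements and `λ² = -1`
the two transvections generate a group of order 120.
-/

set_option autoImplicit false

namespace CfsgLib.PSL2.GenNine

open Matrix

/-- A coordinate pair, standing for `a + b λ`. -/
abbrev Q : Type := ZMod 3 × ZMod 3

/-- A matrix in coordinates. -/
abbrev M : Type := Q × Q × Q × Q

/-- Multiplication by `λ`. -/
def sh (a : Q) : Q := (-a.2, a.1)

/-- Right multiplication by one of the generators. -/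
def op : Bool → M → M
  | false, (a, b, c, d) => (a + b, b, c + d, d)
  | true, (a, b, c, d) => (a, sh a + b, c, sh c + d)

/-- The identity in coordinates. -/
def unit : M := ((1, 0), (0, 0), (0, 0), (1, 0))

def elts : List M := [
  ((1, 0), (0, 0), (0, 0), (1, 0)), ((1, 0), (0, 0), (1, 0), (1, 0)),
  ((1, 0), (0, 1), (0, 0), (1, 0)), ((1, 0), (0, 0), (2, 0), (1, 0)),
  ((1, 0), (0, 1), (1, 0), (1, 1)), ((1, 1), (0, 1), (1, 0), (1, 0)),
  ((1, 0), (0, 2), (0, 0), (1, 0)), ((1, 0), (0, 1), (2, 0), (1, 2)),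
  ((1, 1), (0, 1), (2, 1), (1, 1)), ((1, 0), (0, 2), (1, 0), (1, 2)),
  ((1, 2), (0, 1), (2, 0), (1, 0)), ((1, 1), (2, 2), (1, 0), (1, 1)),
  ((1, 2), (0, 2), (1, 0), (1, 0)), ((1, 1), (0, 1), (0, 2), (1, 2)),
  ((1, 0), (0, 2), (2, 0), (1, 1)), ((1, 2), (0, 1), (0, 2), (1, 1)),
  ((1, 1), (2, 2), (2, 1), (0, 0)), ((1, 2), (0, 2), (2, 2), (1, 2)),
  ((1, 2), (1, 2), (2, 0), (1, 2)), ((0, 0), (2, 2), (2, 1), (1, 1)),
  ((1, 1), (1, 0), (1, 0), (1, 2)), ((1, 1), (0, 2), (2, 0), (1, 0)),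
  ((1, 2), (1, 0), (1, 0), (1, 1)), ((1, 2), (0, 1), (1, 1), (1, 2)),
  ((1, 1), (2, 2), (0, 2), (2, 2)), ((1, 2), (0, 2), (0, 1), (1, 1)),
  ((1, 2), (1, 2), (0, 2), (2, 1)), ((0, 0), (2, 2), (2, 1), (0, 0)),
  ((1, 1), (1, 0), (2, 1), (2, 2)), ((1, 1), (0, 2), (0, 1), (1, 2)),
  ((1, 2), (1, 0), (2, 2), (2, 1)), ((2, 1), (1, 2), (0, 2), (1, 2)),
  ((1, 2), (2, 0), (2, 0), (1, 1)), ((2, 2), (2, 2), (0, 2), (1, 1)),
  ((2, 1), (1, 0), (2, 2), (1, 2)), ((1, 1), (2, 0), (2, 0), (1, 2)),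
  ((2, 2), (1, 0), (2, 1), (1, 1)), ((1, 2), (2, 1), (1, 0), (1, 2)),
  ((1, 2), (1, 2), (1, 1), (0, 0)), ((0, 0), (2, 2), (2, 1), (2, 2)),
  ((1, 1), (1, 0), (0, 2), (0, 2)), ((1, 1), (0, 2), (1, 2), (1, 1)),
  ((1, 2), (1, 0), (0, 1), (0, 1)), ((2, 1), (1, 2), (2, 0), (2, 1)),
  ((1, 2), (2, 0), (0, 2), (0, 1)), ((2, 2), (2, 2), (2, 1), (0, 0)),
  ((2, 1), (1, 0), (1, 0), (2, 2)), ((1, 1), (2, 0), (0, 1), (0, 2)),
  ((2, 2), (1, 0), (1, 0), (2, 1)), ((1, 2), (2, 1), (2, 2), (0, 0)),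
  ((0, 0), (1, 2), (1, 1), (1, 2)), ((2, 1), (0, 1), (0, 2), (2, 2)),
  ((0, 2), (2, 0), (0, 1), (1, 1)), ((2, 2), (0, 1), (0, 2), (2, 1)),
  ((0, 1), (1, 0), (0, 1), (1, 2)), ((2, 1), (0, 2), (2, 2), (2, 1)),
  ((0, 1), (2, 0), (0, 2), (1, 2)), ((1, 1), (1, 1), (2, 0), (1, 1)),
  ((0, 2), (1, 0), (0, 2), (1, 1)), ((0, 0), (2, 1), (2, 2), (1, 2)),
  ((2, 1), (1, 2), (1, 1), (0, 0)), ((1, 2), (2, 0), (1, 1), (2, 1)),
  ((2, 2), (2, 2), (1, 0), (2, 2)), ((2, 1), (1, 0), (0, 1), (0, 2)),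
  ((1, 1), (2, 0), (1, 2), (2, 2)), ((2, 2), (1, 0), (0, 2), (0, 1)),
  ((1, 2), (2, 1), (0, 1), (2, 1)), ((0, 0), (1, 2), (1, 1), (2, 1)),
  ((2, 1), (0, 1), (2, 0), (2, 0)), ((0, 2), (2, 0), (0, 0), (0, 1)),
  ((2, 2), (0, 1), (2, 1), (2, 2)), ((0, 1), (1, 0), (0, 2), (2, 2)),
  ((2, 1), (0, 2), (1, 0), (2, 0)), ((0, 1), (2, 0), (0, 0), (0, 2)),
  ((1, 1), (1, 1), (0, 1), (2, 2)), ((0, 2), (1, 0), (0, 1), (2, 1)),
  ((0, 0), (2, 1), (2, 2), (0, 0)), ((0, 0), (1, 2), (1, 1), (0, 0)),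
  ((2, 1), (2, 0), (0, 2), (0, 2)), ((2, 2), (2, 0), (1, 2), (1, 1)),
  ((0, 2), (0, 0), (0, 1), (0, 1)), ((2, 0), (0, 1), (2, 0), (2, 1)),
  ((0, 1), (0, 0), (0, 1), (0, 2)), ((2, 0), (0, 2), (1, 0), (2, 1)),
  ((2, 1), (2, 1), (2, 2), (0, 0)), ((2, 1), (2, 0), (1, 1), (1, 2)),
  ((2, 2), (1, 1), (0, 1), (1, 1)), ((0, 2), (2, 0), (0, 2), (2, 1)),
  ((2, 1), (2, 1), (0, 1), (1, 2)), ((0, 0), (2, 1), (2, 2), (2, 1)),
  ((2, 1), (0, 1), (1, 1), (2, 1)), ((2, 2), (0, 1), (1, 0), (2, 0)),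
  ((0, 1), (1, 0), (0, 0), (0, 2)), ((2, 1), (0, 2), (0, 1), (2, 2)),
  ((0, 1), (2, 0), (0, 1), (2, 2)), ((1, 1), (1, 1), (1, 2), (0, 0)),
  ((0, 2), (1, 0), (0, 0), (0, 1)), ((2, 1), (2, 0), (2, 0), (2, 2)),
  ((2, 2), (2, 0), (0, 1), (0, 1)), ((0, 2), (0, 0), (0, 0), (0, 1)),
  ((2, 0), (0, 1), (1, 0), (2, 2)), ((0, 1), (0, 0), (0, 2), (0, 2)),
  ((2, 0), (0, 2), (0, 0), (2, 0)), ((2, 1), (2, 1), (1, 0), (2, 1)),
  ((2, 2), (1, 1), (2, 0), (2, 2)), ((2, 2), (0, 2), (1, 2), (2, 2)),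
  ((0, 2), (0, 0), (0, 2), (0, 1)), ((2, 0), (0, 0), (2, 0), (2, 0)),
  ((0, 1), (0, 0), (0, 0), (0, 2)), ((2, 2), (0, 2), (0, 1), (2, 1)),
  ((0, 0), (1, 1), (1, 2), (1, 1)), ((2, 2), (2, 0), (2, 0), (2, 1)),
  ((2, 0), (0, 1), (0, 0), (2, 0)), ((2, 0), (0, 2), (2, 0), (2, 2)),
  ((2, 2), (1, 1), (1, 2), (0, 0)), ((2, 0), (0, 0), (1, 0), (2, 0)),
  ((2, 2), (0, 2), (2, 0), (2, 0)), ((0, 0), (1, 1), (1, 2), (2, 2)),
  ((2, 0), (0, 0), (0, 0), (2, 0)), ((0, 0), (1, 1), (1, 2), (0, 0))]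

def steps : List (ℕ × Bool) := [
  (0, false), (0, true), (1, false), (1, true), (2, false), (2, true),
  (3, true), (4, false), (4, true), (5, false), (5, true), (6, false),
  (7, false), (7, true), (8, false), (8, true), (9, false), (10, true),
  (11, false), (11, true), (12, false), (12, true), (13, false), (13, true),
  (14, false), (15, true), (16, false), (16, true), (17, false), (17, true),
  (18, false), (18, true), (19, false), (20, false), (21, true), (22, false),
  (22, true), (23, true), (24, false), (24, true), (25, false), (25, true),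
  (26, false), (26, true), (27, false), (28, false), (29, true), (30, false),
  (30, true), (31, false), (31, true), (32, false), (33, true), (34, false),
  (34, true), (35, false), (35, true), (36, false), (37, false), (38, false),
  (38, true), (39, false), (40, false), (41, true), (42, false), (42, true),
  (43, false), (43, true), (44, false), (45, true), (46, false), (46, true),
  (47, false), (47, true), (48, false), (49, false), (50, true), (51, true),
  (52, false), (52, true), (53, false), (54, true), (55, false), (55, true),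
  (56, false), (57, false), (58, true), (59, false), (59, true), (60, true),
  (62, true), (63, false), (63, true), (64, false), (64, true), (65, false),
  (68, true), (69, false), (69, true), (70, false), (71, true), (72, false),
  (72, true), (74, false), (79, true), (80, false), (81, true), (82, false),
  (83, false), (86, false), (87, false), (91, false), (93, false), (95, false),
  (100, true), (102, false), (104, false), (112, true), (114, false)]

theorem elts_length : elts.length = 120 := by decide +kernel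

theorem elts_nodup : elts.Nodup := by decide +kernel

theorem unit_mem : elts[0]? = some unit := by decide +kernel

theorem closed_op : ∀ m ∈ elts, ∀ b : Bool, op b m ∈ elts := by decide +kernel

theorem steps_spec : ∀ i : Fin 119, ∃ j b, steps[i.val]? = some (j, b) ∧ j ≤ i.val ∧
    ∃ m, elts[j]? = some m ∧ elts[i.val + 1]? = some (op b m) := by
  have h : ∀ i : Fin 119,
      (match steps[i.val]? with
        | some (j, b) => decide (j ≤ i.val) && (match elts[j]? with
          | some m => decide (elts[i.val + 1]? = some (op b m))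
          | none => false)
        | none => false) = true := by decide +kernel
  intro i
  have h1 := h i
  split at h1
  · next j b hj =>
    rw [Bool.and_eq_true, decide_eq_true_eq] at h1
    obtain ⟨h2, h3⟩ := h1
    split at h3
    · next m hm => exact ⟨j, b, hj, h2, m, hm, of_decide_eq_true h3⟩
    · exact Bool.noConfusion h3
  · exact Bool.noConfusion h1

variable {F : Type*} [Field F] [CharP F 3] (lam : F)

/-- The value of a coordinate pair. -/
def ev (a : Q) : F := ZMod.castHom (dvd_refl 3) F a.1 + ZMod.castHom (dvd_refl 3) F a.2 * lam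

/-- The matrix of a coordinate quadruple. -/
def toMat : M → Matrix (Fin 2) (Fin 2) F
  | (a, b, c, d) => !![ev lam a, ev lam b; ev lam c, ev lam d]

theorem ev_add (a b : Q) : ev lam (a + b) = ev lam a + ev lam b := by
  simp only [ev, Prod.fst_add, Prod.snd_add, map_add]
  ring

theorem toMat_unit : toMat lam unit = 1 := by
  simp [unit, toMat, ev, Matrix.one_fin_two]

variable {lam} (hl : lam ^ 2 = -1)

include hl

theorem ev_sh (a : Q) : ev lam (sh a) = lam * ev lam a := by
  simp only [ev, sh, map_neg]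
  linear_combination (-(ZMod.castHom (dvd_refl 3) F a.2)) * hl

theorem toMat_op_false (m : M) : toMat lam (op false m) = toMat lam m * !![1, 0; 1, 1] := by
  obtain ⟨a, b, c, d⟩ := m
  simp [op, toMat, ev_add, Matrix.mul_fin_two]

theorem toMat_op_true (m : M) : toMat lam (op true m) = toMat lam m * !![1, lam; 0, 1] := by
  obtain ⟨a, b, c, d⟩ := m
  simp [op, toMat, ev_add, ev_sh hl, Matrix.mul_fin_two, mul_comm]

theorem ev_injective : Function.Injective (ev lam) := by
  intro a b h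
  have key : a.2 = b.2 := by
    by_contra hne
    have hz : a.2 - b.2 ≠ 0 := sub_ne_zero.2 hne
    have hd : ZMod.castHom (dvd_refl 3) F (a.2 - b.2) * lam = ZMod.castHom (dvd_refl 3) F (b.1 - a.1) := by
      simp only [ev] at h
      rw [map_sub, map_sub]
      linear_combination h
    have hlam : lam = ZMod.castHom (dvd_refl 3) F ((b.1 - a.1) * (a.2 - b.2)⁻¹) := by
      rw [map_mul, ← hd, mul_right_comm, ← map_mul, mul_inv_cancel₀ hz, map_one, one_mul]
    rw [hlam, ← map_pow, ← map_one (ZMod.castHom (dvd_refl 3) F), ← map_neg] at hl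
    have := (ZMod.castHom (dvd_refl 3) F).injective hl
    revert this
    generalize (b.1 - a.1) * (a.2 - b.2)⁻¹ = z
    revert z
    decide
  refine Prod.ext ((ZMod.castHom (dvd_refl 3) F).injective ?_) key
  simp only [ev, key] at h
  linear_combination h

theorem toMat_injective : Function.Injective (toMat lam) := by
  rintro ⟨a, b, c, d⟩ ⟨a', b', c', d'⟩ h
  have h1 := congrFun (congrFun h 0) 0
  have h2 := congrFun (congrFun h 0) 1
  have h3 := congrFun (congrFun h 1) 0
  have h4 := congrFun (congrFun h 1) 1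
  simp [toMat] at h1 h2 h3 h4
  rw [ev_injective hl h1, ev_injective hl h2, ev_injective hl h3, ev_injective hl h4]

theorem card_closure [Fintype F] :
    Nat.card ↥(Subgroup.closure {g : Matrix.SpecialLinearGroup (Fin 2) F |
      (g : Matrix (Fin 2) (Fin 2) F) = !![1, 0; 1, 1] ∨
      (g : Matrix (Fin 2) (Fin 2) F) = !![1, lam; 0, 1]}) = 120 := by
  classical
  set S := {g : Matrix.SpecialLinearGroup (Fin 2) F |
      (g : Matrix (Fin 2) (Fin 2) F) = !![1, 0; 1, 1] ∨
      (g : Matrix (Fin 2) (Fin 2) F) = !![1, lam; 0, 1]} with hS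
  set G := Subgroup.closure S with hG
  let gU : Matrix.SpecialLinearGroup (Fin 2) F := ⟨!![1, 0; 1, 1], by simp [Matrix.det_fin_two]⟩
  let gV : Matrix.SpecialLinearGroup (Fin 2) F := ⟨!![1, lam; 0, 1], by simp [Matrix.det_fin_two]⟩
  have hin : ∀ i, ∀ hi : i < elts.length, ∃ g ∈ G, (g : Matrix (Fin 2) (Fin 2) F) = toMat lam elts[i] := by
    intro i
    induction i using Nat.strong_induction_on with
    | _ i ih =>
      intro hi
      rcases i with _ | i
      · refine ⟨1, one_mem _, ?_⟩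
        have h0 := unit_mem
        rw [List.getElem?_eq_getElem hi, Option.some.injEq] at h0
        rw [h0, toMat_unit]
        rfl
      · obtain ⟨j, b, -, hji, m, hm, hm'⟩ := steps_spec ⟨i, by rw [elts_length] at hi; omega⟩
        simp only [] at hji hm'
        rw [List.getElem?_eq_getElem hi, Option.some.injEq] at hm'
        obtain ⟨hj, hjm⟩ := List.getElem?_eq_some_iff.1 hm
        obtain ⟨g, hgG, hg⟩ := ih j (by omega) hj
        cases b
        · refine ⟨g * gU, mul_mem hgG (Subgroup.subset_closure (Or.inl rfl)), ?_⟩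
          rw [Matrix.SpecialLinearGroup.coe_mul, hg, hm', toMat_op_false hl, hjm]
        · refine ⟨g * gV, mul_mem hgG (Subgroup.subset_closure (Or.inr rfl)), ?_⟩
          rw [Matrix.SpecialLinearGroup.coe_mul, hg, hm', toMat_op_true hl, hjm]
  have hout : ∀ g ∈ G, ∃ m ∈ elts, (g : Matrix (Fin 2) (Fin 2) F) = toMat lam m := by
    intro g hg
    rw [← Subgroup.mem_toSubmonoid, hG, Subgroup.closure_toSubmonoid_of_finite] at hg
    induction hg using Submonoid.closure_induction_right with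
    | one => exact ⟨unit, List.mem_of_getElem? unit_mem, (toMat_unit lam).symm⟩
    | mul_right x hx y hy ih =>
      obtain ⟨m, hm, hxm⟩ := ih
      rcases hy with hy | hy
      · exact ⟨op false m, closed_op m hm false, by
          rw [Matrix.SpecialLinearGroup.coe_mul, hxm, hy, toMat_op_false hl]⟩
      · exact ⟨op true m, closed_op m hm true, by
          rw [Matrix.SpecialLinearGroup.coe_mul, hxm, hy, toMat_op_true hl]⟩
  choose f hfG hf using fun i : Fin elts.length => hin i.val i.isLt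
  have hb : Function.Bijective (fun i => (⟨f i, hfG i⟩ : G)) := by
    refine ⟨fun i j hij => ?_, fun g => ?_⟩
    · have hij' : f i = f j := congrArg Subtype.val hij
      have := congrArg Subtype.val hij'
      rw [hf, hf] at this
      exact Fin.ext ((elts_nodup.getElem_inj_iff).1 (toMat_injective hl this))
    · obtain ⟨m, hm, hgm⟩ := hout g g.2
      obtain ⟨i, hi, rfl⟩ := List.getElem_of_mem hm
      exact ⟨⟨i, hi⟩, Subtype.ext (Subtype.ext ((hf ⟨i, hi⟩).trans hgm.symm))⟩
  rw [← Nat.card_eq_of_bijective _ hb, Nat.card_eq_fintype_card, Fintype.card_fin, elts_length]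

end CfsgLib.PSL2.GenNine
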