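import Cfsg.Agent.Lib.PSL2.Four
import Cfsg.Agent.Lib.Recog.PresentationsFive

/-!
The icosahedral subgroups of `PSL₂(F)`.
-/

set_option autoImplicit false
set_option linter.style.haveILetI false
set_option linter.unusedSectionVars false

namespace CfsgLib.PSL2

open Matrix

section Mat

variable {K : Type*} [Field K]

local notation "M2" => Matrix (Fin 2) (Fin 2) K
local notation "SL2" => Matrix.SpecialLinearGroup (Fin 2) K

/-- The conic of partners of the standard element of order three. -/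
def quad (τ c d : K) : K := c ^ 2 + d ^ 2 - c * d - τ * d + 1

theorem mul_self_eq (m : M2) : m * m = m.trace • m - m.det • (1 : M2) := by
  ext i j
  fin_cases i <;> fin_cases j <;>
    simp [Matrix.mul_apply, Matrix.trace_fin_two, Matrix.det_fin_two] <;> ring

theorem pow_three_eq {m : M2} (hd : m.det = 1) :
    m * m * m = (m.trace * m.trace - 1) • m - m.trace • (1 : M2) := by
  have h := mul_self_eq m
  rw [hd, one_smul] at h
  rw [h, sub_mul, smul_mul_assoc, h, one_mul]
  module

theorem pow_five_eq {m : M2} (hd : m.det = 1) :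
    m * m * m * m * m = (m.trace ^ 4 - 3 * m.trace ^ 2 + 1) • m - (m.trace ^ 3 - 2 * m.trace) • (1 : M2) := by
  have h := mul_self_eq m
  rw [hd, one_smul] at h
  rw [pow_three_eq hd, sub_mul, smul_mul_assoc, smul_mul_assoc, one_mul, h, sub_mul, smul_mul_assoc,
    smul_mul_assoc, sub_mul, smul_mul_assoc, one_mul, h]
  module

theorem scalar_cases {s : SL2} {c : K} (h : s.1 = c • (1 : M2)) : s.1 = 1 ∨ s.1 = -1 := by
  have hd := s.2
  rw [h, Matrix.det_smul, Fintype.card_fin, Matrix.det_one, mul_one, pow_two] at hd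
  rcases mul_self_eq_one_iff.1 hd with e | e
  · exact .inl (by rw [h, e, one_smul])
  · exact .inr (by rw [h, e, neg_smul, one_smul])

/-- The root of `τ² = τ + 1` given by an element of order ten. -/
theorem trace_five {s : SL2} (h5 : s.1 * s.1 * s.1 * s.1 * s.1 = -1) (hne : s.1 ≠ -1) :
    s.1.trace * s.1.trace = s.1.trace + 1 := by
  have h := pow_five_eq s.2
  rw [h5] at h
  set t := s.1.trace with ht
  by_cases hA : t ^ 4 - 3 * t ^ 2 + 1 = 0
  · rw [hA, zero_smul, zero_sub] at h
    have hB : t ^ 3 - 2 * t = 1 := by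
      have := congrFun (congrFun h 0) 0
      simp at this
      linear_combination this
    have h1 : (t + 1) * (t * t - t - 1) = 0 := by linear_combination hB
    rcases mul_eq_zero.1 h1 with e | e
    · rw [show t = -1 by linear_combination e] at hA
      exact absurd (show (1 : K) = 0 by linear_combination -hA) one_ne_zero
    · linear_combination e
  · exfalso
    have hs : s.1 = ((t ^ 3 - 2 * t - 1) / (t ^ 4 - 3 * t ^ 2 + 1)) • (1 : M2) := by
      rw [div_eq_inv_mul, ← smul_smul, eq_inv_smul_iff₀ hA]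
      linear_combination (norm := module) -h
    rcases scalar_cases hs with e | e
    · rw [e] at h5
      simp only [mul_one] at h5
      exact hne (e.trans h5)
    · exact hne e

theorem trace_three {s : SL2} (h3 : s.1 * s.1 * s.1 = -1) (hne : s.1 ≠ -1) : s.1.trace = 1 := by
  have h := pow_three_eq s.2
  rw [h3] at h
  set t := s.1.trace with ht
  by_cases hA : t * t - 1 = 0
  · rw [hA, zero_smul, zero_sub] at h
    have := congrFun (congrFun h 0) 0
    simpa [Matrix.one_apply] using this.symm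
  · exfalso
    have hs : s.1 = ((t - 1) / (t * t - 1)) • (1 : M2) := by
      rw [div_eq_inv_mul, ← smul_smul, eq_inv_smul_iff₀ hA]
      linear_combination (norm := module) -h
    rcases scalar_cases hs with e | e
    · rw [e] at h3
      simp only [mul_one] at h3
      exact hne (e.trans h3)
    · exact hne e

theorem trace_two {s : SL2} (hs : s.1 * s.1 = 1 ∨ s.1 * s.1 = -1)
    (h1 : s.1 ≠ 1) (hn : s.1 ≠ -1) : s.1.trace = 0 := by
  have h := mul_self_eq s.1
  rw [s.2, one_smul] at h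
  set t := s.1.trace with ht
  by_contra ht0
  obtain ⟨c, hc⟩ : ∃ c : K, t • s.1 = c • (1 : M2) := by
    rcases hs with e | e <;> rw [e] at h
    · exact ⟨2, by rw [two_smul]; exact (sub_eq_iff_eq_add.1 h.symm)⟩
    · exact ⟨0, by rw [zero_smul]; simpa using (sub_eq_iff_eq_add.1 h.symm)⟩
  have : s.1 = (c / t) • (1 : M2) := by
    rw [div_eq_inv_mul, ← smul_smul, ← hc, inv_smul_smul₀ ht0]
  rcases scalar_cases this with e | e
  · exact h1 e
  · exact hn e

/-- The standard element of order three. -/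
def stdX : SL2 := ⟨!![0, -1; 1, 1], by simp [Matrix.det_fin_two]⟩

/-- Its partners. -/
def stdY {τ c d : K} (h : quad τ c d = 0) : SL2 :=
  ⟨!![τ - d, c - d; c, d], by rw [quad] at h; rw [Matrix.det_fin_two_of]; linear_combination -h⟩

theorem exists_conic [Finite K] {τ : K} (hτ : τ * τ = τ + 1) : ∃ c d : K, quad τ c d = 0 := by
  classical
  haveI := Fintype.ofFinite K
  by_cases h2 : (2 : K) = 0
  · exact ⟨1, 0, by rw [quad]; linear_combination h2⟩
  have hτ0 : τ ≠ 0 := by rintro rfl; simp at hτ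
  by_cases h3 : (3 : K) = 0
  · refine ⟨τ⁻¹ / 2, τ⁻¹, ?_⟩
    rw [quad]
    field_simp
    linear_combination h3
  have hodd : Fintype.card K % 2 = 1 :=
    FiniteField.odd_card_of_char_ne_two (fun e => h2 (by
      haveI := ringChar.of_eq e
      exact CharTwo.two_eq_zero))
  obtain ⟨e, d, hed⟩ := FiniteField.exists_root_sum_quadratic (R := K)
    (f := Polynomial.C 1 * Polynomial.X ^ 2 + Polynomial.C 0 * Polynomial.X + Polynomial.C 0)
    (g := Polynomial.C (3 / 4 : K) * Polynomial.X ^ 2 + Polynomial.C (-τ) * Polynomial.X + Polynomial.C 1)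
    (Polynomial.degree_quadratic one_ne_zero) (Polynomial.degree_quadratic (by
      have h4 : (4 : K) ≠ 0 := by rw [show (4 : K) = 2 * 2 by norm_num]; exact mul_ne_zero h2 h2
      exact div_ne_zero h3 h4)) hodd
  refine ⟨e + d / 2, d, ?_⟩
  simp only [Polynomial.eval_add, Polynomial.eval_mul, Polynomial.eval_pow, Polynomial.eval_C,
    Polynomial.eval_X] at hed
  rw [quad]
  have h4 : (4 : K) ≠ 0 := by rw [show (4 : K) = 2 * 2 by norm_num]; exact mul_ne_zero h2 h2
  field_simp at hed ⊢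
  linear_combination hed

/-- Two partners are conjugate under the centralizer of `stdX`. -/
theorem conic_conj {τ c d c' d' : K} (h : quad τ c d = 0) (h' : quad τ c' d' = 0) :
    ∃ u w : K, ¬ (u = 0 ∧ w = 0) ∧
      !![u, -w; w, u + w] * !![τ - d, c - d; c, d] = !![τ - d', c' - d'; c', d'] * !![u, -w; w, u + w] := by
  rw [quad] at h h'
  by_cases h0 : c + c' - d' = 0 ∧ d' - d = 0
  · obtain ⟨e1, e2⟩ := h0
    have ed : d' = d := by linear_combination e2
    have ec : c' = d - c := by linear_combination e1 + ed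
    rw [ec, ed] at h' ⊢
    by_cases hc : c - (d - c) = 0
    · refine ⟨1, 0, fun e => one_ne_zero e.1, ?_⟩
      ext i j
      fin_cases i <;> fin_cases j <;> simp <;> first | ring1 | linear_combination hc | linear_combination -hc
    · refine ⟨τ - 2 * d + c, (d - c) - c, fun e => hc (by linear_combination -e.2), ?_⟩
      ext i j
      fin_cases i <;> fin_cases j <;> simp <;> ring
  · refine ⟨c + c' - d', d' - d, h0, ?_⟩
    ext i j
    fin_cases i <;> fin_cases j <;> simp <;>
      first | ring1 | linear_combination h - h' | linear_combination h' - h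

/-- A common eigenvector forces characteristic two. -/
theorem no_common_eigen (h2 : (2 : K) ≠ 0) {τ c d z η : K} (hτ : τ * τ = τ + 1) (hQ : quad τ c d = 0)
    (hz : z ^ 2 + z + 1 = 0) (hη : η = τ - d + (c - d) * z) (hE : c + d * z = z * η) : False := by
  rw [quad] at hQ
  have h1 : η * η = τ * η - 1 := by linear_combination hQ + (η - d) * hη - (c - d) * hE
  have h5 : η ^ 5 = -1 := by
    linear_combination (η ^ 3 + τ * η ^ 2 + (τ * τ - 1) * η + (τ * τ * τ - 2 * τ)) * h1 +
      ((τ * τ + τ - 1) * η - (τ + 1)) * hτ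
  have hz3 : z ^ 3 = 1 := by linear_combination (z - 1) * hz
  have h3 : (z * η) ^ 2 = -1 := by
    linear_combination hQ + d * ((τ - c) * hz + (z + 1) * (hE + (c - d) * hz + z * hη)) - (c + d * z + z * η) * hE
  have h4 : (z * η) ^ 30 = 1 := by
    rw [mul_pow, show (30 : ℕ) = 3 * 10 from rfl, pow_mul z, hz3, one_pow, one_mul,
      show 3 * 10 = 5 * 6 from rfl, pow_mul, h5]
    norm_num
  rw [show (30 : ℕ) = 2 * 15 from rfl, pow_mul, h3] at h4
  exact h2 (by linear_combination -h4)

end Mat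

open CfsgLib.Classical

variable {F : Type*} [Field F]

local notation "SL2F" => Matrix.SpecialLinearGroup (Fin 2) F
local notation "PG" => Matrix.ProjGenLinGroup (Fin 2) F

/-- The natural map to `PGL₂(F)`. -/
noncomputable def slToPG : SL2F →* PG :=
  (ProjectiveSpecialLinearGroup.toPGL (n := Fin 2) (R := F)).comp (QuotientGroup.mk' _)

theorem slToPG_apply (s : SL2F) : slToPG s = ProjGenLinGroup.mk (SpecialLinearGroup.toGL s) :=
  ProjectiveSpecialLinearGroup.toPGL_mk s

theorem slToPG_mem (s : SL2F) : slToPG s ∈ pslRange F := ⟨QuotientGroup.mk' _ s, rfl⟩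

theorem exists_lift {z : PG} (hz : z ∈ pslRange F) : ∃ s : SL2F, slToPG s = z := by
  obtain ⟨w, rfl⟩ := hz
  obtain ⟨s, rfl⟩ := QuotientGroup.mk'_surjective _ w
  exact ⟨s, rfl⟩

theorem slToPG_eq_one_iff {s : SL2F} : slToPG s = 1 ↔ s.1 = 1 ∨ s.1 = -1 := by
  rw [slToPG, MonoidHom.comp_apply, map_eq_one_iff _ ProjectiveSpecialLinearGroup.toPGL_injective,
    QuotientGroup.mk'_apply, QuotientGroup.eq_one_iff, Matrix.SpecialLinearGroup.mem_center_iff]
  constructor
  · rintro ⟨r, hr, hrs⟩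
    rw [Fintype.card_fin, pow_two] at hr
    rcases mul_self_eq_one_iff.1 hr with rfl | rfl
    · exact .inl (by rw [← hrs, map_one])
    · exact .inr (by rw [← hrs, map_neg, map_one])
  · rintro (h | h)
    · exact ⟨1, one_pow _, by rw [map_one, h]⟩
    · exact ⟨-1, by simp, by rw [map_neg, map_one, h]⟩

theorem slToPG_neg (s : SL2F) : slToPG (-s) = slToPG s := by
  rw [show (-s : SL2F) = (-1) * s by rw [neg_one_mul], map_mul, slToPG_eq_one_iff.2 (.inr (by simp)), one_mul]

/-- A lift with the right sign. -/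
theorem exists_lift_odd {z : PG} (hz : z ∈ pslRange F) (hz1 : z ≠ 1) {n : ℕ} (hn : Odd n) (h : z ^ n = 1) :
    ∃ s : SL2F, slToPG s = z ∧ s.1 ^ n = -1 ∧ s.1 ≠ -1 := by
  obtain ⟨s, rfl⟩ := exists_lift hz
  have hs : s.1 ≠ 1 ∧ s.1 ≠ -1 :=
    ⟨fun e => hz1 (slToPG_eq_one_iff.2 (.inl e)), fun e => hz1 (slToPG_eq_one_iff.2 (.inr e))⟩
  rw [← map_pow, slToPG_eq_one_iff, Matrix.SpecialLinearGroup.coe_pow] at h
  rcases h with h | h
  · refine ⟨-s, slToPG_neg s, ?_, ?_⟩
    · rw [Matrix.SpecialLinearGroup.coe_neg, hn.neg_pow, h]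
    · rw [Matrix.SpecialLinearGroup.coe_neg]
      exact fun e => hs.1 (neg_injective e)
  · exact ⟨s, rfl, h, hs.2⟩

section Exists

variable [Finite F]

/-- `τ² = τ + 1` is solvable when `5` divides the order of the group. -/
theorem exists_tau (h5 : 5 ∣ Nat.card F * (Nat.card F ^ 2 - 1)) : ∃ τ : F, τ * τ = τ + 1 := by
  haveI := Fact.mk Nat.prime_five
  obtain ⟨s, hs⟩ := exists_prime_orderOf_dvd_card' (G := SL2F) 5 (by rwa [card_SL_two])
  have hs1 : s.1 ≠ 1 := fun e => by
    rw [show s = 1 from Subtype.ext e, orderOf_one] at hs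
    omega
  have hp : s ^ 5 = 1 := orderOf_dvd_iff_pow_eq_one.1 hs.dvd
  refine ⟨(-s).1.trace, trace_five ?_ ?_⟩
  · have h : (-s).1 ^ 5 = -1 := by
      rw [Matrix.SpecialLinearGroup.coe_neg, Odd.neg_pow (by decide), ← Matrix.SpecialLinearGroup.coe_pow, hp]
      rfl
    rw [← h]
    simp [pow_succ]
  · rw [Matrix.SpecialLinearGroup.coe_neg]
    exact fun e => hs1 (neg_injective e)

/-- An icosahedral subgroup. -/
theorem exists_alt_five {τ : F} (hτ : τ * τ = τ + 1) :
    ∃ X : Subgroup PG, X ≤ pslRange F ∧ Nonempty (X ≃* alternatingGroup (Fin 5)) := by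
  obtain ⟨c, d, hQ⟩ := exists_conic hτ
  set x : PG := slToPG stdX
  set y : PG := slToPG (stdY hQ)
  have hx : x ^ 3 = 1 := by
    rw [← map_pow, slToPG_eq_one_iff, Matrix.SpecialLinearGroup.coe_pow]
    refine .inr ?_
    rw [pow_succ, pow_succ, pow_one, pow_three_eq (stdX (K := F)).2]
    simp [stdX, Matrix.trace_fin_two]
  have hy : y ^ 5 = 1 := by
    rw [← map_pow, slToPG_eq_one_iff, Matrix.SpecialLinearGroup.coe_pow]
    refine .inr ?_
    rw [pow_succ, pow_succ, pow_succ, pow_succ, pow_one, pow_five_eq (stdY hQ).2]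
    have ht : (stdY hQ).1.trace = τ := by simp [stdY, Matrix.trace_fin_two]
    rw [ht, show τ ^ 4 - 3 * τ ^ 2 + 1 = 0 by linear_combination (τ * τ + τ - 1) * hτ,
      show τ ^ 3 - 2 * τ = 1 by linear_combination (τ + 1) * hτ, zero_smul, one_smul, zero_sub]
  have hxy : (x * y) ^ 2 = 1 := by
    rw [← map_mul, ← map_pow, slToPG_eq_one_iff, Matrix.SpecialLinearGroup.coe_pow]
    refine .inr ?_
    rw [pow_two, mul_self_eq, Matrix.SpecialLinearGroup.det_coe]
    have ht : (stdX * stdY hQ : SL2F).1.trace = 0 := by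
      rw [Matrix.SpecialLinearGroup.coe_mul]
      simp [stdX, stdY, Matrix.trace_fin_two]
    rw [ht, zero_smul, one_smul, zero_sub]
  have hx1 : x ≠ 1 := by
    intro e
    rcases slToPG_eq_one_iff.1 e with e | e <;>
      · have := congrFun (congrFun e 1) 0
        simp [stdX] at this
  have hrel : ∀ r ∈ ({FreeGroup.of (0 : Fin 2) ^ 3, FreeGroup.of (1 : Fin 2) ^ 5,
      (FreeGroup.of (0 : Fin 2) * FreeGroup.of 1) ^ 2} : Set (FreeGroup (Fin 2))),
      FreeGroup.lift ![x, y] r = 1 := by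
    rintro r (rfl | rfl | rfl) <;> simp [hx, hy, hxy]
  obtain ⟨e⟩ := CfsgLib.Recog.presentation_alternating_five
  set φ : alternatingGroup (Fin 5) →* PG := (PresentedGroup.toGroup hrel).comp e.symm.toMonoidHom
  have hφ : Function.Injective φ := by
    rw [← MonoidHom.ker_eq_bot_iff]
    refine (φ.normal_ker.eq_bot_or_eq_top).resolve_right fun htop => hx1 ?_
    have h1 : φ (e (PresentedGroup.of 0)) = 1 := MonoidHom.mem_ker.1 (htop ▸ Subgroup.mem_top _)
    simpa [φ] using h1
  refine ⟨φ.range, ?_, ⟨(MonoidHom.ofInjective hφ).symm⟩⟩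
  rw [MonoidHom.range_comp, MonoidHom.range_eq_top.2 e.symm.surjective, ← MonoidHom.range_eq_map,
    MonoidHom.range_eq_map, ← PresentedGroup.closure_range_of, MonoidHom.map_closure, Subgroup.closure_le]
  rintro _ ⟨_, ⟨i, rfl⟩, rfl⟩
  fin_cases i <;> simp only [PresentedGroup.toGroup.of] <;> exact slToPG_mem _

end Exists

/-- An icosahedral group lies in the group over any subfield containing the roots of `τ² = τ + 1`. -/
theorem icosa_into [Finite F] (h2 : (2 : F) ≠ 0) {K : Subfield F} (hK : ∀ t : F, t * t = t + 1 → t ∈ K)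
    {X : Subgroup PG} (hX : X ≤ pslRange F) (i : X ≃* alternatingGroup (Fin 5)) :
    ∃ k : PG, X ≤ subGroupK K k := by
  obtain ⟨e⟩ := CfsgLib.Recog.presentation_alternating_five
  set φ := X.subtype.comp (i.symm.toMonoidHom.comp e.toMonoidHom) with hφd
  have hφ : Function.Injective φ := X.subtype_injective.comp (i.symm.injective.comp e.injective)
  set x := φ (PresentedGroup.of 0) with hxd
  set y := φ (PresentedGroup.of 1) with hyd
  have hrange : X = Subgroup.closure {x, y} := by
    have hr : φ.range = X := by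
      rw [hφd, MonoidHom.range_comp, MonoidHom.range_eq_top.2, ← MonoidHom.range_eq_map, Subgroup.range_subtype]
      exact i.symm.surjective.comp e.surjective
    rw [← hr, MonoidHom.range_eq_map, ← PresentedGroup.closure_range_of, MonoidHom.map_closure, ← Set.range_comp]
    congr 1
    ext z
    simp [Fin.exists_fin_two, eq_comm, x, y]
  have hxm : x ∈ X := by rw [hrange]; exact Subgroup.subset_closure (.inl rfl)
  have hym : y ∈ X := by rw [hrange]; exact Subgroup.subset_closure (.inr rfl)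
  have hx3 : x ^ 3 = 1 := by
    rw [hxd, ← map_pow]
    exact (congrArg φ (PresentedGroup.one_of_mem (Set.mem_insert _ _))).trans (map_one φ)
  have hy5 : y ^ 5 = 1 := by
    rw [hyd, ← map_pow]
    exact (congrArg φ (PresentedGroup.one_of_mem
      (Set.mem_insert_of_mem _ (Set.mem_insert _ _)))).trans (map_one φ)
  have hxy2 : (x * y) ^ 2 = 1 := by
    rw [hxd, hyd, ← map_mul, ← map_pow]
    exact (congrArg φ (PresentedGroup.one_of_mem
      (Set.mem_insert_of_mem _ (Set.mem_insert_of_mem _ (Set.mem_singleton _))))).trans (map_one φ)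
  have hne : ¬ (x = 1 ∧ y = 1) := by
    rintro ⟨ex, ey⟩
    have hbot : X = ⊥ := by rw [hrange, ex, ey]; simp
    have h60 : Nat.card X = 60 := (Nat.card_congr i.toEquiv).trans card_alt_five
    rw [hbot, Subgroup.card_bot] at h60
    omega
  have hxy_ne : x ≠ 1 ∧ y ≠ 1 ∧ x * y ≠ 1 := by
    have key : ∀ z : PG, z ^ 3 = 1 → z ^ 5 = 1 → z = 1 := fun z a b => by
      rw [show (5 : ℕ) = 3 + 2 from rfl, pow_add, a, one_mul] at b
      rw [pow_succ, b, one_mul] at a
      exact a
    have key2 : ∀ z : PG, z ^ 2 = 1 → z ^ 5 = 1 → z = 1 := fun z a b => by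
      rwa [show (5 : ℕ) = 2 + 2 + 1 from rfl, pow_succ, pow_add, a, one_mul, one_mul] at b
    have key3 : ∀ z : PG, z ^ 2 = 1 → z ^ 3 = 1 → z = 1 := fun z a b => by
      rwa [pow_succ, a, one_mul] at b
    refine ⟨fun ex => hne ⟨ex, key2 y ?_ hy5⟩, fun ey => hne ⟨key3 x ?_ hx3, ey⟩, fun exy => hne ?_⟩
    · rwa [ex, one_mul] at hxy2
    · rwa [ey, mul_one] at hxy2
    · have hy3 : y ^ 3 = 1 := by
        rw [eq_inv_of_mul_eq_one_right exy, inv_pow, hx3, inv_one]
      have ey := key y hy3 hy5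
      exact ⟨by rwa [ey, mul_one] at exy, ey⟩
  obtain ⟨S, hSx, hS3, hSn⟩ := exists_lift_odd (hX hxm) hxy_ne.1 (by decide : Odd 3) hx3
  obtain ⟨T, hTy, hT5, hTn⟩ := exists_lift_odd (hX hym) hxy_ne.2.1 (by decide : Odd 5) hy5
  have htS : S.1.trace = 1 := trace_three (by rw [← hS3]; simp [pow_succ]) hSn
  have hτ := trace_five (s := T) (by rw [← hT5]; simp [pow_succ]) hTn
  set τ := T.1.trace with hτd
  have htST : (S * T).1.trace = 0 := by
    have h : slToPG ((S * T) ^ 2) = 1 := by rw [map_pow, map_mul, hSx, hTy, hxy2]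
    rw [slToPG_eq_one_iff, Matrix.SpecialLinearGroup.coe_pow, pow_two] at h
    refine trace_two h (fun e => hxy_ne.2.2 ?_) (fun e => hxy_ne.2.2 ?_)
    · rw [← hSx, ← hTy, ← map_mul, slToPG_eq_one_iff]; exact .inl e
    · rw [← hSx, ← hTy, ← map_mul, slToPG_eq_one_iff]; exact .inr e
  -- the companion form
  have hnsc : ¬ (S.1 1 0 = 0 ∧ S.1 0 1 = 0 ∧ S.1 0 0 = S.1 1 1) := by
    rintro ⟨a, b, c⟩
    have hs : S.1 = S.1 0 0 • (1 : Matrix (Fin 2) (Fin 2) F) := by
      ext i j; fin_cases i <;> fin_cases j <;> simp [a, b, c]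
    rcases scalar_cases hs with e | e
    · rw [e, one_pow] at hS3
      exact hSn (e.trans hS3)
    · exact hSn e
  have hSd := S.2
  rw [Matrix.det_fin_two] at hSd
  have htS' := htS
  rw [Matrix.trace_fin_two] at htS'
  obtain ⟨v0, v1, hv⟩ : ∃ v0 v1 : F,
      v0 * (S.1 1 0 * v0 + S.1 1 1 * v1) - v1 * (S.1 0 0 * v0 + S.1 0 1 * v1) ≠ 0 := by
    by_cases a : S.1 1 0 = 0
    · by_cases b : S.1 0 1 = 0
      · refine ⟨1, 1, fun e => hnsc ⟨a, b, ?_⟩⟩
        linear_combination -e + a - b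
      · exact ⟨0, 1, fun e => b (by linear_combination -e)⟩
    · exact ⟨1, 0, fun e => a (by linear_combination e)⟩
  set P : GL (Fin 2) F := GeneralLinearGroup.mkOfDetNeZero
    !![v0, S.1 0 0 * v0 + S.1 0 1 * v1; v1, S.1 1 0 * v0 + S.1 1 1 * v1]
    (by rw [Matrix.det_fin_two_of]; intro e; exact hv (by linear_combination e))
  have hPX : S.1 * P.1 = P.1 * !![0, -1; 1, 1] := by
    have e00 : S.1 0 0 * S.1 0 0 + S.1 0 1 * S.1 1 0 = S.1 0 0 - 1 := by
      linear_combination S.1 0 0 * htS' - hSd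
    have e11 : S.1 1 1 * S.1 1 1 + S.1 0 1 * S.1 1 0 = S.1 1 1 - 1 := by
      linear_combination S.1 1 1 * htS' - hSd
    ext i j
    fin_cases i <;> fin_cases j <;> simp [P, GeneralLinearGroup.mkOfDetNeZero, Matrix.mul_apply]
    · linear_combination v0 * e00 + S.1 0 1 * v1 * htS'
    · linear_combination v1 * e11 + S.1 1 0 * v0 * htS'
  set Y : Matrix (Fin 2) (Fin 2) F := (P⁻¹).1 * T.1 * P.1 with hYd
  have hPi : P.1 * (P⁻¹).1 = 1 := by rw [← Units.val_mul, mul_inv_cancel, Units.val_one]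
  have hYt : Y.trace = τ := by rw [hYd, Matrix.trace_mul_cycle, hPi, one_mul]
  have hYd1 : Y.det = 1 := by
    rw [hYd, Matrix.det_mul, Matrix.det_mul, mul_right_comm, ← Matrix.det_mul, Units.inv_mul, Matrix.det_one,
      one_mul, T.2]
  have hCY : (!![0, -1; 1, 1] * Y).trace = 0 := by
    have hC : (P⁻¹).1 * S.1 * P.1 = !![0, -1; 1, 1] := by
      rw [mul_assoc, hPX, ← mul_assoc, Units.inv_mul, one_mul]
    rw [← hC, hYd, show (P⁻¹).1 * S.1 * P.1 * ((P⁻¹).1 * T.1 * P.1) = (P⁻¹).1 * (S.1 * T.1) * P.1 by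
      rw [mul_assoc ((P⁻¹).1 * S.1), ← mul_assoc P.1, ← mul_assoc P.1, hPi, one_mul]; simp only [mul_assoc],
      Matrix.trace_mul_cycle, hPi, one_mul]
    exact htST
  set c := Y 1 0 with hcd
  set d := Y 1 1 with hdd
  rw [Matrix.trace_fin_two] at hYt hCY
  rw [Matrix.det_fin_two] at hYd1
  simp [Matrix.mul_apply] at hCY
  have h00 : Y 0 0 = τ - d := by linear_combination hYt
  have h01 : Y 0 1 = c - d := by linear_combination hCY
  have hYeq : Y = !![τ - d, c - d; c, d] := by
    ext i j; fin_cases i <;> fin_cases j <;> simp [h00, h01, c, d]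
  have hQ : quad τ c d = 0 := by
    rw [h00, h01] at hYd1
    rw [quad]
    linear_combination -hYd1
  obtain ⟨c₀, d₀, hQ0⟩ := exists_conic (K := K) (τ := ⟨τ, hK τ hτ⟩) (Subtype.ext (by simpa using hτ))
  have hQ0' : quad τ (c₀ : F) d₀ = 0 := by
    have := congrArg (Subtype.val) hQ0
    simpa [quad] using this
  obtain ⟨u, w, huw, hM⟩ := conic_conj hQ hQ0'
  have hMdet : u * (u + w) - -w * w ≠ 0 := by
    intro h0
    have hw0 : w ≠ 0 := fun e => huw ⟨by
      rw [e] at h0
      exact pow_eq_zero_iff two_ne_zero |>.1 (by linear_combination h0), e⟩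
    set z := u / w with hzd
    have hu : u = z * w := by rw [hzd, div_mul_cancel₀ _ hw0]
    have hz : z ^ 2 + z + 1 = 0 := by
      refine mul_left_cancel₀ (mul_ne_zero hw0 hw0) ?_
      rw [mul_zero]
      rw [hu] at h0
      linear_combination h0
    refine no_common_eigen h2 hτ hQ (z := z) hz rfl ?_
    have h1 := congrFun (congrFun hM 0) 0
    have h3 := congrFun (congrFun hM 0) 1
    simp [Matrix.mul_apply] at h1 h3
    refine mul_left_cancel₀ hw0 ?_
    rw [hu] at h1 h3
    linear_combination -h1 - z * h3 - ((c₀ : F) - (d₀ : F)) * w * hz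
  set M : GL (Fin 2) F := GeneralLinearGroup.mkOfDetNeZero !![u, -w; w, u + w]
    (by rw [Matrix.det_fin_two_of]; exact hMdet)
  refine ⟨ProjGenLinGroup.mk (P * M⁻¹), ?_⟩
  rw [hrange, Subgroup.closure_le]
  have hmem : ∀ (s : SL2F) (g : Matrix.SpecialLinearGroup (Fin 2) K),
      M.1 * ((P⁻¹).1 * s.1 * P.1) = g.1.map K.subtype * M.1 →
      slToPG s ∈ subGroupK K (ProjGenLinGroup.mk (P * M⁻¹)) := by
    intro s g h
    refine ⟨ProjGenLinGroup.mk (SpecialLinearGroup.toGL g), ?_⟩
    rw [MonoidHom.comp_apply, ProjGenLinGroup.map_mk, MulEquiv.coe_toMonoidHom, MulAut.conj_apply, slToPG_apply,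
      ← map_inv, ← map_mul, ← map_mul]
    refine congrArg _ ?_
    have h' : M * (P⁻¹ * SpecialLinearGroup.toGL s * P) =
        GeneralLinearGroup.map K.subtype (SpecialLinearGroup.toGL g) * M := Units.ext h
    rw [eq_mul_inv_iff_mul_eq.2 h'.symm]
    group
  rintro z (rfl | rfl)
  · rw [← hSx]
    refine hmem S stdX ?_
    rw [mul_assoc (P⁻¹).1, hPX, ← mul_assoc (P⁻¹).1, Units.inv_mul, one_mul]
    ext i j
    fin_cases i <;> fin_cases j <;> simp [M, GeneralLinearGroup.mkOfDetNeZero, stdX, Matrix.mul_apply] <;> ring1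
  · rw [← hTy]
    refine hmem T (stdY hQ0) ?_
    rw [← hYd, hYeq]
    refine hM.trans ?_
    ext i j
    fin_cases i <;> fin_cases j <;> simp [M, GeneralLinearGroup.mkOfDetNeZero, stdY, Matrix.mul_apply]

theorem card_pgl_two_eq [Finite F] :
    Nat.card F * (Nat.card F ^ 2 - 1) = (Nat.card F + 1) * (Nat.card F * (Nat.card F - 1)) := by
  obtain ⟨j, hj⟩ : ∃ j, Nat.card F = j + 1 := ⟨Nat.card F - 1, by have := Nat.card_pos (α := F); omega⟩
  have : (j + 1) ^ 2 - 1 = (j + 1 + 1) * j := by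
    rw [Nat.sub_eq_iff_eq_add (Nat.one_le_pow _ _ (by omega))]; ring
  rw [hj, this, Nat.add_sub_cancel]; ring

theorem five_dvd_of_alt_five [Finite F] {X : Subgroup PG} (i : X ≃* alternatingGroup (Fin 5)) :
    5 ∣ Nat.card F * (Nat.card F ^ 2 - 1) := by
  have h := Subgroup.card_subgroup_dvd_card X
  rw [Nat.card_congr i.toEquiv, card_alt_five, card_pgl_two rfl, ← card_pgl_two_eq] at h
  exact dvd_trans (by norm_num) h

theorem exists_alt_four_of_alt_five {G : Type*} [Group G] {X : Subgroup G} (i : X ≃* alternatingGroup (Fin 5)) :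
    ∃ Y : Subgroup G, Y ≤ X ∧ Nonempty (Y ≃* alternatingGroup (Fin 4)) := by
  let f : Equiv.Perm (Fin 4) →* Equiv.Perm (Fin 5) :=
    Equiv.Perm.extendDomainHom (finSuccAboveEquiv (4 : Fin 5))
  have hf : ∀ g : alternatingGroup (Fin 4), f g ∈ alternatingGroup (Fin 5) := fun g => by
    rw [Equiv.Perm.mem_alternatingGroup]
    exact (Equiv.Perm.sign_extendDomain _ _).trans (Equiv.Perm.mem_alternatingGroup.1 g.2)
  let φ : alternatingGroup (Fin 4) →* G :=
    X.subtype.comp (i.symm.toMonoidHom.comp ((f.comp (alternatingGroup (Fin 4)).subtype).codRestrict _ hf))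
  have hφ : Function.Injective φ := by
    refine X.subtype_injective.comp (i.symm.injective.comp fun a b h => Subtype.ext ?_)
    exact Equiv.Perm.extendDomainHom_injective _ (congrArg Subtype.val h :)
  exact ⟨φ.range, by rintro _ ⟨g, rfl⟩; exact (i.symm _).2, ⟨(MonoidHom.ofInjective hφ).symm⟩⟩

/-- No `A₄` in `PSL₂(2ⁿ)` for odd `n`. -/
theorem no_alt_four [Finite F] [CharP F 2] {n : ℕ} (hn : Odd n) (hq : Nat.card F = 2 ^ n) {X : Subgroup PG}
    (i : X ≃* alternatingGroup (Fin 4)) : False := by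
  haveI := Fact.mk Nat.prime_two
  haveI := charP_ext2 (F := F) (p := 2)
  have he : Even (Nat.card F) := by rw [hq]; exact (Nat.even_pow.2 ⟨even_two, hn.pos.ne'⟩)
  by_cases h1 : Nat.card F = 2
  · have h := Subgroup.card_subgroup_dvd_card X
    rw [Nat.card_congr i.toEquiv, card_alt_four, card_pgl_two h1] at h
    norm_num at h
  have hPE : P1Like 2 PG (Projectivization (Ext2 F 2) (Fin 2 → Ext2 F 2)) := p1Like_ext
  set φ : alternatingGroup (Fin 4) →* PG := X.subtype.comp i.symm.toMonoidHom with hφd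
  have hφ : Function.Injective φ := X.subtype_injective.comp i.symm.injective
  obtain ⟨a, b, t, ha, hb, ht, haa, hbb, hab, hta⟩ : ∃ a b t : alternatingGroup (Fin 4), a ≠ 1 ∧ b ≠ 1 ∧ t ≠ 1 ∧
      a * a = 1 ∧ b * b = 1 ∧ b * a = a * b ∧ t ^ 3 = 1 ∧ t * a * t⁻¹ = b := by
    refine ⟨⟨Equiv.swap 0 1 * Equiv.swap 2 3, Equiv.Perm.mem_alternatingGroup.2 (by decide)⟩,
      ⟨Equiv.swap 0 2 * Equiv.swap 1 3, Equiv.Perm.mem_alternatingGroup.2 (by decide)⟩,
      ⟨Equiv.swap 1 3 * Equiv.swap 1 2, Equiv.Perm.mem_alternatingGroup.2 (by decide)⟩, ?_⟩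
    decide
  obtain ⟨ht3, htab⟩ := hta
  have ha1 : φ a ≠ 1 := fun e => ha (hφ (e.trans (map_one φ).symm))
  have hb1 : φ b ≠ 1 := fun e => hb (hφ (e.trans (map_one φ).symm))
  have hap : φ a ^ 2 = 1 := by rw [pow_two, ← map_mul, haa, map_one]
  have hbp : φ b ^ 2 = 1 := by rw [pow_two, ← map_mul, hbb, map_one]
  obtain ⟨x, hx⟩ := exists_rational_fix 2 hap
  set c := embP 2 x
  have hac : φ a • c = c := by rw [← embP_smul, hx]
  have hbc : φ b • c = c := smul_eq_of_commute hPE ha1 hap hac (by rw [← map_mul, ← map_mul, hab])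
  have htc : φ t • c = c := by
    refine hPE.unique_fix hb1 hbp ?_ hbc
    rw [← htab, map_mul, map_mul, map_inv, mul_smul, mul_smul, inv_smul_smul, hac]
  have htx : φ t • x = x := embP_injective 2 (by rw [embP_smul]; exact htc)
  have hto : orderOf (φ t) = 3 := by
    rw [orderOf_injective φ hφ]
    exact orderOf_eq_prime ht3 ht
  have hq3 : 3 < Nat.card F := by
    rw [hq] at h1 ⊢
    obtain ⟨j, rfl⟩ := hn
    have : j ≠ 0 := fun e => h1 (by rw [e]; norm_num)
    calc 3 < 2 ^ 3 := by norm_num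
      _ ≤ _ := Nat.pow_le_pow_right two_pos (by omega)
  obtain ⟨-, hc⟩ := stab_ne_psl x hq3
  have hd := (MulAction.stabilizer PG x ⊓ pslRange F).orderOf_dvd_natCard
    (x := φ t) ⟨htx, by rw [pslRange_eq_top_of_even he]; trivial⟩
  rw [gcd_two_card_sub_one_of_even he, one_mul] at hc
  rw [hto, hc, hq] at hd
  have h2 : 2 ^ n % 3 = 2 := by
    obtain ⟨j, rfl⟩ := hn
    rw [pow_succ, pow_mul, Nat.mul_mod, Nat.pow_mod]
    norm_num
  rcases (Nat.prime_three.dvd_mul).1 hd with h | h <;> omega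

end CfsgLib.PSL2
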