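import Cfsg.Agent.Lib.PSL2.DicksonPSL
import Cfsg.Agent.Lib.PSL2.Tori
import Cfsg.Agent.Lib.PSL2.Icosa
import Cfsg.Agent.Lib.PSL2.DicksonNine
import Cfsg.Agent.Lib.Recog.AltSpectrum

/-!
Dickson's generation theorem for `SL₂`.
-/

set_option autoImplicit false
set_option linter.unusedSectionVars false

namespace CfsgLib.PSL2.Gen

open Matrix

variable {F : Type*} [Field F] [Fintype F] {p : ℕ} [Fact p.Prime] [CharP F p]

local notation "SL2" => Matrix.SpecialLinearGroup (Fin 2) F
local notation "M2" => Matrix (Fin 2) (Fin 2) F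

theorem psl_mk_eq_one_iff {s : SL2} :
    QuotientGroup.mk' (Subgroup.center SL2) s = 1 ↔ s.1 = 1 ∨ s.1 = -1 := by
  rw [← slToPG_eq_one_iff, slToPG, MonoidHom.comp_apply,
    map_eq_one_iff _ ProjectiveSpecialLinearGroup.toPGL_injective]

theorem trace_smul_one (c : F) : (c • (1 : M2)).trace = 2 * c := by
  rw [Matrix.trace_smul, Matrix.trace_one, Fintype.card_fin, smul_eq_mul]
  push_cast
  ring

theorem sl_mul_self (s : SL2) : s.1 * s.1 = s.1.trace • s.1 - (1 : M2) := by
  rw [mul_self_eq, s.2, one_smul]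

theorem trace_inv (s : SL2) : (s⁻¹ : SL2).1.trace = s.1.trace := by
  rw [Matrix.SpecialLinearGroup.coe_inv, Matrix.adjugate_fin_two, Matrix.trace_fin_two,
    Matrix.trace_fin_two]
  simp [add_comm]

theorem add_adjugate (A : M2) : A + A.adjugate = A.trace • (1 : M2) := by
  rw [Matrix.adjugate_fin_two, Matrix.trace_fin_two]
  ext i j
  fin_cases i <;> fin_cases j <;> simp [add_comm]

/-- In characteristic `p` the trace commutes with `p`-power maps. -/
theorem trace_pow_char_pow (s : M2) (m : ℕ) : (s ^ p ^ m).trace = s.trace ^ p ^ m := by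
  haveI : CharP M2 p := inferInstance
  have hc : Commute s s.adjugate := by
    rw [Commute, SemiconjBy, Matrix.mul_adjugate, Matrix.adjugate_mul]
  have h1 := add_pow_char_pow_of_commute p m hc
  rw [← Matrix.adjugate_pow, add_adjugate, add_adjugate, smul_pow, one_pow] at h1
  have h2 := congrFun (congrFun h1 0) 0
  simpa using h2.symm

theorem trace_of_pow_char_pow {s : SL2} {m : ℕ} (h : (s ^ p ^ m).1 = 1 ∨ (s ^ p ^ m).1 = -1) :
    s.1.trace = 2 ∨ s.1.trace = -2 := by
  rw [Matrix.SpecialLinearGroup.coe_pow] at h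
  have hfix : ∀ c : F, c = 2 ∨ c = -2 → c ^ p ^ m = c := by
    intro c hc
    have h2 : ((2 : F)) ^ p ^ m = 2 := by
      rw [show (2 : F) = 1 + 1 by norm_num, add_pow_char_pow, one_pow]
    rcases hc with rfl | rfl
    · exact h2
    · rw [show (-2 : F) = 0 - 2 by ring, sub_pow_char_pow, h2, zero_pow]
      exact pow_ne_zero _ (Fact.out : p.Prime).ne_zero
  have key : ∀ c : F, c = 2 ∨ c = -2 → s.1.trace ^ p ^ m = c → s.1.trace = c := by
    intro c hc he
    rw [← hfix c hc] at he
    exact iterateFrobenius_inj F p m he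
  rcases h with h | h
  · left
    refine key 2 (Or.inl rfl) ?_
    rw [← trace_pow_char_pow, h, Matrix.trace_one, Fintype.card_fin]
    norm_num
  · right
    refine key (-2) (Or.inr rfl) ?_
    rw [← trace_pow_char_pow, h, Matrix.trace_neg, Matrix.trace_one, Fintype.card_fin]
    norm_num

theorem fix_of_two {r : ℕ} {m : ℕ} (hr : r = p ^ m) {s : SL2}
    (h : (s ^ p).1 = 1 ∨ (s ^ p).1 = -1 ∨ (s ^ (r + 1)).1 = 1 ∨ (s ^ (r + 1)).1 = -1 ∨
      (s ^ (r - 1)).1 = 1 ∨ (s ^ (r - 1)).1 = -1) :
    s.1.trace ^ r = s.1.trace ∨ s.1.trace ^ r = -s.1.trace := by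
  subst hr
  have htr : (s ^ p ^ m).1.trace = s.1.trace ^ p ^ m := by
    rw [Matrix.SpecialLinearGroup.coe_pow, trace_pow_char_pow]
  rcases h with h | h | h | h | h | h
  · left
    rcases trace_of_pow_char_pow (m := 1) (by rw [pow_one]; exact Or.inl h) with e | e <;> rw [e]
    · rw [show (2 : F) = 1 + 1 by norm_num, add_pow_char_pow, one_pow]
    · rw [show (-2 : F) = 0 - (1 + 1) by norm_num, sub_pow_char_pow, add_pow_char_pow, one_pow, zero_pow]
      exact pow_ne_zero _ (Fact.out : p.Prime).ne_zero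
  · left
    rcases trace_of_pow_char_pow (m := 1) (by rw [pow_one]; exact Or.inr h) with e | e <;> rw [e]
    · rw [show (2 : F) = 1 + 1 by norm_num, add_pow_char_pow, one_pow]
    · rw [show (-2 : F) = 0 - (1 + 1) by norm_num, sub_pow_char_pow, add_pow_char_pow, one_pow, zero_pow]
      exact pow_ne_zero _ (Fact.out : p.Prime).ne_zero
  · left
    have e : s ^ p ^ m = s⁻¹ := eq_inv_of_mul_eq_one_left (by rw [← pow_succ]; exact Subtype.ext h)
    rw [← htr, e, trace_inv]
  · right
    have e : s ^ p ^ m = -s⁻¹ := by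
      have h' : s ^ (p ^ m + 1) = -1 := Subtype.ext (by rw [h]; simp)
      rw [pow_succ] at h'
      rw [eq_mul_inv_of_mul_eq h', neg_one_mul]
    rw [← htr, e, Matrix.SpecialLinearGroup.coe_neg, Matrix.trace_neg, trace_inv]
  · left
    have e : s ^ p ^ m = s := by
      have h' : s ^ (p ^ m - 1) = 1 := Subtype.ext h
      rw [← Nat.sub_add_cancel (Nat.one_le_pow m p (Fact.out : p.Prime).pos), pow_succ, h', one_mul]
    rw [← htr, e]
  · right
    have e : s ^ p ^ m = -s := by
      have h' : s ^ (p ^ m - 1) = -1 := Subtype.ext (by rw [h]; simp)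
      rw [← Nat.sub_add_cancel (Nat.one_le_pow m p (Fact.out : p.Prime).pos), pow_succ, h', neg_one_mul]
    rw [← htr, e, Matrix.SpecialLinearGroup.coe_neg, Matrix.trace_neg]

/-- The orders in `PGL₂` of a field with `r` elements. -/
theorem pow_eq_one_of_pgl {K : Type*} [Field K] [Finite K] [CharP K p]
    (x : Matrix.ProjGenLinGroup (Fin 2) K) :
    x ^ p = 1 ∨ x ^ (Nat.card K + 1) = 1 ∨ x ^ (Nat.card K - 1) = 1 := by
  haveI := Fintype.ofFinite K
  obtain ⟨g, rfl⟩ := ProjGenLinGroup.mk_surjective x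
  rw [Nat.card_eq_fintype_card]
  rcases CfsgLib.Recog.orderOf_PGL_two_dvd p g with h | h | h
  · exact Or.inl (orderOf_dvd_iff_pow_eq_one.1 h)
  · exact Or.inr (Or.inr (orderOf_dvd_iff_pow_eq_one.1 h))
  · exact Or.inr (Or.inl (orderOf_dvd_iff_pow_eq_one.1 h))

theorem trace_cases {s : SL2} {n : ℕ} (h3 : (3 : F) = 0) (hn : n = 1 ∨ n = 2 ∨ n = 3 ∨ n = 5)
    (h : (s ^ n).1 = 1 ∨ (s ^ n).1 = -1) :
    s.1.trace = 0 ∨ s.1.trace = 1 ∨ s.1.trace = -1 ∨ s.1.trace ^ 4 = -1 := by
  set t := s.1.trace with ht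
  by_cases hs : ∃ c : F, s.1 = c • (1 : M2)
  · obtain ⟨c, hc⟩ := hs
    rcases scalar_cases hc with e | e
    · right; right; left
      rw [ht, e, Matrix.trace_one, Fintype.card_fin]
      push_cast
      linear_combination h3
    · right; left
      rw [ht, e, Matrix.trace_neg, Matrix.trace_one, Fintype.card_fin]
      push_cast
      linear_combination -h3
  push Not at hs
  have hq := sl_mul_self s
  rw [← ht] at hq
  have hindep : ∀ a b : F, a • s.1 = b • (1 : M2) → a = 0 := by
    intro a b hab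
    by_contra ha
    exact hs (a⁻¹ * b) (by rw [mul_smul, ← hab, smul_smul, inv_mul_cancel₀ ha, one_smul])
  obtain ⟨ε, hε⟩ : ∃ ε : F, (s ^ n).1 = ε • (1 : M2) := by
    rcases h with h | h
    · exact ⟨1, by rw [h, one_smul]⟩
    · exact ⟨-1, by rw [h, neg_one_smul]⟩
  rw [Matrix.SpecialLinearGroup.coe_pow] at hε
  have p2 : s.1 ^ 2 = t • s.1 - (1 : M2) := by rw [pow_two, hq]
  have p3 : s.1 ^ 3 = (t ^ 2 - 1) • s.1 - t • (1 : M2) := by
    rw [pow_succ, p2, sub_mul, smul_mul_assoc, hq, one_mul]
    module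
  have p4 : s.1 ^ 4 = (t ^ 3 - 2 * t) • s.1 - (t ^ 2 - 1) • (1 : M2) := by
    rw [pow_succ, p3, sub_mul, smul_mul_assoc, smul_mul_assoc, hq, one_mul]
    module
  have p5 : s.1 ^ 5 = (t ^ 4 - 3 * t ^ 2 + 1) • s.1 - (t ^ 3 - 2 * t) • (1 : M2) := by
    rw [pow_succ, p4, sub_mul, smul_mul_assoc, smul_mul_assoc, hq, one_mul]
    module
  rcases hn with rfl | rfl | rfl | rfl
  · exact absurd hε (by rw [pow_one]; exact hs ε)
  · left
    rw [p2] at hε
    exact hindep t (ε + 1) (by linear_combination (norm := module) hε)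
  · rw [p3] at hε
    have := hindep (t ^ 2 - 1) (ε + t) (by linear_combination (norm := module) hε)
    rcases sq_eq_one_iff.1 (sub_eq_zero.1 this) with e | e
    · exact Or.inr (Or.inl e)
    · exact Or.inr (Or.inr (Or.inl e))
  · rw [p5] at hε
    have := hindep (t ^ 4 - 3 * t ^ 2 + 1) (ε + (t ^ 3 - 2 * t)) (by linear_combination (norm := module) hε)
    right; right; right
    linear_combination this + t ^ 2 * h3

theorem not_pgroup_trace (h2 : (2 : F) ≠ 0) {lam : F} (hlam : lam ≠ 0) :
    ¬ ((2 + lam = 2 ∨ 2 + lam = -2) ∧ (2 + 2 * lam = 2 ∨ 2 + 2 * lam = -2)) := by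
  rintro ⟨ha, hb⟩
  rcases ha with ha | ha
  · exact hlam (by linear_combination ha)
  · rcases hb with hb | hb
    · exact mul_ne_zero h2 hlam (by linear_combination hb)
    · exact mul_ne_zero h2 h2 (by linear_combination 2 * ha - hb)

/-- The set of the two generators. -/
def gens (lam : F) : Set SL2 :=
  {g : SL2 | (g : M2) = !![1, 0; 1, 1] ∨ (g : M2) = !![1, lam; 0, 1]}

theorem main (p : ℕ) [Fact p.Prime] [CharP F p] (h2 : (2 : F) ≠ 0) (lam : F) (hlam : lam ≠ 0)
    (hgen : Subfield.closure ({lam} : Set F) = ⊤) :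
    Subgroup.closure (gens lam) = ⊤ ∨ (Fintype.card F = 9 ∧ lam ^ 2 = -1) := by
  classical
  set G := Subgroup.closure (gens lam) with hG
  set π : SL2 →* Matrix.ProjectiveSpecialLinearGroup (Fin 2) F :=
    QuotientGroup.mk' (Subgroup.center SL2) with hπ
  set H := G.map π with hH
  have hp2 : p ≠ 2 := by
    rintro rfl
    exact h2 (CharP.cast_eq_zero F 2)
  let gU : SL2 := ⟨!![1, 0; 1, 1], by simp [Matrix.det_fin_two]⟩
  let gV : SL2 := ⟨!![1, lam; 0, 1], by simp [Matrix.det_fin_two]⟩
  have hU : gU ∈ G := Subgroup.subset_closure (Or.inl rfl)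
  have hV : gV ∈ G := Subgroup.subset_closure (Or.inr rfl)
  have hUp : ∀ n : ℕ, (gU ^ n).1 = !![1, 0; (n : F), 1] := by
    intro n
    induction n with
    | zero => simp [Matrix.one_fin_two]
    | succ n ih =>
      rw [pow_succ, Matrix.SpecialLinearGroup.coe_mul, ih]
      simp [gU, Matrix.mul_fin_two]
  have hU1 : π gU ≠ 1 := by
    rw [hπ, Ne, psl_mk_eq_one_iff]
    rintro (h | h) <;> · have := congrFun (congrFun h 1) 0; simp [gU] at this
  have hUo : orderOf (π gU) = p := by
    refine orderOf_eq_prime ?_ hU1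
    rw [← map_pow, hπ, psl_mk_eq_one_iff]
    exact Or.inl (by rw [hUp, CharP.cast_eq_zero, Matrix.one_fin_two])
  have hdvd : p ∣ Nat.card H := by
    have h := orderOf_dvd_natCard (⟨π gU, Subgroup.mem_map_of_mem π hU⟩ : H)
    rwa [Subgroup.orderOf_mk, hUo] at h
  have htr : ∀ k : F, k = 1 ∨ k = 2 → ∃ s ∈ G, s.1.trace = 2 + k * lam := by
    rintro k (rfl | rfl)
    · refine ⟨gU * gV, mul_mem hU hV, ?_⟩
      rw [Matrix.SpecialLinearGroup.coe_mul]
      simp [gU, gV, Matrix.trace_fin_two, Matrix.mul_fin_two]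
      ring
    · refine ⟨gU * (gV * gV), mul_mem hU (mul_mem hV hV), ?_⟩
      rw [Matrix.SpecialLinearGroup.coe_mul, Matrix.SpecialLinearGroup.coe_mul]
      simp [gU, gV, Matrix.trace_fin_two, Matrix.mul_fin_two]
      ring
  have hfinish : H = ⊤ → G = ⊤ := by
    intro hHtop
    have hpm : ∀ s : SL2, s ∈ G ∨ -s ∈ G := by
      intro s
      have hs : π s ∈ H := hHtop ▸ Subgroup.mem_top _
      obtain ⟨x, hxG, hx⟩ := hs
      have h1 : π (x⁻¹ * s) = 1 := by rw [map_mul, map_inv, hx, inv_mul_cancel]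
      rw [hπ, psl_mk_eq_one_iff] at h1
      rcases h1 with h1 | h1
      · left
        have : x⁻¹ * s = 1 := Subtype.ext h1
        rwa [← inv_mul_eq_one.1 this]
      · right
        have : x⁻¹ * s = -1 := Subtype.ext (by rw [h1]; simp)
        rw [inv_mul_eq_iff_eq_mul, mul_neg_one] at this
        rwa [this, neg_neg]
    let w : SL2 := ⟨!![0, 1; -1, 0], by simp [Matrix.det_fin_two]⟩
    have hw : w * w = -1 := by
      refine Subtype.ext ?_
      rw [Matrix.SpecialLinearGroup.coe_mul, Matrix.SpecialLinearGroup.coe_neg]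
      simp [w, Matrix.mul_fin_two, Matrix.one_fin_two]
    have hneg : (-1 : SL2) ∈ G := by
      rcases hpm w with h | h
      · exact hw ▸ mul_mem h h
      · have := mul_mem h h
        rwa [neg_mul_neg, hw] at this
    refine eq_top_iff.2 fun s _ => ?_
    rcases hpm s with h | h
    · exact h
    · have := mul_mem hneg h
      rwa [neg_one_mul, neg_neg] at this
  haveI : Finite (Matrix.ProjectiveSpecialLinearGroup (Fin 2) F) := Quotient.finite _
  cases dickson_psl (p := p) H with
  | cyclic _ hp => exact absurd hdvd hp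
  | dihedral r _ k _ _ hp hcard _ =>
    rw [hcard] at hdvd
    rcases (Fact.out : p.Prime).dvd_mul.1 hdvd with h | h
    · exact absurd ((Nat.prime_dvd_prime_iff_eq Fact.out Nat.prime_two).1 h) hp2
    · exact absurd h hp
  | tetra hp _ => exact absurd hdvd hp
  | octa hp _ => exact absurd hdvd hp
  | borel P _ hle =>
    exfalso
    set N := Subgroup.normalizer ((P : Subgroup (Matrix.ProjectiveSpecialLinearGroup (Fin 2) F)) :
      Set (Matrix.ProjectiveSpecialLinearGroup (Fin 2) F)) with hN
    have hPmem : ∀ x ∈ N, x ^ p = 1 → x ∈ (P : Subgroup (Matrix.ProjectiveSpecialLinearGroup (Fin 2) F)) := by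
      intro x hxN hxp
      have hz : IsPGroup p (Subgroup.zpowers x) := by
        rintro ⟨y, n, rfl⟩
        refine ⟨1, Subtype.ext ?_⟩
        simp only [pow_one, SubmonoidClass.coe_pow, OneMemClass.coe_one]
        rw [← zpow_natCast, zpow_comm, zpow_natCast, hxp, _root_.one_zpow]
      have hsup := hz.to_sup_of_normal_right' P.2 (Subgroup.zpowers_le.2 hxN)
      have heq := P.3 hsup le_sup_right
      exact (le_sup_left.trans_eq heq) (Subgroup.mem_zpowers x)
    have hHP : H ≤ (P : Subgroup (Matrix.ProjectiveSpecialLinearGroup (Fin 2) F)) := by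
      rw [hH, Subgroup.map_le_iff_le_comap, hG, Subgroup.closure_le]
      intro s hs
      have hsG : s ∈ G := Subgroup.subset_closure hs
      refine hPmem _ (hle (Subgroup.mem_map_of_mem π hsG)) ?_
      rw [← map_pow, hπ, psl_mk_eq_one_iff]
      left
      rcases hs with hs | hs
      · rw [show s = gU from Subtype.ext hs, hUp, CharP.cast_eq_zero, Matrix.one_fin_two]
      · have : ∀ n : ℕ, (s ^ n).1 = !![1, (n : F) * lam; 0, 1] := by
          intro n
          induction n with
          | zero => simp [Matrix.one_fin_two]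
          | succ n ih =>
            rw [pow_succ, Matrix.SpecialLinearGroup.coe_mul, ih, hs]
            simp [Matrix.mul_fin_two, add_mul, add_comm]
        rw [this, CharP.cast_eq_zero, zero_mul, Matrix.one_fin_two]
    have hall : ∀ s ∈ G, s.1.trace = 2 ∨ s.1.trace = -2 := by
      intro s hs
      obtain ⟨m, hm⟩ := P.2 ⟨π s, hHP (Subgroup.mem_map_of_mem π hs)⟩
      have hm' : π s ^ p ^ m = 1 := congrArg Subtype.val hm
      rw [← map_pow, hπ, psl_mk_eq_one_iff] at hm'
      exact trace_of_pow_char_pow hm'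
    obtain ⟨s1, hs1, hs1'⟩ := htr 1 (Or.inl rfl)
    obtain ⟨s2, hs2, hs2'⟩ := htr 2 (Or.inr rfl)
    rw [one_mul] at hs1'
    exact not_pgroup_trace h2 hlam ⟨hs1' ▸ hall s1 hs1, hs2' ▸ hall s2 hs2⟩
  | icosa hp iso =>
    rcases hp with hp | rfl
    · exact absurd hdvd hp
    obtain ⟨e⟩ := iso
    have h3 : (3 : F) = 0 := CharP.cast_eq_zero F 3
    have hall : ∀ s ∈ G, s.1.trace = 0 ∨ s.1.trace = 1 ∨ s.1.trace = -1 ∨ s.1.trace ^ 4 = -1 := by
      intro s hs
      let x : H := ⟨π s, Subgroup.mem_map_of_mem π hs⟩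
      have h1 : orderOf (e x) ∈ Set.range (orderOf : alternatingGroup (Fin 5) → ℕ) := ⟨_, rfl⟩
      rw [CfsgLib.Recog.range_orderOf_alternating_five, MulEquiv.orderOf_eq] at h1
      simp only [Set.mem_insert_iff, Set.mem_singleton_iff] at h1
      refine trace_cases h3 h1 ?_
      have h2 : π s ^ orderOf x = 1 := congrArg Subtype.val (pow_orderOf_eq_one x)
      rwa [← map_pow, hπ, psl_mk_eq_one_iff] at h2
    have hcard : 60 ≤ Nat.card (Matrix.ProjectiveSpecialLinearGroup (Fin 2) F) := by
      refine le_trans (le_of_eq ?_) H.card_le_card_group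
      rw [Nat.card_congr e.toEquiv, Nat.card_eq_fintype_card]
      rfl
    have hsmall : ∀ k : ℕ, k ≠ 0 → (∀ x : F, x ^ 3 ^ k = x) → Fintype.card F ≤ 3 ^ k := by
      intro k hk0 hk
      by_contra hlt
      push Not at hlt
      have h1k : 1 < 3 ^ k := Nat.one_lt_pow hk0 (by norm_num)
      · have hne : (Polynomial.X ^ 3 ^ k - Polynomial.X : Polynomial F) ≠ 0 :=
          FiniteField.X_pow_card_sub_X_ne_zero F h1k
        refine hne (Polynomial.eq_zero_of_natDegree_lt_card_of_eval_eq_zero _ Function.injective_id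
          (fun x => by simp [hk x]) ?_)
        rw [FiniteField.X_pow_card_sub_X_natDegree_eq F h1k]
        exact hlt
    have hfixfield : ∀ k : ℕ, lam ^ 3 ^ k = lam → ∀ x : F, x ^ 3 ^ k = x := by
      intro k hk x
      have hle : Subfield.closure ({lam} : Set F) ≤
          RingHom.eqLocusField (iterateFrobenius F 3 k) (RingHom.id F) := by
        rw [Subfield.closure_le, Set.singleton_subset_iff]
        exact hk
      have hx : x ∈ Subfield.closure ({lam} : Set F) := hgen ▸ Subfield.mem_top x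
      exact hle hx
    obtain ⟨s1, hs1, hs1'⟩ := htr 1 (Or.inl rfl)
    obtain ⟨s2, hs2, hs2'⟩ := htr 2 (Or.inr rfl)
    have t1 : s1.1.trace = lam - 1 := by rw [hs1']; linear_combination h3
    have t2 : s2.1.trace = -(lam + 1) := by rw [hs2']; linear_combination (1 + lam) * h3
    have hprime : lam ^ 3 = lam → False := by
      intro hl
      have hq : Fintype.card F ≤ 3 ^ 1 := hsmall 1 one_ne_zero (hfixfield 1 (by rw [pow_one]; exact hl))
      have hc : Fintype.card F = 3 := by
        obtain ⟨n, hn, hcn⟩ := FiniteField.card F 3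
        rw [hcn] at hq ⊢
        have : (n : ℕ) ≤ 1 := (Nat.pow_le_pow_iff_right (by norm_num)).1 hq
        rw [show (n : ℕ) = 1 by have := n.pos; omega, pow_one]
      rw [← Nat.card_eq_fintype_card] at hc
      have h := CfsgLib.Classical.card_PSL_two_mul (F := F)
      rw [hc, show Nat.gcd 2 (3 - 1) = 2 from rfl] at h
      omega
    rcases hall s1 hs1 with h | h | h | h
    · exact (hprime (by rw [t1] at h; linear_combination (lam ^ 2 + lam) * h)).elim
    · exact (hprime (by rw [t1] at h; linear_combination (lam ^ 2 + 2 * lam + 3) * h + 2 * h3)).elim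
    · exact (hprime (by rw [t1] at h; linear_combination (lam ^ 2 - 1) * h)).elim
    rw [t1] at h
    rcases hall s2 hs2 with h' | h' | h' | h'
    · exact (hprime (by rw [t2] at h'; linear_combination -(lam ^ 2 - lam) * h')).elim
    · exact (hprime (by rw [t2] at h'; linear_combination -(lam ^ 2 - 2 * lam + 3) * h' - 2 * h3)).elim
    · exact (hprime (by rw [t2] at h'; linear_combination -(lam ^ 2 - 1) * h')).elim
    rw [t2] at h'
    have hsq : lam ^ 2 = -1 := by
      have h8 : lam * (lam ^ 2 + 1) = 0 := by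
        linear_combination (1 : F) * h - 1 * h' + (3 * lam ^ 3 + 3 * lam) * h3
      linear_combination (mul_eq_zero.1 h8).resolve_left hlam
    refine Or.inr ⟨?_, hsq⟩
    have hq : Fintype.card F ≤ 3 ^ 2 := hsmall 2 two_ne_zero (hfixfield 2 (by
      show lam ^ 9 = lam
      linear_combination (lam ^ 7 - lam ^ 5 + lam ^ 3 - lam) * hsq))
    obtain ⟨n, hn, hcn⟩ := FiniteField.card F 3
    rw [hcn] at hq ⊢
    have hn2 : (n : ℕ) ≤ 2 := (Nat.pow_le_pow_iff_right (by norm_num)).1 hq
    have hn1 : (n : ℕ) ≠ 1 := by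
      intro e1
      refine hprime ?_
      rw [e1, pow_one] at hcn
      rw [← hcn]
      exact FiniteField.pow_card lam
    rw [show (n : ℕ) = 2 by have := n.pos; omega]
    norm_num
  | subfield K iso =>
    left
    refine hfinish ?_
    set r := Nat.card K with hr
    haveI : CharP K p := (RingHom.charP_iff_charP K.subtype p).2 inferInstance
    haveI : Fintype K := Fintype.ofFinite K
    obtain ⟨m, hm1, hm⟩ := FiniteField.card K p
    rw [← Nat.card_eq_fintype_card, ← hr] at hm
    obtain ⟨f, hf⟩ : ∃ f : H →* Matrix.ProjGenLinGroup (Fin 2) K, Function.Injective f := by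
      rcases iso with ⟨⟨e⟩⟩ | ⟨_, ⟨e⟩⟩
      · exact ⟨e.toMonoidHom, e.injective⟩
      · exact ⟨ProjectiveSpecialLinearGroup.toPGL.comp e.toMonoidHom,
          ProjectiveSpecialLinearGroup.toPGL_injective.comp e.injective⟩
    have hall : ∀ s ∈ G, s.1.trace ^ r = s.1.trace ∨ s.1.trace ^ r = -s.1.trace := by
      intro s hs
      let x : H := ⟨π s, Subgroup.mem_map_of_mem π hs⟩
      refine fix_of_two hm ?_
      have back : ∀ n : ℕ, f x ^ n = 1 → (s ^ n).1 = 1 ∨ (s ^ n).1 = -1 := by
        intro n hn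
        rw [← map_pow, map_eq_one_iff _ hf] at hn
        have h2 : π s ^ n = 1 := congrArg Subtype.val hn
        rwa [← map_pow, hπ, psl_mk_eq_one_iff] at h2
      rw [hr]
      rcases pow_eq_one_of_pgl (p := p) (f x) with h | h | h <;> rcases back _ h with h | h <;> tauto
    have hadd : ∀ k : F, k ^ r = k → (2 + k * lam) ^ r = 2 + k * lam ^ r := by
      intro k hk
      rw [hm, add_pow_char_pow, mul_pow, ← hm, hk, hm,
        show (2 : F) = 1 + 1 by norm_num, add_pow_char_pow, one_pow]
    have hfix2 : (2 : F) ^ r = 2 := by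
      rw [hm, show (2 : F) = 1 + 1 by norm_num, add_pow_char_pow, one_pow]
    obtain ⟨s1, hs1, hs1'⟩ := htr 1 (Or.inl rfl)
    obtain ⟨s2, hs2, hs2'⟩ := htr 2 (Or.inr rfl)
    have hl : lam ^ r = lam := by
      rcases hall s1 hs1 with h | h <;> rw [hs1', hadd 1 (one_pow r)] at h
      · linear_combination h
      rcases hall s2 hs2 with h' | h' <;> rw [hs2', hadd 2 hfix2] at h'
      · exact mul_left_cancel₀ h2 (by linear_combination h')
      · exact absurd (show (2 : F) * 2 = 0 by linear_combination 2 * h - h') (mul_ne_zero h2 h2)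
    have hallx : ∀ x : F, x ^ r = x := by
      intro x
      have hle : Subfield.closure ({lam} : Set F) ≤
          RingHom.eqLocusField (iterateFrobenius F p m) (RingHom.id F) := by
        rw [Subfield.closure_le, Set.singleton_subset_iff]
        show lam ^ p ^ (m : ℕ) = lam
        rw [← hm, hl]
      have hx := hle (hgen ▸ Subfield.mem_top x : x ∈ Subfield.closure ({lam} : Set F))
      rw [hm]
      exact hx
    have hKtop : K = ⊤ := by
      have hr1 : 1 < r := hr ▸ Finite.one_lt_card
      have hqr : Fintype.card F ≤ r := by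
        by_contra hlt
        push Not at hlt
        refine FiniteField.X_pow_card_sub_X_ne_zero F hr1
          (Polynomial.eq_zero_of_natDegree_lt_card_of_eval_eq_zero _ Function.injective_id
            (fun x => by simp [hallx x]) ?_)
        rw [FiniteField.X_pow_card_sub_X_natDegree_eq F hr1]
        exact hlt
      refine eq_top_iff.2 fun x _ => ?_
      have hset : (K : Set F) = Set.univ := by
        refine Set.eq_of_subset_of_ncard_le (Set.subset_univ _) ?_ Set.finite_univ
        rw [Set.ncard_univ, Nat.card_eq_fintype_card, ← Nat.card_coe_set_eq]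
        exact hqr
      show x ∈ (K : Set F)
      rw [hset]
      trivial
    subst hKtop
    have hcardK : Nat.card (Matrix.ProjGenLinGroup (Fin 2) (⊤ : Subfield F)) =
        Nat.card (Matrix.ProjGenLinGroup (Fin 2) F) := by
      obtain ⟨i⟩ := CfsgLib.PSL2.nonempty_pgl_congr (n := Fin 2) (Subfield.topEquiv (K := F))
      exact Nat.card_congr i.toEquiv
    have hodd : Odd (Nat.card F) := by
      obtain ⟨n, hn, hcn⟩ := FiniteField.card F p
      rw [Nat.card_eq_fintype_card, hcn]
      exact ((Fact.out : p.Prime).odd_of_ne_two hp2).pow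
    rcases iso with ⟨⟨e⟩⟩ | ⟨_, ⟨e⟩⟩
    · exfalso
      have h1 := H.card_le_card_group
      rw [Nat.card_congr e.toEquiv, hcardK, ← two_mul_card_pslRange_of_odd hodd,
        pslRange, ← Nat.card_congr (MonoidHom.ofInjective ProjectiveSpecialLinearGroup.toPGL_injective).toEquiv] at h1
      have := Nat.card_pos (α := Matrix.ProjectiveSpecialLinearGroup (Fin 2) F)
      omega
    · refine Subgroup.eq_top_of_card_eq _ ?_
      rw [Nat.card_congr e.toEquiv]
      obtain ⟨i⟩ := CfsgLib.PSL2.nonempty_psl_congr (n := Fin 2) (Subfield.topEquiv (K := F))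
      exact Nat.card_congr i.toEquiv

end CfsgLib.PSL2.Gen
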