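import Mathlib

/-!
The orbit equation for finite groups acting on a projective line.
-/

set_option autoImplicit false
set_option linter.style.haveILetI false
set_option linter.unusedSectionVars false

namespace CfsgLib.PSL2

open MulAction

/-- The properties of a group of Möbius transformations of a projective line in characteristic `p`
that the subgroup classification uses. -/
structure P1Like (p : ℕ) (G : Type*) (X : Type*) [Group G] [MulAction G X] : Prop where
  sharp : ∀ {g : G} {a b c : X}, a ≠ b → a ≠ c → b ≠ c → g • a = a → g • b = b → g • c = c → g = 1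
  unique_fix : ∀ {g : G} {a b : X}, g ≠ 1 → g ^ p = 1 → g • a = a → g • b = b → a = b
  exists_other : ∀ {g : G} {a : X}, g ^ p ≠ 1 → g • a = a → ∃ b, b ≠ a ∧ g • b = b
  two_cyclic : ∀ {a b : X}, a ≠ b → IsCyclic ↥(stabilizer G a ⊓ stabilizer G b)
  swap_sq : ∀ {g : G} {a b : X}, a ≠ b → g • a = b → g • b = a → g * g = 1
  unip_mul : ∀ {g h : G} {a : X}, g ^ p = 1 → h ^ p = 1 → g • a = a → h • a = a →
    (g * h) ^ p = 1 ∧ g * h = h * g
  comm_unip : ∀ {g h : G} {a : X}, g • a = a → h • a = a → (g * h * g⁻¹ * h⁻¹) ^ p = 1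

variable {p : ℕ} {G X : Type*} [Group G] [MulAction G X]

theorem P1Like.subgroup (hP : P1Like p G X) (H : Subgroup G) : P1Like p H X where
  sharp h1 h2 h3 ha hb hc := Subtype.ext (hP.sharp h1 h2 h3 ha hb hc)
  unique_fix hg hp ha hb :=
    hP.unique_fix (fun h => hg (Subtype.ext h)) (by simpa using congrArg Subtype.val hp) ha hb
  exists_other {g a} hg ha := hP.exists_other (fun h => hg (Subtype.ext (by simpa using h))) ha
  two_cyclic {a b} hab := by
    haveI := hP.two_cyclic hab
    let f : ↥(stabilizer H a ⊓ stabilizer H b) →* ↥(stabilizer G a ⊓ stabilizer G b) :=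
      { toFun := fun g => ⟨(g.1 : G), g.2.1, g.2.2⟩
        map_one' := rfl
        map_mul' := fun _ _ => rfl }
    exact isCyclic_of_injective f fun g h hgh =>
      Subtype.ext (Subtype.ext (congrArg (fun z : ↥(stabilizer G a ⊓ stabilizer G b) => (z : G)) hgh))
  swap_sq hab h1 h2 := Subtype.ext (hP.swap_sq hab h1 h2)
  unip_mul hg hh ha hb := by
    obtain ⟨h1, h2⟩ := hP.unip_mul (by simpa using congrArg Subtype.val hg)
      (by simpa using congrArg Subtype.val hh) ha hb
    exact ⟨Subtype.ext (by simpa using h1), Subtype.ext h2⟩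
  comm_unip ha hb := Subtype.ext (by simpa using hP.comm_unip ha hb)

/-- A free action of a finite group: the order divides the number of points. -/
theorem card_dvd_of_free {K Y : Type*} [Group K] [MulAction K Y] [Finite K] [Finite Y]
    (hfree : ∀ (k : K) (y : Y), k • y = y → k = 1) : Nat.card K ∣ Nat.card Y := by
  classical
  haveI := Fintype.ofFinite K
  haveI := Fintype.ofFinite Y
  haveI := Fintype.ofFinite (orbitRel.Quotient K Y)
  rw [Nat.card_congr (selfEquivSigmaOrbits K Y), Nat.card_sigma]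
  refine Finset.dvd_sum fun ω _ => ?_
  have h : stabilizer K ω.out = ⊥ := eq_bot_iff.2 fun k hk => hfree k _ hk
  rw [Nat.card_congr (orbitEquivQuotientStabilizer K ω.out), ← Subgroup.index, h, Subgroup.index_bot]

/-- The elements of `p`-power one fixing a point. -/
def unipAt (hP : P1Like p G X) (a : X) : Subgroup G where
  carrier := {g | g • a = a ∧ g ^ p = 1}
  one_mem' := ⟨one_smul _ _, one_pow _⟩
  mul_mem' {g h} hg hh := ⟨by rw [mul_smul, hh.1, hg.1], (hP.unip_mul hg.2 hh.2 hg.1 hh.1).1⟩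
  inv_mem' {g} hg := ⟨by rw [inv_smul_eq_iff, hg.1], by rw [inv_pow, hg.2, inv_one]⟩

theorem mem_unipAt {hP : P1Like p G X} {a : X} {g : G} : g ∈ unipAt hP a ↔ g • a = a ∧ g ^ p = 1 :=
  Iff.rfl

theorem unipAt_le (hP : P1Like p G X) (a : X) : unipAt hP a ≤ stabilizer G a := fun _ h => h.1

theorem isPGroup_unipAt (hP : P1Like p G X) (a : X) : IsPGroup p (unipAt hP a) :=
  fun g => ⟨1, Subtype.ext (by rw [pow_one]; exact g.2.2)⟩

/-- An element commuting with a parabolic element fixes its fixed point. -/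
theorem smul_eq_of_commute (hP : P1Like p G X) {z g : G} {c : X} (hz : z ≠ 1) (hzp : z ^ p = 1)
    (hzc : z • c = c) (h : g * z = z * g) : g • c = c := by
  refine hP.unique_fix hz hzp ?_ hzc
  rw [← mul_smul, ← h, mul_smul, hzc]

/-- No element fixing a point has order `p ^ 2`. -/
theorem pow_eq_one_of_pow_pow (hP : P1Like p G X) [Fact p.Prime] {g : G} {c : X} (hc : g • c = c)
    {m : ℕ} (h : g ^ p ^ m = 1) : g ^ p = 1 := by
  classical
  by_contra hg
  obtain ⟨b, hbc, hb⟩ := hP.exists_other hg hc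
  have hg1 : g ≠ 1 := fun e => hg (by rw [e, one_pow])
  obtain ⟨k, -, hk⟩ := (Nat.dvd_prime_pow Fact.out).1 (orderOf_dvd_of_pow_eq_one h)
  have hk0 : k ≠ 0 := fun e => hg1 (orderOf_eq_one_iff.1 (by rw [hk, e, pow_zero]))
  have hw : g ^ p ^ (k - 1) ≠ 1 := fun e => by
    have h1 := orderOf_dvd_of_pow_eq_one e
    rw [hk, Nat.pow_dvd_pow_iff_le_right (Fact.out : p.Prime).one_lt] at h1
    omega
  refine hbc (hP.unique_fix hw ?_ ?_ ?_).symm
  · rw [← pow_mul, ← pow_succ, Nat.sub_add_cancel (by omega), ← hk, pow_orderOf_eq_one]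
  · exact mem_stabilizer_iff.1 (Subgroup.pow_mem _ hc _)
  · exact mem_stabilizer_iff.1 (Subgroup.pow_mem _ hb _)

section Count

variable [Finite G] [Finite X] [Fact p.Prime]

/-- The points fixed by elements of order `p` form one orbit. -/
theorem mem_orbit_of_parabolic (hP : P1Like p G X) {u v : G} {a b : X} (hu : u ≠ 1) (hup : u ^ p = 1)
    (hua : u • a = a) (hv : v ≠ 1) (hvp : v ^ p = 1) (hvb : v • b = b) : b ∈ orbit G a := by
  classical
  have key : ∀ (c : X) (w : G), w ≠ 1 → w ^ p = 1 → w • c = c →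
      ∃ P : Sylow p G, (P : Subgroup G) = unipAt hP c := by
    intro c w hw hwp hwc
    obtain ⟨P, hle⟩ := (isPGroup_unipAt hP c).exists_le_sylow
    have hwP : w ∈ (P : Subgroup G) := hle ⟨hwc, hwp⟩
    haveI : Nontrivial (P : Subgroup G) := ⟨⟨w, hwP⟩, 1, fun e => hw (congrArg Subtype.val e)⟩
    haveI := P.2.center_nontrivial
    obtain ⟨⟨z, hz⟩, hz1⟩ := exists_ne (1 : Subgroup.center (P : Subgroup G))
    have hzG : (z : G) ≠ 1 := fun e => hz1 (Subtype.ext (Subtype.ext e))
    obtain ⟨m, hm⟩ := P.2 z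
    have hcomm : ∀ x ∈ (P : Subgroup G), x * (z : G) = z * x := fun x hx =>
      congrArg Subtype.val (Subgroup.mem_center_iff.1 hz ⟨x, hx⟩)
    have hzc : (z : G) • c = c := smul_eq_of_commute hP hw hwp hwc (hcomm w hwP).symm
    have hzp : (z : G) ^ p = 1 := pow_eq_one_of_pow_pow hP hzc (by simpa using congrArg Subtype.val hm)
    refine ⟨P, le_antisymm (fun x hx => ?_) hle⟩
    have hxc : x • c = c := smul_eq_of_commute hP hzG hzp hzc (hcomm x hx)
    obtain ⟨m', hm'⟩ := P.2 ⟨x, hx⟩
    exact ⟨hxc, pow_eq_one_of_pow_pow hP hxc (by simpa using congrArg Subtype.val hm')⟩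
  obtain ⟨P, hPe⟩ := key a u hu hup hua
  obtain ⟨P', hPe'⟩ := key b v hv hvp hvb
  obtain ⟨k, hk⟩ := exists_smul_eq G P P'
  have hmem : k * u * k⁻¹ ∈ unipAt hP b := by
    rw [← hPe', ← hk, Sylow.coe_subgroup_smul, Subgroup.mem_pointwise_smul_iff_inv_smul_mem, hPe]
    simpa [MulAut.smul_def, mul_assoc] using (show u ∈ unipAt hP a from ⟨hua, hup⟩)
  refine ⟨k, ?_⟩
  refine hP.unique_fix (g := k * u * k⁻¹) (fun e => hu ?_) hmem.2 ?_ hmem.1
  · exact conj_eq_one_iff.1 e
  · show (k * u * k⁻¹) • k • a = k • a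
    rw [smul_smul, inv_mul_cancel_right, mul_smul, hua]

/-- The number of non-identity elements of order dividing `p`. -/
noncomputable def numParabolic (p : ℕ) (G : Type*) [Group G] : ℕ := Nat.card {g : G // g ≠ 1 ∧ g ^ p = 1}

/-- The number of points fixed by a non-identity element is `1` or `2`. -/
theorem card_fixed (hP : P1Like p G X) (hfix : ∀ g : G, ∃ a : X, g • a = a) {g : G} (hg : g ≠ 1) :
    Nat.card {a : X // g • a = a} + Nat.card {_a : PUnit.{1} // g ^ p = 1} = 2 := by
  classical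
  haveI := Fintype.ofFinite X
  obtain ⟨a, ha⟩ := hfix g
  by_cases hgp : g ^ p = 1
  · haveI : Unique {b : X // g • b = b} :=
      ⟨⟨⟨a, ha⟩⟩, fun b => Subtype.ext (hP.unique_fix hg hgp b.2 ha)⟩
    haveI : Unique {_a : PUnit.{1} // g ^ p = 1} := ⟨⟨⟨PUnit.unit, hgp⟩⟩, fun b => Subtype.ext rfl⟩
    simp
  · obtain ⟨b, hba, hb⟩ := hP.exists_other hgp ha
    haveI : IsEmpty {_a : PUnit.{1} // g ^ p = 1} := ⟨fun x => hgp x.2⟩
    rw [Nat.card_eq_fintype_card, Fintype.card_subtype, Nat.card_of_isEmpty, add_zero,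
      Finset.card_eq_two]
    refine ⟨a, b, hba.symm, ?_⟩
    ext c
    simp only [Finset.mem_filter, Finset.mem_univ, true_and, Finset.mem_insert, Finset.mem_singleton]
    refine ⟨fun hc => ?_, ?_⟩
    · by_contra hne
      push Not at hne
      exact hg (hP.sharp hba.symm hne.1.symm hne.2.symm ha hb hc)
    · rintro (rfl | rfl) <;> assumption

/-- Double counting of incident pairs. -/
theorem sum_stabilizer_add (hP : P1Like p G X) (hfix : ∀ g : G, ∃ a : X, g • a = a) [Fintype X] :
    (∑ a : X, (Nat.card (stabilizer G a) - 1)) + numParabolic p G = 2 * (Nat.card G - 1) := by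
  classical
  haveI := Fintype.ofFinite G
  have h1 : (∑ a : X, (Nat.card (stabilizer G a) - 1)) =
      ∑ g ∈ Finset.univ.erase (1 : G), Nat.card {a : X // g • a = a} := by
    have e1 : ∀ a : X, Nat.card (stabilizer G a) - 1 =
        ∑ g ∈ Finset.univ.erase (1 : G), if g • a = a then 1 else 0 := by
      intro a
      rw [← Finset.card_filter, Finset.filter_erase, Finset.card_erase_of_mem (by simp),
        Nat.card_eq_fintype_card]
      exact congrArg (· - 1) (Fintype.card_subtype _)
    simp_rw [e1, Nat.card_eq_fintype_card, Fintype.card_subtype, Finset.card_filter]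
    rw [Finset.sum_comm]
  have h2 : numParabolic p G = ∑ g ∈ Finset.univ.erase (1 : G), Nat.card {_a : PUnit.{1} // g ^ p = 1} := by
    rw [numParabolic, Nat.card_eq_fintype_card, Fintype.card_subtype]
    have e2 : ∀ g : G, Nat.card {_a : PUnit.{1} // g ^ p = 1} = if g ^ p = 1 then 1 else 0 := by
      intro g
      by_cases h : g ^ p = 1 <;> simp [Nat.card_eq_fintype_card, Fintype.card_subtype, h]
    simp_rw [e2, ← Finset.card_filter]
    congr 1
    ext g; simp
  rw [h1, h2, ← Finset.sum_add_distrib, Finset.sum_congr rfl (fun g hg =>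
    card_fixed hP hfix (Finset.ne_of_mem_erase hg)), Finset.sum_const, Finset.card_erase_of_mem (Finset.mem_univ _),
    Finset.card_univ, Nat.card_eq_fintype_card, smul_eq_mul, mul_comm]

/-- Parabolic elements counted by fixed points. -/
theorem numParabolic_eq (hP : P1Like p G X) (hfix : ∀ g : G, ∃ a : X, g • a = a) [Fintype X] :
    numParabolic p G = ∑ a : X, (Nat.card (unipAt hP a) - 1) := by
  classical
  haveI := Fintype.ofFinite G
  choose φ hφ using hfix
  have e : ∀ a : X, Nat.card (unipAt hP a) - 1 =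
      ((Finset.univ.filter fun g : G => g ≠ 1 ∧ g ^ p = 1).filter fun g => φ g = a).card := by
    intro a
    rw [Nat.card_eq_fintype_card, Fintype.card_subtype,
      ← Finset.card_erase_of_mem (s := Finset.univ.filter fun g => g ∈ unipAt hP a) (a := (1 : G))
        (by simp [one_mem])]
    congr 1
    ext g
    simp only [Finset.mem_erase, Finset.mem_filter, Finset.mem_univ, true_and, mem_unipAt]
    refine ⟨fun ⟨h1, h2, h3⟩ => ⟨⟨h1, h3⟩, hP.unique_fix h1 h3 (hφ g) h2⟩, ?_⟩
    rintro ⟨⟨h1, h3⟩, rfl⟩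
    exact ⟨h1, hφ g, h3⟩
  simp_rw [e]
  rw [numParabolic, Nat.card_eq_fintype_card, Fintype.card_subtype]
  exact Finset.card_eq_sum_card_fiberwise (fun _ _ => Finset.mem_univ _)

/-- A sum over points of an invariant function, orbit by orbit. -/
theorem sum_orbits [Fintype X] [Fintype (orbitRel.Quotient G X)] (F : X → ℕ)
    (hF : ∀ (g : G) (a : X), F (g • a) = F a) :
    ∑ a : X, F a = ∑ ω : orbitRel.Quotient G X, Nat.card (orbit G ω.out) * F ω.out := by
  classical
  rw [← (selfEquivSigmaOrbits G X).symm.sum_comp, Fintype.sum_sigma]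
  refine Finset.sum_congr rfl fun ω _ => ?_
  rw [Finset.sum_congr rfl (g := fun _ => F ω.out) (fun x _ => ?_), Finset.sum_const, smul_eq_mul,
    Finset.card_univ, Nat.card_eq_fintype_card]
  obtain ⟨g, hg⟩ := x.2
  show F (x : X) = F ω.out
  rw [← hg, hF]

theorem card_orbit_mul (a : X) : Nat.card (orbit G a) * Nat.card (stabilizer G a) = Nat.card G := by
  rw [Nat.card_congr (orbitEquivQuotientStabilizer G a), ← Subgroup.index, Subgroup.index_mul_card]

theorem card_stabilizer_smul (g : G) (a : X) :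
    Nat.card (stabilizer G (g • a)) = Nat.card (stabilizer G a) := by
  have h1 := card_orbit_mul (G := G) (g • a)
  rw [orbit_smul] at h1
  have h2 := card_orbit_mul (G := G) a
  have h3 : 0 < Nat.card (orbit G a) := Nat.card_pos_iff.2 ⟨⟨⟨a, mem_orbit_self a⟩⟩, inferInstance⟩
  exact Nat.eq_of_mul_eq_mul_left h3 (h1.trans h2.symm)

theorem card_unipAt_smul (hP : P1Like p G X) (g : G) (a : X) :
    Nat.card (unipAt hP (g • a)) = Nat.card (unipAt hP a) := by
  refine Nat.card_congr ((MulAut.conj g⁻¹).toEquiv.subtypeEquiv fun x => ?_)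
  show x ∈ unipAt hP (g • a) ↔ MulAut.conj g⁻¹ x ∈ unipAt hP a
  rw [mem_unipAt, mem_unipAt, MulAut.conj_apply, conj_pow, conj_eq_one_iff, inv_inv, mul_smul, mul_smul,
    inv_smul_eq_iff]

end Count

end CfsgLib.PSL2
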