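import Cfsg.Agent.Lib.Classical.P1
import Cfsg.Agent.Lib.PSL2.Orbits

/-!
`PGL₂` of a finite field acts on the projective line as in `P1Like`.
-/

set_option autoImplicit false
set_option linter.style.haveILetI false
set_option linter.unusedSectionVars false

namespace CfsgLib.PSL2

open Matrix MulAction CfsgLib.Classical
open scoped LinearAlgebra.Projectivization

variable {E : Type*} [Field E]

local notation "P1" => ℙ E (Fin 2 → E)
local notation "PG" => Matrix.ProjGenLinGroup (Fin 2) E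

theorem fix_pInf_iff (g : GL (Fin 2) E) :
    ProjGenLinGroup.mk g • pInf E = pInf E ↔ g.1 1 0 = 0 := by
  rw [pInf, gl_smul_mk, Projectivization.mk_eq_mk_iff']
  constructor
  · rintro ⟨c, hc⟩
    have := congrFun hc 1
    simpa [mulVec, dotProduct] using this.symm
  · intro h
    refine ⟨g.1 0 0, ?_⟩
    ext i; fin_cases i <;> simp [mulVec, dotProduct, h]

theorem fix_pZero_iff (g : GL (Fin 2) E) :
    ProjGenLinGroup.mk g • pZero E = pZero E ↔ g.1 0 1 = 0 := by
  rw [pZero, gl_smul_mk, Projectivization.mk_eq_mk_iff']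
  constructor
  · rintro ⟨c, hc⟩
    have := congrFun hc 0
    simpa [mulVec, dotProduct] using this.symm
  · intro h
    refine ⟨g.1 1 1, ?_⟩
    ext i; fin_cases i <;> simp [mulVec, dotProduct, h]

theorem mk_eq_one_of_entries {g : GL (Fin 2) E} (h10 : g.1 1 0 = 0) (h01 : g.1 0 1 = 0)
    (hd : g.1 0 0 = g.1 1 1) : ProjGenLinGroup.mk g = 1 := by
  have hz : g.1 0 0 ≠ 0 := fun h => g.det_ne_zero (by simp [det_fin_two, h, h10])
  rw [← ProjGenLinGroup.mk_scalar (n := Fin 2) (Units.mk0 _ hz)]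
  refine congrArg _ (Units.ext ?_)
  ext i j
  fin_cases i <;> fin_cases j <;> simp [h10, h01, hd]

theorem entries_of_mk_eq_one {g : GL (Fin 2) E} (h : ProjGenLinGroup.mk g = 1) :
    g.1 1 0 = 0 ∧ g.1 0 1 = 0 ∧ g.1 0 0 = g.1 1 1 := by
  rw [ProjGenLinGroup.mk_eq_one, GeneralLinearGroup.center_eq_range_scalar] at h
  obtain ⟨c, rfl⟩ := h
  simp

theorem upper_pow {g : GL (Fin 2) E} (h : g.1 1 0 = 0) (n : ℕ) :
    (g ^ n).1 1 0 = 0 ∧ (g ^ n).1 0 0 = g.1 0 0 ^ n ∧ (g ^ n).1 1 1 = g.1 1 1 ^ n ∧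
      (g.1 0 0 = g.1 1 1 → (g ^ n).1 0 1 = n * g.1 0 0 ^ (n - 1) * g.1 0 1) := by
  induction n with
  | zero => simp
  | succ n ih =>
    obtain ⟨h1, h2, h3, h4⟩ := ih
    rw [Units.val_pow_eq_pow_val] at h1 h2 h3 h4 ⊢
    simp only [pow_succ, Matrix.mul_apply, Fin.sum_univ_two, h1, h2, h3, h, zero_mul, mul_zero, add_zero,
      zero_add, true_and, Nat.add_sub_cancel]
    intro hd
    rw [h4 hd]
    rcases n with _ | n
    · simp
    · simp only [Nat.add_sub_cancel, ← hd, pow_succ]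
      push_cast
      ring

variable (p : ℕ) [Fact p.Prime] [CharP E p]

theorem pow_eq_one_iff_diag {g : GL (Fin 2) E} (h : g.1 1 0 = 0) :
    ProjGenLinGroup.mk g ^ p = 1 ↔ g.1 0 0 = g.1 1 1 := by
  obtain ⟨h1, h2, h3, h4⟩ := upper_pow h p
  constructor
  · intro hp
    rw [← map_pow] at hp
    obtain ⟨-, -, hd⟩ := entries_of_mk_eq_one hp
    rw [h2, h3] at hd
    exact frobenius_inj E p hd
  · intro hd
    rw [← map_pow]
    refine mk_eq_one_of_entries h1 ?_ (by rw [h2, h3, hd])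
    rw [h4 hd, CharP.cast_eq_zero, zero_mul, zero_mul]

theorem exists_third (a b : P1) : ∃ c : P1, a ≠ c ∧ b ≠ c := by
  have h1 : pInf E ≠ pZero E := fun h => by
    rw [pInf, pZero, Projectivization.mk_eq_mk_iff'] at h
    obtain ⟨c, hc⟩ := h
    simpa using congrFun hc 0
  have h2 : pInf E ≠ pOne E := fun h => by
    rw [pInf, pOne, Projectivization.mk_eq_mk_iff'] at h
    obtain ⟨c, hc⟩ := h
    have h0 := congrFun hc 0
    have h1 := congrFun hc 1
    simp at h0 h1
    exact zero_ne_one (h1.symm.trans h0)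
  have h3 : pZero E ≠ pOne E := fun h => by
    rw [pZero, pOne, Projectivization.mk_eq_mk_iff'] at h
    obtain ⟨c, hc⟩ := h
    have h0 := congrFun hc 0
    have h1 := congrFun hc 1
    simp at h0 h1
    exact zero_ne_one (h0.symm.trans h1)
  by_contra h
  push Not at h
  rcases eq_or_ne a (pInf E) with rfl | ha1
  · have := h _ h1
    have := h _ h2
    exact h3 (by simp_all)
  · rcases eq_or_ne a (pZero E) with rfl | ha2
    · have := h _ ha1
      have := h _ h3
      exact h2 (by simp_all)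
    · have := h _ ha1
      have := h _ ha2
      exact h1 (by simp_all)

theorem exists_to_std {a b : P1} (hab : a ≠ b) : ∃ k : PG, k • pInf E = a ∧ k • pZero E = b := by
  obtain ⟨c, hac, hbc⟩ := exists_third a b
  obtain ⟨g, h1, h2, -⟩ := exists_gl_three hab hac hbc
  exact ⟨_, h1, h2⟩

theorem exists_to_inf (a : P1) : ∃ k : PG, k • pInf E = a := by
  obtain ⟨b, hb, -⟩ := exists_third a a
  obtain ⟨k, hk, -⟩ := exists_to_std hb
  exact ⟨k, hk⟩

theorem two_stab_cyclic [Finite E] {a b : P1} (hab : a ≠ b) :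
    IsCyclic ↥(stabilizer PG a ⊓ stabilizer PG b) := by
  obtain ⟨k, hka, hkb⟩ := exists_to_std hab
  let D : Eˣ →* GL (Fin 2) E :=
    MonoidHom.toHomUnits
      { toFun := fun t => !![(t : E), 0; 0, 1]
        map_one' := by simp [one_fin_two]
        map_mul' := fun s t => by simp }
  have hD : ∀ t : Eˣ, (D t).1 = !![(t : E), 0; 0, 1] := fun t => rfl
  let φ : Eˣ →* PG := (MulAut.conj k).toMonoidHom.comp (ProjGenLinGroup.mk.comp D)
  have hmem : ∀ t, φ t ∈ stabilizer PG a ⊓ stabilizer PG b := by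
    intro t
    have h1 := (fix_pInf_iff (D t)).2 (by rw [hD]; simp)
    have h2 := (fix_pZero_iff (D t)).2 (by rw [hD]; simp)
    refine ⟨?_, ?_⟩ <;> show φ t • _ = _
    · simp only [φ, MonoidHom.comp_apply, MulEquiv.coe_toMonoidHom, MulAut.conj_apply, ← hka, mul_smul,
        inv_smul_smul, h1]
    · simp only [φ, MonoidHom.comp_apply, MulEquiv.coe_toMonoidHom, MulAut.conj_apply, ← hkb, mul_smul,
        inv_smul_smul, h2]
  refine isCyclic_of_surjective (φ.codRestrict _ hmem) ?_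
  rintro ⟨g, hga, hgb⟩
  obtain ⟨m, hm⟩ := ProjGenLinGroup.mk_surjective (k⁻¹ * g * k)
  have h10 : m.1 1 0 = 0 := (fix_pInf_iff m).1 (by
    rw [hm, mul_smul, mul_smul, hka, mem_stabilizer_iff.1 hga, inv_smul_eq_iff, hka])
  have h01 : m.1 0 1 = 0 := (fix_pZero_iff m).1 (by
    rw [hm, mul_smul, mul_smul, hkb, mem_stabilizer_iff.1 hgb, inv_smul_eq_iff, hkb])
  have hdet := m.det_ne_zero
  rw [det_fin_two, h10, mul_zero, sub_zero, mul_ne_zero_iff] at hdet
  refine ⟨Units.mk0 (m.1 0 0 / m.1 1 1) (div_ne_zero hdet.1 hdet.2), Subtype.ext ?_⟩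
  show φ _ = g
  have : ProjGenLinGroup.mk (D (Units.mk0 (m.1 0 0 / m.1 1 1) (div_ne_zero hdet.1 hdet.2))) = k⁻¹ * g * k := by
    rw [← hm, ProjGenLinGroup.mk_eq_mk_iff]
    refine ⟨Units.mk0 _ hdet.2, Units.ext ?_⟩
    ext i j
    fin_cases i <;> fin_cases j <;> simp [hD, h10, h01, hdet.2]
  simp only [φ, MonoidHom.comp_apply, MulEquiv.coe_toMonoidHom, MulAut.conj_apply, this]
  group

theorem conj_smul_eq {g k : PG} {x y : P1} (hk : k • x = y) (h : g • y = y) : (k⁻¹ * g * k) • x = x := by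
  rw [mul_smul, mul_smul, hk, h, inv_smul_eq_iff, hk]

theorem conj_pow_eq_one_iff {G : Type*} [Group G] {g k : G} {n : ℕ} : (k⁻¹ * g * k) ^ n = 1 ↔ g ^ n = 1 := by
  have h : (k⁻¹ * g * k) ^ n = k⁻¹ * g ^ n * k := by
    simpa using conj_pow (a := k⁻¹) (b := g) (i := n)
  rw [h, mul_assoc, inv_mul_eq_one, eq_comm, mul_eq_right]

/-- `PGL₂` of a finite field. -/
theorem p1Like_pgl [Finite E] : P1Like p PG P1 where
  sharp hab hac hbc ha hb hc := pgl_sharp hab hac hbc ha hb hc
  two_cyclic hab := two_stab_cyclic hab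
  unique_fix {g a b} hg hp ha hb := by
    by_contra hab
    obtain ⟨k, hka, hkb⟩ := exists_to_std hab
    obtain ⟨m, hm⟩ := ProjGenLinGroup.mk_surjective (k⁻¹ * g * k)
    have h10 := (fix_pInf_iff m).1 (by rw [hm]; exact conj_smul_eq hka ha)
    have h01 := (fix_pZero_iff m).1 (by rw [hm]; exact conj_smul_eq hkb hb)
    have hd := (pow_eq_one_iff_diag p h10).1 (by rw [hm, conj_pow_eq_one_iff]; exact hp)
    refine hg ?_
    have := mk_eq_one_of_entries h10 h01 hd
    rw [hm] at this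
    calc g = k * (k⁻¹ * g * k) * k⁻¹ := by group
      _ = 1 := by rw [this, mul_one, mul_inv_cancel]
  exists_other {g a} hp ha := by
    obtain ⟨k, hka⟩ := exists_to_inf a
    obtain ⟨m, hm⟩ := ProjGenLinGroup.mk_surjective (k⁻¹ * g * k)
    have h10 := (fix_pInf_iff m).1 (by rw [hm]; exact conj_smul_eq hka ha)
    have hd : m.1 1 1 - m.1 0 0 ≠ 0 := fun h => hp (by
      have := (pow_eq_one_iff_diag p h10).2 (sub_eq_zero.1 h).symm
      rwa [hm, conj_pow_eq_one_iff] at this)
    have hv : (![m.1 0 1, m.1 1 1 - m.1 0 0] : Fin 2 → E) ≠ 0 := fun h => hd (congrFun h 1)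
    refine ⟨k • Projectivization.mk E _ hv, fun h => hd ?_, ?_⟩
    · have h' := smul_left_cancel k (h.trans hka.symm)
      rw [pInf, Projectivization.mk_eq_mk_iff'] at h'
      obtain ⟨c, hc⟩ := h'
      simpa using (congrFun hc 1).symm
    · have hfix : ProjGenLinGroup.mk m • Projectivization.mk E _ hv = Projectivization.mk E _ hv := by
        rw [gl_smul_mk, Projectivization.mk_eq_mk_iff']
        refine ⟨m.1 1 1, ?_⟩
        ext i; fin_cases i <;> simp [mulVec, dotProduct, h10]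
        ring
      rw [hm, mul_smul, mul_smul, inv_smul_eq_iff] at hfix
      exact hfix
  swap_sq {g a b} hab hga hgb := by
    obtain ⟨k, hka, hkb⟩ := exists_to_std hab
    obtain ⟨m, hm⟩ := ProjGenLinGroup.mk_surjective (k⁻¹ * g * k)
    have e1 : ProjGenLinGroup.mk m • pInf E = pZero E := by
      rw [hm, mul_smul, mul_smul, hka, hga, inv_smul_eq_iff, hkb]
    have e2 : ProjGenLinGroup.mk m • pZero E = pInf E := by
      rw [hm, mul_smul, mul_smul, hkb, hgb, inv_smul_eq_iff, hka]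
    rw [pInf, pZero, gl_smul_mk, Projectivization.mk_eq_mk_iff'] at e1 e2
    obtain ⟨c, hc⟩ := e1
    obtain ⟨c', hc'⟩ := e2
    have h00 : m.1 0 0 = 0 := by simpa [mulVec, dotProduct] using (congrFun hc 0).symm
    have h11 : m.1 1 1 = 0 := by simpa [mulVec, dotProduct] using (congrFun hc' 1).symm
    have : ProjGenLinGroup.mk (m * m) = 1 := by
      refine mk_eq_one_of_entries ?_ ?_ ?_ <;>
        simp [Units.val_mul, Matrix.mul_apply, Fin.sum_univ_two, h00, h11, mul_comm]
    rw [map_mul, hm] at this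
    calc g * g = k * (k⁻¹ * g * k * (k⁻¹ * g * k)) * k⁻¹ := by group
      _ = 1 := by rw [this, mul_one, mul_inv_cancel]
  unip_mul {g h a} hg hh ha hb := by
    obtain ⟨k, hka⟩ := exists_to_inf a
    obtain ⟨m, hm⟩ := ProjGenLinGroup.mk_surjective (k⁻¹ * g * k)
    obtain ⟨n, hn⟩ := ProjGenLinGroup.mk_surjective (k⁻¹ * h * k)
    have hm10 := (fix_pInf_iff m).1 (by rw [hm]; exact conj_smul_eq hka ha)
    have hn10 := (fix_pInf_iff n).1 (by rw [hn]; exact conj_smul_eq hka hb)
    have hmd := (pow_eq_one_iff_diag p hm10).1 (by rw [hm, conj_pow_eq_one_iff]; exact hg)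
    have hnd := (pow_eq_one_iff_diag p hn10).1 (by rw [hn, conj_pow_eq_one_iff]; exact hh)
    have hcomm : m * n = n * m := Units.ext (by
      ext i j
      fin_cases i <;> fin_cases j <;>
        simp [Units.val_mul, Matrix.mul_apply, Fin.sum_univ_two, hm10, hn10, hmd, hnd] <;> ring)
    have h10 : (m * n).1 1 0 = 0 := by simp [Units.val_mul, Matrix.mul_apply, Fin.sum_univ_two, hm10, hn10]
    have e : k⁻¹ * (g * h) * k = ProjGenLinGroup.mk (m * n) := by rw [map_mul, hm, hn]; group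
    refine ⟨(conj_pow_eq_one_iff (k := k)).1 ?_, ?_⟩
    · rw [e]
      exact (pow_eq_one_iff_diag p h10).2 (by
        simp [Units.val_mul, Matrix.mul_apply, Fin.sum_univ_two, hm10, hn10, hmd, hnd])
    · have e2 := congrArg ProjGenLinGroup.mk hcomm
      rw [map_mul, map_mul, hm, hn] at e2
      calc g * h = k * (k⁻¹ * g * k * (k⁻¹ * h * k)) * k⁻¹ := by group
        _ = k * (k⁻¹ * h * k * (k⁻¹ * g * k)) * k⁻¹ := by rw [e2]
        _ = h * g := by group
  comm_unip {g h a} ha hb := by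
    obtain ⟨k, hka⟩ := exists_to_inf a
    obtain ⟨m, hm⟩ := ProjGenLinGroup.mk_surjective (k⁻¹ * g * k)
    obtain ⟨n, hn⟩ := ProjGenLinGroup.mk_surjective (k⁻¹ * h * k)
    have hm10 := (fix_pInf_iff m).1 (by rw [hm]; exact conj_smul_eq hka ha)
    have hn10 := (fix_pInf_iff n).1 (by rw [hn]; exact conj_smul_eq hka hb)
    have inv10 : ∀ u : GL (Fin 2) E, u.1 1 0 = 0 →
        (u⁻¹).1 1 0 = 0 ∧ u.1 0 0 * (u⁻¹).1 0 0 = 1 ∧ u.1 1 1 * (u⁻¹).1 1 1 = 1 := by
      intro u hu
      have h1 := (fix_pInf_iff u).2 hu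
      have h2 : (u⁻¹).1 1 0 = 0 := (fix_pInf_iff u⁻¹).1 (by rw [map_inv, inv_smul_eq_iff, h1])
      have h3 : u.1 * (u⁻¹).1 = 1 := by rw [← Units.val_mul, mul_inv_cancel, Units.val_one]
      have h4 := congrFun (congrFun h3 0) 0
      have h5 := congrFun (congrFun h3 1) 1
      simp only [Matrix.mul_apply, Fin.sum_univ_two, hu, h2, mul_zero, zero_mul, add_zero, zero_add,
        Matrix.one_apply_eq] at h4 h5
      exact ⟨h2, h4, h5⟩
    obtain ⟨m1, m2, m3⟩ := inv10 m hm10
    obtain ⟨n1, n2, n3⟩ := inv10 n hn10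
    rw [← conj_pow_eq_one_iff (k := k),
      show k⁻¹ * (g * h * g⁻¹ * h⁻¹) * k = ProjGenLinGroup.mk (m * n * m⁻¹ * n⁻¹) by
        rw [map_mul, map_mul, map_mul, map_inv, map_inv, hm, hn]; group]
    refine (pow_eq_one_iff_diag p ?_).2 ?_
    · simp only [Units.val_mul, Matrix.mul_apply, Fin.sum_univ_two, hm10, hn10, m1, n1]; ring
    · simp only [Units.val_mul, Matrix.mul_apply, Fin.sum_univ_two, hm10, hn10, m1, n1]
      linear_combination (n.1 0 0 * (n⁻¹).1 0 0) * m2 + n2 - (n.1 1 1 * (n⁻¹).1 1 1) * m3 - n3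

/-- An element of a quadratic subfield group has a fixed point. -/
theorem exists_fix_of_finrank_two {F : Type*} [Field F] [Finite F] [Algebra F E]
    (h2 : Module.finrank F E = 2) (g : Matrix.ProjGenLinGroup (Fin 2) F) :
    ∃ a : P1, ProjGenLinGroup.map (algebraMap F E) g • a = a := by
  induction g using Matrix.ProjGenLinGroup.induction_on with | mk g => ?_
  obtain ⟨l, hl⟩ : ∃ l : E, l ^ 2 - algebraMap F E g.1.trace * l + algebraMap F E g.1.det = 0 := by
    obtain ⟨p, hp⟩ := CharP.exists F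
    haveI := Fact.mk (CharP.char_is_prime F p)
    let P : Polynomial F := g.1.charpoly
    have hdeg : P.natDegree = 2 := by simp [P]
    have hP : ∀ x : E, Polynomial.aeval x P =
        x ^ 2 - algebraMap F E g.1.trace * x + algebraMap F E g.1.det := fun x => by
      simp [P, Matrix.charpoly_fin_two]
    by_cases hirr : Irreducible P
    · haveI := Fact.mk hirr
      have hfr : Module.finrank F (AdjoinRoot P) = 2 := by
        rw [(AdjoinRoot.powerBasis hirr.ne_zero).finrank, AdjoinRoot.powerBasis_dim, hdeg]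
      let e : AdjoinRoot P ≃ₐ[F] E :=
        (FiniteField.algEquivExtension F p 2 _ hfr).trans (FiniteField.algEquivExtension F p 2 E h2).symm
      refine ⟨e (AdjoinRoot.root P), ?_⟩
      rw [← hP, Polynomial.aeval_algHom_apply, AdjoinRoot.aeval_eq, AdjoinRoot.mk_self, map_zero]
    · obtain ⟨x, hx⟩ : ∃ x : F, P.IsRoot x := by
        by_contra h
        push Not at h
        exact hirr ((Polynomial.Monic.irreducible_iff_roots_eq_zero_of_degree_le_three (charpoly_monic _)
          hdeg.ge (hdeg.le.trans (by norm_num))).2 (Multiset.eq_zero_of_forall_notMem fun x hx => h x (Polynomial.mem_roots'.1 hx).2))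
      refine ⟨algebraMap F E x, ?_⟩
      rw [← hP, Polynomial.aeval_algebraMap_apply, Polynomial.coe_aeval_eq_eval, hx.eq_zero, map_zero]
  set m := GeneralLinearGroup.map (algebraMap F E) g with hm
  have hmv : ∀ i j, m.1 i j = algebraMap F E (g.1 i j) := fun i j => rfl
  have hdet : (m.1 - l • 1).det = 0 := by
    simp only [det_fin_two, Matrix.sub_apply, Matrix.smul_apply, Matrix.one_apply_eq, smul_eq_mul, mul_one,
      Matrix.one_apply_ne (show (0 : Fin 2) ≠ 1 by decide), Matrix.one_apply_ne (show (1 : Fin 2) ≠ 0 by decide),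
      mul_zero, sub_zero, hmv]
    simp only [Matrix.trace_fin_two, det_fin_two, map_sub, map_add, map_mul] at hl
    linear_combination hl
  obtain ⟨v, hv, hmv⟩ := Matrix.exists_mulVec_eq_zero_iff.2 hdet
  refine ⟨Projectivization.mk E v hv, ?_⟩
  rw [ProjGenLinGroup.map_mk, gl_smul_mk, Projectivization.mk_eq_mk_iff']
  refine ⟨l, ?_⟩
  rw [Matrix.sub_mulVec, Matrix.smul_mulVec, Matrix.one_mulVec, sub_eq_zero] at hmv
  exact hmv.symm

end CfsgLib.PSL2
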