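import Cfsg.Agent.Lib.PSL2.Maximal

/-!
Subfields of a finite field and orders of elements of `PGL₂`.
-/

set_option autoImplicit false
set_option linter.style.haveILetI false
set_option linter.unusedSectionVars false

namespace CfsgLib.PSL2

open Matrix MulAction CfsgLib.Classical
open scoped LinearAlgebra.Projectivization

variable {F : Type*} [Field F] [Finite F] {p : ℕ} [Fact p.Prime] [CharP F p]

local notation "PG" => Matrix.ProjGenLinGroup (Fin 2) F
local notation "P1" => ℙ F (Fin 2 → F)
local notation "PE" => ℙ (Ext2 F p) (Fin 2 → Ext2 F p)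

theorem pow_natCard_eq {K : Subfield F} {x : F} (hx : x ∈ K) : x ^ Nat.card K = x := by
  haveI := Fintype.ofFinite K
  have := congrArg Subtype.val (FiniteField.pow_card (⟨x, hx⟩ : K))
  simpa [Nat.card_eq_fintype_card] using this

theorem mem_of_pow_natCard {K : Subfield F} {x : F} (hx : x ^ Nat.card K = x) : x ∈ K := by
  classical
  haveI := Fintype.ofFinite F
  have hQ : 1 < Nat.card K := Finite.one_lt_card
  by_contra hxK
  set P : Polynomial F := Polynomial.X ^ Nat.card K - Polynomial.X with hP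
  have hP0 : P ≠ 0 := FiniteField.X_pow_card_sub_X_ne_zero F hQ
  have hsub : insert x (K : Set F).toFinset ⊆ P.roots.toFinset := by
    intro y hy
    rw [Multiset.mem_toFinset, Polynomial.mem_roots hP0]
    simp only [Finset.mem_insert, Set.mem_toFinset] at hy
    rcases hy with rfl | hy
    · simp [hP, sub_eq_zero, ← Nat.card_eq_fintype_card, hx]
    · simp [hP, sub_eq_zero, ← Nat.card_eq_fintype_card, pow_natCard_eq hy]
  have h1 := (Finset.card_le_card hsub).trans ((Multiset.toFinset_card_le _).trans (Polynomial.card_roots' P))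
  rw [Finset.card_insert_of_notMem (by simpa using hxK), FiniteField.X_pow_card_sub_X_natDegree_eq F hQ,
    Set.toFinset_card, ← Nat.card_eq_fintype_card] at h1
  exact absurd h1 (by simp)

theorem subfield_eq_of_card {K K' : Subfield F} (h : Nat.card K = Nat.card K') : K = K' :=
  le_antisymm (fun _ hx => mem_of_pow_natCard (h ▸ pow_natCard_eq hx))
    (fun _ hx => mem_of_pow_natCard (h.symm ▸ pow_natCard_eq hx))

variable (p) in
/-- The prime subfield. -/
theorem exists_prime_subfield : ∃ K : Subfield F, Nat.card K = p := by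
  haveI : NeZero p := ⟨(Fact.out : p.Prime).ne_zero⟩
  refine ⟨(ZMod.castHom (dvd_refl p) F).fieldRange, ?_⟩
  have h1 : Nat.card (ZMod.castHom (dvd_refl p) F).fieldRange = Nat.card (ZMod p) :=
    Nat.card_range_of_injective (f := ZMod.castHom (dvd_refl p) F) (ZMod.castHom (dvd_refl p) F).injective
  rw [h1, Nat.card_zmod]

theorem natCard_eq_pow {K : Subfield F} : ∃ a : ℕ, 0 < a ∧ Nat.card K = p ^ a := by
  haveI : CharP K p := (RingHom.charP_iff_charP K.subtype p).2 inferInstance
  obtain ⟨a, ha, h⟩ := card_eq_charPow (F := K) (p := p)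
  exact ⟨a, Nat.pos_of_ne_zero (by omega), h⟩

theorem finrank_eq_of_card {K : Subfield F} {Q r : ℕ} (hK : Nat.card K = Q) (h : Q ^ r = Nat.card F) :
    Module.finrank K F = r := by
  rw [Module.natCard_eq_pow_finrank (K := K) (V := F), hK] at h
  exact (Nat.pow_right_injective (hK ▸ Finite.one_lt_card : 2 ≤ Q) h).symm

variable (p) in
include p in
theorem exists_subfield_card {Q r : ℕ} (h : Q ^ r = Nat.card F) (hr : 0 < r) :
    ∃ K : Subfield F, Nat.card K = Q ∧ Module.finrank K F = r := by
  obtain ⟨K₀, hK₀⟩ := exists_prime_subfield (F := F) p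
  have hn := Module.natCard_eq_pow_finrank (K := K₀) (V := F)
  rw [hK₀] at hn
  have hQ : Q ∣ p ^ Module.finrank K₀ F := by rw [← hn, ← h]; exact dvd_pow_self Q hr.ne'
  obtain ⟨a, -, rfl⟩ := (Nat.dvd_prime_pow (Fact.out : p.Prime)).1 hQ
  rw [← pow_mul, hn] at h
  have har := Nat.pow_right_injective (Fact.out : p.Prime).two_le h
  obtain ⟨K, -, hK⟩ := exists_intermediate p (K := K₀) (r := r) ⟨a, by rw [← har]; ring⟩
  rw [hK₀, ← har, Nat.mul_div_cancel _ hr] at hK
  exact ⟨K, hK, finrank_eq_of_card hK (by rw [← pow_mul, hn, har])⟩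

theorem orderOf_dvd_of_semisimple {g : PG} (hg1 : g ≠ 1) (hg : ¬ p ∣ orderOf g) :
    orderOf g ∣ Nat.card F + 1 ∨ orderOf g ∣ Nat.card F - 1 := by
  haveI := charP_ext2 (F := F) (p := p)
  have hPE : P1Like p PG PE := p1Like_ext
  have hgp : g ^ p ≠ 1 := fun e => hg (by
    rcases (Nat.dvd_prime (Fact.out : p.Prime)).1 (orderOf_dvd_of_pow_eq_one e) with h | h
    · exact absurd (orderOf_eq_one_iff.1 h) hg1
    · rw [h])
  obtain ⟨a, ha⟩ := exists_fix_ext (p := p) g
  obtain ⟨b, hba, hb⟩ := hPE.exists_other hgp ha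
  have hgood := goodPair_of_fixed hg1 hba.symm ha hb
  have h := (stabilizer PG a ⊓ stabilizer PG b).orderOf_dvd_natCard (x := g) ⟨ha, hb⟩
  rw [card_torus hgood, torusCard] at h
  split_ifs at h
  · exact .inr h
  · exact .inl h

theorem exists_nonrat : ∃ a b : PE, GoodPair a b ∧ ¬ IsRat a := by
  obtain ⟨a, ha⟩ : ∃ a : PE, ¬ IsRat a := by
    by_contra hall
    push Not at hall
    have := Nat.card_le_card_of_surjective _ (show Function.Surjective (embP (F := F) p) from hall)
    rw [card_pline_ext, card_proj_line, pow_two] at this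
    have h1 : 1 < Nat.card F := Finite.one_lt_card
    have := Nat.mul_le_mul_right (Nat.card F) h1
    omega
  obtain ⟨b, hb, hb', hst, -⟩ := exists_conj_point ha
  exact ⟨a, b, ⟨hb.symm, .inr ⟨ha, hb', hst⟩⟩, ha⟩

variable (p) in
include p in
theorem exists_orderOf_psl : ∃ g ∈ pslRange F, orderOf g = (Nat.card F + 1) / Nat.gcd 2 (Nat.card F - 1) := by
  haveI := charP_ext2 (F := F) (p := p)
  obtain ⟨a, b, hg, ha⟩ := exists_nonrat (F := F) (p := p)
  obtain ⟨r, w, hr, -, -, -, -, -, hro, -, -, -⟩ := torus_psl hg (fun h => absurd h ha)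
  exact ⟨r, hr, by rw [hro, torusCard, if_neg ha]⟩

variable (p) in
include p in
theorem exists_orderOf_pgl (plus : Bool) :
    ∃ g : PG, orderOf g = bif plus then Nat.card F + 1 else Nat.card F - 1 := by
  haveI := charP_ext2 (F := F) (p := p)
  obtain ⟨a, b, hg, hr⟩ : ∃ a b : PE, GoodPair a b ∧ (IsRat a ↔ plus = false) := by
    cases plus
    · obtain ⟨a, b, hg, hr⟩ := exists_goodPair (F := F) (p := p)
      exact ⟨a, b, hg, by simp [hr]⟩
    · obtain ⟨a, b, hg, hr⟩ := exists_nonrat (F := F) (p := p)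
      exact ⟨a, b, hg, by simp [hr]⟩
  haveI := (p1Like_ext (F := F) (p := p)).two_cyclic hg.1
  obtain ⟨z, hz⟩ := IsCyclic.exists_ofOrder_eq_natCard (α := ↥(stabilizer PG a ⊓ stabilizer PG b))
  refine ⟨z, ?_⟩
  rw [Subgroup.orderOf_coe, hz, card_torus hg, torusCard]
  cases plus <;> simp_all

/-- The map of a subfield group sends `PSL₂` into `PSL₂`. -/
theorem map_mem_psl (K : Subfield F) (k : PG) {x : Matrix.ProjGenLinGroup (Fin 2) K} (hx : x ∈ pslRange K) :
    k * ProjGenLinGroup.map K.subtype x * k⁻¹ ∈ pslRange F := by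
  induction x using Matrix.ProjGenLinGroup.induction_on with | mk g => ?_
  refine normal_pslRange.conj_mem _ ?_ k
  rw [ProjGenLinGroup.map_mk, mk_mem_pslRange_iff]
  obtain ⟨c, hc⟩ := (mk_mem_pslRange_iff g).1 hx
  refine ⟨K.subtype c, ?_⟩
  rw [← map_mul, ← hc]
  simp [Matrix.det_fin_two, GeneralLinearGroup.map]

theorem mem_subGroupK {K : Subfield F} {k : PG} (x : Matrix.ProjGenLinGroup (Fin 2) K) :
    k * ProjGenLinGroup.map K.subtype x * k⁻¹ ∈ subGroupK K k := ⟨x, rfl⟩

theorem orderOf_subGroupK {K : Subfield F} {k : PG} (x : Matrix.ProjGenLinGroup (Fin 2) K) :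
    orderOf (k * ProjGenLinGroup.map K.subtype x * k⁻¹) = orderOf x :=
  orderOf_injective ((MulAut.conj k).toMonoidHom.comp (ProjGenLinGroup.map K.subtype))
    ((MulAut.conj k).injective.comp (map_subtype_injective K.subtype)) x

theorem subGroupK_map_conj (K : Subfield F) (k g : PG) :
    (subGroupK K k).map (MulAut.conj g).toMonoidHom = subGroupK K (g * k) := by
  rw [subGroupK, subGroupK, MonoidHom.map_range]
  congr 1
  ext x
  simp [mul_assoc]

theorem subGroupK_mono {K K' : Subfield F} (h : K ≤ K') (k : PG) : subGroupK K k ≤ subGroupK K' k := by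
  rintro _ ⟨x, rfl⟩
  refine ⟨ProjGenLinGroup.map (Subfield.inclusion h) x, ?_⟩
  rw [MonoidHom.comp_apply, MonoidHom.comp_apply, ← MonoidHom.comp_apply (ProjGenLinGroup.map K'.subtype),
    ← ProjGenLinGroup.map_comp]
  rfl

end CfsgLib.PSL2
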