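import Cfsg.Agent.Lib.PSL2.Dickson

/-!
The geometry of `PGL₂(F)` inside `PGL₂` of the quadratic extension, and Dickson's cases with their
geometric data.
-/

set_option autoImplicit false
set_option linter.style.haveILetI false
set_option linter.unusedSectionVars false
set_option linter.unusedVariables false

namespace CfsgLib.PSL2

open Matrix MulAction CfsgLib.Classical
open scoped LinearAlgebra.Projectivization

variable {F : Type*} [Field F] [Finite F] {p : ℕ} [Fact p.Prime] [CharP F p]

local notation "PG" => Matrix.ProjGenLinGroup (Fin 2) F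
local notation "P1" => ℙ F (Fin 2 → F)
local notation "E2" => Ext2 F p
local notation "PE" => ℙ (Ext2 F p) (Fin 2 → Ext2 F p)

/-- The action on the projective line of the quadratic extension. -/
noncomputable instance extAction : MulAction PG PE :=
  MulAction.compHom _ (ProjGenLinGroup.map (algebraMap F E2))

theorem ext_smul_def (g : PG) (x : PE) : g • x = ProjGenLinGroup.map (algebraMap F E2) g • x := rfl

instance finite_pgl : Finite PG := Finite.of_surjective _ ProjGenLinGroup.mk_surjective

instance finite_pline : Finite P1 := Quotient.finite _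

instance finite_pline_ext : Finite PE := Quotient.finite _

theorem p1Like_ext : P1Like p PG PE := by
  haveI := charP_ext2 (F := F) (p := p)
  set φ := ProjGenLinGroup.map (n := Fin 2) (algebraMap F E2)
  have hφ : Function.Injective φ := map_subtype_injective _
  have hP0 : P1Like p (Matrix.ProjGenLinGroup (Fin 2) E2) PE := p1Like_pgl p
  have hone : ∀ {g : PG}, φ g = 1 → g = 1 := fun h => hφ (h.trans (map_one φ).symm)
  exact
    { sharp := fun h1 h2 h3 ha hb hc => hone (hP0.sharp h1 h2 h3 ha hb hc)
      unique_fix := fun hg hp ha hb => hP0.unique_fix (fun h => hg (hone h)) (by rw [← map_pow, hp, map_one]) ha hb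
      exists_other := fun hg ha => hP0.exists_other (fun h => hg (hone (by rw [map_pow]; exact h))) ha
      two_cyclic := fun {a b} hab => by
        haveI := hP0.two_cyclic hab
        let f : ↥(stabilizer PG a ⊓ stabilizer PG b) →*
            ↥(stabilizer (Matrix.ProjGenLinGroup (Fin 2) E2) a ⊓ stabilizer (Matrix.ProjGenLinGroup (Fin 2) E2) b) :=
          { toFun := fun g => ⟨φ g.1, g.2.1, g.2.2⟩
            map_one' := Subtype.ext (map_one φ)
            map_mul' := fun _ _ => Subtype.ext (map_mul φ _ _) }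
        exact isCyclic_of_injective f fun g h hgh => Subtype.ext (hφ (congrArg Subtype.val hgh :))
      swap_sq := fun hab h1 h2 => hone (by rw [map_mul]; exact hP0.swap_sq hab h1 h2)
      unip_mul := fun {g h a} hg hh ha hb => by
        obtain ⟨h1, h2⟩ := hP0.unip_mul (g := φ g) (h := φ h) (by rw [← map_pow, hg, map_one])
          (by rw [← map_pow, hh, map_one]) ha hb
        exact ⟨hone (by rw [map_pow, map_mul, h1]), hφ (by rw [map_mul, map_mul, h2])⟩
      comm_unip := fun {g h a} ha hb => hone (by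
        rw [map_pow, map_mul, map_mul, map_mul, map_inv, map_inv]; exact hP0.comm_unip ha hb) }

theorem exists_fix_ext (g : PG) : ∃ a : PE, g • a = a :=
  exists_fix_of_finrank_two (FiniteField.finrank_extension F p 2) g

variable (p)

/-- A rational point. -/
noncomputable def embP (x : P1) : PE :=
  Projectivization.map (σ := algebraMap F E2)
    { toFun := fun v i => algebraMap F E2 (v i)
      map_add' := fun v w => funext fun i => map_add (algebraMap F E2) _ _
      map_smul' := fun c v => funext fun i => map_mul (algebraMap F E2) _ _ }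
    (fun v w h => funext fun i => (algebraMap F E2).injective (congrFun h i)) x

theorem embP_mk (v : Fin 2 → F) (hv : v ≠ 0) :
    embP p (Projectivization.mk F v hv) = Projectivization.mk E2 (fun i => algebraMap F E2 (v i))
      (fun h => hv (funext fun i => (map_eq_zero (algebraMap F E2)).1 (congrFun h i))) := rfl

theorem embP_smul (g : PG) (x : P1) : embP p (g • x) = g • embP p x := by
  induction g using Matrix.ProjGenLinGroup.induction_on with | mk g => ?_
  induction x using Projectivization.ind with | _ v hv => ?_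
  rw [gl_smul_mk, embP_mk, embP_mk, ext_smul_def, ProjGenLinGroup.map_mk, gl_smul_mk,
    Projectivization.mk_eq_mk_iff']
  refine ⟨1, ?_⟩
  ext i
  fin_cases i <;> simp [mulVec, dotProduct, Fin.sum_univ_two]

theorem embP_injective : Function.Injective (embP (F := F) p) := by
  intro x y h
  induction x using Projectivization.ind with | _ v hv => ?_
  induction y using Projectivization.ind with | _ w hw => ?_
  rw [embP_mk, embP_mk, Projectivization.mk_eq_mk_iff'] at h
  obtain ⟨c, hc⟩ := h
  obtain ⟨j, hj⟩ := Function.ne_iff.1 hw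
  rw [Projectivization.mk_eq_mk_iff']
  refine ⟨v j / w j, funext fun i => (algebraMap F E2).injective ?_⟩
  have hcj : c * algebraMap F E2 (w j) = algebraMap F E2 (v j) := congrFun hc j
  have hci : c * algebraMap F E2 (w i) = algebraMap F E2 (v i) := congrFun hc i
  have hwj : algebraMap F E2 (w j) ≠ 0 := (map_ne_zero (algebraMap F E2)).2 hj
  rw [Pi.smul_apply, smul_eq_mul, map_mul, map_div₀, ← hci, ← hcj, mul_div_cancel_right₀ _ hwj]

/-- The setwise stabiliser of a pair of points. -/
def pairStab {G X : Type*} [Group G] [MulAction G X] (a b : X) : Subgroup G where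
  carrier := {g | (g • a = a ∧ g • b = b) ∨ (g • a = b ∧ g • b = a)}
  one_mem' := .inl ⟨one_smul _ _, one_smul _ _⟩
  mul_mem' := by
    rintro g h (⟨g1, g2⟩ | ⟨g1, g2⟩) (⟨h1, h2⟩ | ⟨h1, h2⟩) <;>
      [left; right; right; left] <;> simp [mul_smul, h1, h2, g1, g2]
  inv_mem' := by
    rintro g (⟨g1, g2⟩ | ⟨g1, g2⟩)
    · exact .inl ⟨by rw [inv_smul_eq_iff, g1], by rw [inv_smul_eq_iff, g2]⟩
    · exact .inr ⟨by rw [inv_smul_eq_iff, g2], by rw [inv_smul_eq_iff, g1]⟩

/-- Dickson's cases with geometric data. -/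
inductive GeoCase (H : Subgroup PG) : Prop
  | borel (x : P1) (hx : ∀ h ∈ H, h • x = x) (hp : p ∣ Nat.card H) : GeoCase H
  | pair (a b : PE) (hab : a ≠ b) (hle : H ≤ pairStab a b)
      (hgen : (∃ g ∈ H, g ≠ 1 ∧ g • a = a ∧ g • b = b) ∨ H = ⊥) : GeoCase H
  | tetra (hp : ¬ p ∣ Nat.card H) (iso : Nonempty (H ≃* alternatingGroup (Fin 4))) : GeoCase H
  | octa (hp : ¬ p ∣ Nat.card H) (iso : Nonempty (H ≃* Equiv.Perm (Fin 4))) : GeoCase H
  | icosa (hp : ¬ p ∣ Nat.card H ∨ p = 3) (iso : Nonempty (H ≃* alternatingGroup (Fin 5))) : GeoCase H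
  | subfield (K : Subfield F) (k : PG)
      (hle : H ≤ ((MulAut.conj k).toMonoidHom.comp (ProjGenLinGroup.map K.subtype)).range)
      (hcard : Nat.card H = Nat.card (Matrix.ProjGenLinGroup (Fin 2) K) ∨
        (Odd (Nat.card K) ∧ 2 * Nat.card H = Nat.card (Matrix.ProjGenLinGroup (Fin 2) K))) : GeoCase H

theorem exists_pair : ∃ a b : PE, a ≠ b :=
  ⟨pInf E2, (exists_third (pInf E2) (pInf E2)).choose, (exists_third (pInf E2) (pInf E2)).choose_spec.1⟩

theorem card_pgl_two {K : Type*} [Field K] [Finite K] {Q : ℕ} (hK : Nat.card K = Q) :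
    Nat.card (Matrix.ProjGenLinGroup (Fin 2) K) = (Q + 1) * (Q * (Q - 1)) := by
  rw [card_PGL_eq_card_SL, card_SL_two, hK]
  have : 1 < Q := hK ▸ Finite.one_lt_card
  obtain ⟨j, rfl⟩ : ∃ j, Q = j + 1 := ⟨Q - 1, by omega⟩
  have : (j + 1) ^ 2 - 1 = (j + 1 + 1) * j := by
    rw [Nat.sub_eq_iff_eq_add (Nat.one_le_pow _ _ (by omega))]; ring
  rw [this, Nat.add_sub_cancel]; ring

/-- A group fixed by an element of order `p` has a rational fixed point for it. -/
theorem exists_rational_fix {u : PG} (hu : u ^ p = 1) : ∃ x : P1, u • x = x := by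
  classical
  have hpg : IsPGroup p (Subgroup.zpowers u) := by
    intro z
    obtain ⟨z, n, rfl⟩ := z
    refine ⟨1, Subtype.ext ?_⟩
    rw [pow_one, SubgroupClass.coe_pow, OneMemClass.coe_one]
    show (u ^ n) ^ p = 1
    rw [← zpow_natCast, ← _root_.zpow_mul, mul_comm, _root_.zpow_mul, zpow_natCast, hu, _root_.one_zpow]
  have hnd : ¬ p ∣ Nat.card P1 := by
    rw [card_proj_line]
    intro h
    obtain ⟨k, hk0, hk⟩ := card_eq_charPow (F := F) (p := p)
    exact (Fact.out : p.Prime).not_dvd_one ((Nat.dvd_add_right (dvd_pow_self p hk0.ne')).1 (hk ▸ h))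
  obtain ⟨x, hx⟩ := hpg.nonempty_fixed_point_of_prime_not_dvd_card (α := P1) hnd
  exact ⟨x, hx ⟨u, Subgroup.mem_zpowers u⟩⟩

/-- Dickson's theorem in geometric form. -/
theorem geoCase (H : Subgroup PG) : GeoCase p H := by
  classical
  haveI := charP_ext2 (F := F) (p := p)
  have hPE : P1Like p PG PE := p1Like_ext
  have hPH := hPE.subgroup H
  have hfix : ∀ g : H, ∃ a : PE, g • a = a := fun g => exists_fix_ext (g : PG)
  cases p1Case hPH hfix with
  | borel a hp ha =>
    obtain ⟨g₀, hg₀⟩ := exists_prime_orderOf_dvd_card' p hp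
    have h1 : (g₀ : PG) ≠ 1 := fun h => (Fact.out : p.Prime).ne_one (by
      rw [← hg₀, show g₀ = 1 from Subtype.ext h, orderOf_one])
    have hgp : (g₀ : PG) ^ p = 1 := by
      rw [← SubgroupClass.coe_pow, ← hg₀, pow_orderOf_eq_one, OneMemClass.coe_one]
    obtain ⟨x, hx⟩ := exists_rational_fix p hgp
    have hax : a = embP p x := hPE.unique_fix h1 hgp (ha g₀) (by rw [← embP_smul, hx])
    exact .borel x (fun h hh => embP_injective p (by rw [embP_smul, ← hax]; exact ha ⟨h, hh⟩)) hp
  | cyclic hp a b hab ha hb =>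
    refine .pair a b hab (fun g hg => .inl ⟨ha ⟨g, hg⟩, hb ⟨g, hg⟩⟩) ?_
    by_cases h : H = ⊥
    · exact .inr h
    · obtain ⟨g, hg, hg1⟩ := (H.bot_or_exists_ne_one).resolve_left h
      exact .inl ⟨g, hg, hg1, ha ⟨g, hg⟩, hb ⟨g, hg⟩⟩
  | trivial hG =>
    obtain ⟨a, b, hab⟩ := exists_pair (F := F) p
    refine .pair a b hab ?_ (.inr (Subgroup.eq_bot_of_card_eq H hG))
    rw [Subgroup.eq_bot_of_card_eq H hG]
    exact bot_le
  | dihedral a b hab horb hk hp =>
    refine .pair a b hab (fun g hg => ?_) ?_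
    swap
    · obtain ⟨w, hw⟩ : b ∈ orbit H a := by simp [horb]
      obtain ⟨r, hr⟩ : ∃ r : stabilizer H a, r ≠ 1 := by
        haveI : Nontrivial (stabilizer H a) := Finite.one_lt_card_iff_nontrivial.1 (by omega)
        exact exists_ne 1
      refine .inl ⟨(r : H), (r : H).2, fun h => hr (Subtype.ext (Subtype.ext h)), r.2, ?_⟩
      have hrb : (r : H) • b ∈ ({a, b} : Set PE) := horb ▸ mem_orbit_of_mem_orbit (r : H) ⟨w, hw⟩
      simp only [Set.mem_insert_iff, Set.mem_singleton_iff] at hrb
      rcases hrb with h | h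
      · exact absurd (smul_left_cancel (r : H) (h.trans (mem_stabilizer_iff.1 r.2).symm)) hab.symm
      · exact h
    have ha : g • a ∈ ({a, b} : Set PE) := horb ▸ mem_orbit a (⟨g, hg⟩ : H)
    have hb : g • b ∈ ({a, b} : Set PE) :=
      horb ▸ mem_orbit_of_mem_orbit (⟨g, hg⟩ : H) (show b ∈ orbit H a by simp [horb])
    simp only [Set.mem_insert_iff, Set.mem_singleton_iff] at ha hb
    rcases ha with ha | ha <;> rcases hb with hb | hb
    · exact absurd (smul_left_cancel g (ha.trans hb.symm)) hab
    · exact .inl ⟨ha, hb⟩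
    · exact .inr ⟨ha, hb⟩
    · exact absurd (smul_left_cancel g (ha.trans hb.symm)) hab
  | tetra hp a hN ho => exact .tetra hp (tetra_equiv hPH hN ho)
  | octa hp a hN ho hu hall => exact .octa hp (octa_equiv hPH hp hN ho hu hall)
  | icosa hp a hN ho => exact .icosa hp (icosa_equiv hPH hp hN ho)
  | subfield hP' a Q e hQ h2 he hS ho =>
    obtain ⟨u, hu1⟩ : ∃ u : unipAt hP' a, u ≠ 1 := by
      haveI : Nontrivial (unipAt hP' a) := Finite.one_lt_card_iff_nontrivial.1 (by omega)
      exact exists_ne 1
    have hu1' : ((u : H) : PG) ≠ 1 := fun h => hu1 (Subtype.ext (Subtype.ext h))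
    have hup : ((u : H) : PG) ^ p = 1 := by
      rw [← SubgroupClass.coe_pow, u.2.2, OneMemClass.coe_one]
    obtain ⟨x, hx⟩ := exists_rational_fix p hup
    have hax : a = embP p x := hPE.unique_fix hu1' hup u.2.1 (by rw [← embP_smul, hx])
    have hPF : P1Like p PG P1 := p1Like_pgl p
    have hPHF := hPF.subgroup H
    have hact : ∀ (h : H) (y : P1), embP p (h • y) = h • embP p y := fun h y => embP_smul p (h : PG) y
    have hS' : Nat.card (stabilizer H x) = Q * e := by
      rw [← hS]
      refine Nat.card_congr (Equiv.subtypeEquivRight fun h => ?_)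
      show h • x = x ↔ h • a = a
      rw [hax, ← hact, (embP_injective p).eq_iff]
    have hQ' : Nat.card (unipAt hPHF x) = Q := by
      rw [← hQ]
      refine Nat.card_congr (Equiv.subtypeEquivRight fun h => ?_)
      show (h • x = x ∧ h ^ p = 1) ↔ (h • a = a ∧ h ^ p = 1)
      rw [hax, ← hact, (embP_injective p).eq_iff]
    have ho' : Nat.card (orbit H x) = Q + 1 := by
      rw [← ho, Nat.card_coe_set_eq, Nat.card_coe_set_eq, ← Set.ncard_image_of_injective _ (embP_injective p)]
      congr 1
      ext y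
      constructor
      · rintro ⟨_, ⟨h, rfl⟩, rfl⟩
        exact ⟨h, by show h • a = _; rw [hax]; exact (hact h x).symm⟩
      · rintro ⟨h, rfl⟩
        exact ⟨h • x, mem_orbit x h, by show embP p (h • x) = h • a; rw [hax, hact]⟩
    obtain ⟨K, κ, k, hK, hκ, hmem, hle⟩ := subfield_case p hPF H hPHF hQ' h2 he hS' ho'
    refine .subfield K k hle ?_
    have hH : Nat.card H = (Q + 1) * (Q * e) := by rw [← card_orbit_mul (G := H) a, hS, ho]
    rcases he with rfl | he'
    · exact .inl (by rw [hH, card_pgl_two hK])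
    · exact .inr ⟨by rw [hK]; exact ⟨e, by omega⟩, by rw [hH, card_pgl_two hK, ← he']; ring⟩

end CfsgLib.PSL2
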