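import Cfsg.Agent.Lib.PSL2.Cases
import Cfsg.Agent.Lib.Classical.Dihedral
import Cfsg.Agent.Lib.Recog.OrderSixty
import Cfsg.Agent.Lib.Small.Order60

/-!
The isomorphism types behind the orbit cases.
-/

set_option autoImplicit false
set_option linter.style.haveILetI false
set_option linter.unusedSectionVars false

namespace CfsgLib.PSL2

open MulAction

variable {p : ℕ} {G X : Type*} [Group G] [MulAction G X] [Finite G] [Finite X] [Fact p.Prime]

theorem isCyclic_of_two (hP : P1Like p G X) {a b : X} (hab : a ≠ b) (ha : ∀ g : G, g • a = a)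
    (hb : ∀ g : G, g • b = b) : IsCyclic G := by
  haveI := hP.two_cyclic hab
  refine isCyclic_of_surjective (Subgroup.subtype (stabilizer G a ⊓ stabilizer G b)) fun g => ?_
  exact ⟨⟨g, ha g, hb g⟩, rfl⟩

/-- The stabiliser of a point in an invariant pair is cyclic, and the rest inverts it. -/
theorem dihedral_of_pair (hP : P1Like p G X) {a b : X} (hab : a ≠ b) (horb : orbit G a = {a, b})
    (hk : 2 ≤ Nat.card (stabilizer G a)) :
    ∃ r : G, orderOf r = Nat.card (stabilizer G a) ∧
      Nat.card G = 2 * orderOf r ∧ Nonempty (G ≃* DihedralGroup (orderOf r)) := by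
  have hinv : ∀ g : G, g • a = a ∨ g • a = b := fun g => by
    simpa [horb] using (mem_orbit a g)
  have hS : stabilizer G a = stabilizer G a ⊓ stabilizer G b := by
    refine le_antisymm (fun g hg => ⟨hg, ?_⟩) inf_le_left
    obtain ⟨w, hw⟩ : b ∈ orbit G a := by simp [horb]
    rcases hinv (g * w) with h | h <;> rw [mul_smul, show w • a = b from hw] at h
    · exact absurd (smul_left_cancel g (h.trans (mem_stabilizer_iff.1 hg).symm)) hab.symm
    · exact h
  haveI : IsCyclic (stabilizer G a) := hS.symm ▸ hP.two_cyclic hab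
  obtain ⟨⟨r, hr⟩, hro⟩ := IsCyclic.exists_ofOrder_eq_natCard (α := stabilizer G a)
  rw [Subgroup.orderOf_mk] at hro
  have hcard : Nat.card G = 2 * orderOf r := by
    rw [hro, ← card_orbit_mul (G := G) a, horb, Nat.card_coe_set_eq, Set.ncard_pair hab]
  obtain ⟨w, hw⟩ : b ∈ orbit G a := by simp [horb]
  have hwb : w • b = a := by
    rcases hinv (w * w) with h | h <;> rw [mul_smul, show w • a = b from hw] at h
    · exact h
    · exact absurd (smul_left_cancel w (h.trans hw.symm)) hab.symm
  have hrb : r • b = b := (show r ∈ stabilizer G a ⊓ stabilizer G b from hS ▸ hr).2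
  refine ⟨r, hro, hcard, CfsgLib.Classical.nonempty_mulEquiv_dihedralGroup (x := r) (s := w)
    (by omega) rfl (hP.swap_sq hab hw hwb) ?_ ?_ hcard⟩
  · have hww := hP.swap_sq hab hw hwb
    have h := hP.swap_sq (g := w * r) hab (by rw [mul_smul, mem_stabilizer_iff.1 hr]; exact hw)
      (by rw [mul_smul, hrb]; exact hwb)
    calc w * r * w⁻¹ = w * r * (w * r) * (r⁻¹ * (w⁻¹ * w⁻¹)) := by group
      _ = r⁻¹ := by rw [h, ← mul_inv_rev, hww, inv_one, one_mul, mul_one]
  · intro hwr
    have : w ∈ stabilizer G a := Subgroup.zpowers_le.2 hr hwr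
    exact hab (by rw [← hw]; exact (mem_stabilizer_iff.1 this).symm)

/-- A transitive faithful group of order 12 on four points. -/
theorem tetra_equiv (hP : P1Like p G X) {a : X} (hN : Nat.card G = 12) (ho : Nat.card (orbit G a) = 4) :
    Nonempty (G ≃* alternatingGroup (Fin 4)) := by
  classical
  haveI := Fintype.ofFinite (orbit G a)
  have hinj : Function.Injective (toPermHom G (orbit G a)) := by
    rw [injective_iff_map_eq_one]
    intro g hg
    have hf : ∀ x : orbit G a, g • (x : X) = x := fun x => congrArg Subtype.val (Equiv.ext_iff.1 hg x)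
    rw [Nat.card_eq_fintype_card] at ho
    obtain ⟨x, y, z, hxy, hxz, hyz⟩ := Fintype.two_lt_card_iff.1 (show 2 < Fintype.card (orbit G a) by omega)
    exact hP.sharp (fun h => hxy (Subtype.ext h)) (fun h => hxz (Subtype.ext h))
      (fun h => hyz (Subtype.ext h)) (hf x) (hf y) (hf z)
  let e : orbit G a ≃ Fin 4 := Finite.equivFinOfCardEq ho
  let φ : G →* Equiv.Perm (Fin 4) := e.permCongrHom.toMonoidHom.comp (toPermHom G (orbit G a))
  have hφ : Function.Injective φ := e.permCongrHom.injective.comp hinj
  have hr : Nat.card φ.range = 12 := by rw [← Nat.card_congr (MonoidHom.ofInjective hφ).toEquiv, hN]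
  have hidx : φ.range.index = 2 := by
    have h := φ.range.card_mul_index
    rw [hr, Nat.card_perm, Nat.card_fin] at h
    norm_num [Nat.factorial] at h
    omega
  exact ⟨(MonoidHom.ofInjective hφ).trans
    (MulEquiv.subgroupCongr (Equiv.Perm.eq_alternatingGroup_of_index_eq_two hidx))⟩

/-- The octahedral group. -/
theorem octa_equiv (hP : P1Like p G X) (hp : ¬ p ∣ Nat.card G) {a : X} (hN : Nat.card G = 24)
    (ho : Nat.card (orbit G a) = 8) (huniq : ∀ b : X, Nat.card (stabilizer G b) = 3 → b ∈ orbit G a)
    (hall : ∀ b : X, Nat.card (stabilizer G b) ∈ ({1, 2, 3, 4} : Finset ℕ)) :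
    Nonempty (G ≃* Equiv.Perm (Fin 4)) := by
  classical
  haveI : Fact (Nat.Prime 3) := ⟨Nat.prime_three⟩
  have hs : ∀ x ∈ orbit G a, Nat.card (stabilizer G x) = 3 := by
    rintro _ ⟨g, rfl⟩
    show Nat.card (stabilizer G (g • a)) = 3
    have h := card_orbit_mul (G := G) (g • a)
    rw [orbit_smul, ho, hN] at h
    omega
  have hfac : (Nat.card G).factorization 3 = 1 := by
    rw [hN, show (24 : ℕ) = 3 * 8 from rfl, Nat.factorization_mul (by norm_num) (by norm_num),
      Finsupp.add_apply, Nat.Prime.factorization_self Nat.prime_three,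
      Nat.factorization_eq_zero_of_not_dvd (by norm_num), add_zero]
  have hgen : ∀ x ∈ orbit G a, ∃ r : G, orderOf r = 3 ∧ r • x = x ∧ stabilizer G x = Subgroup.zpowers r := by
    intro x hx
    obtain ⟨r, hr⟩ := exists_prime_orderOf_dvd_card' (G := stabilizer G x) 3 (by rw [hs x hx])
    have hr' : orderOf (r : G) = 3 := by rw [Subgroup.orderOf_coe, hr]
    refine ⟨r, hr', r.2, (Subgroup.eq_of_le_of_card_ge (Subgroup.zpowers_le.2 r.2) ?_).symm⟩
    rw [Nat.card_zpowers, hr', hs x hx]
  -- the two fixed points of a subgroup of order three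
  have hpartner : ∀ x ∈ orbit G a, ∃ y ∈ orbit G a, y ≠ x ∧ stabilizer G y = stabilizer G x ∧
      ∀ z, (∀ h ∈ stabilizer G x, h • z = z) → z = x ∨ z = y := by
    intro x hx
    obtain ⟨r, hr, hrx, hrS⟩ := hgen x hx
    have hr1 : r ≠ 1 := fun h => by rw [h, orderOf_one] at hr; omega
    obtain ⟨y, hyx, hry⟩ := hP.exists_other (fun h => hp ((orderOf_eq_prime h hr1) ▸ orderOf_dvd_natCard r)) hrx
    have hle : stabilizer G x ≤ stabilizer G y := hrS ▸ Subgroup.zpowers_le.2 hry
    have hd : 3 ∣ Nat.card (stabilizer G y) := hs x hx ▸ Subgroup.card_dvd_of_le hle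
    have h3 : Nat.card (stabilizer G y) = 3 := by
      have h := hall y
      simp only [Finset.mem_insert, Finset.mem_singleton] at h
      omega
    refine ⟨y, huniq y h3, hyx, (Subgroup.eq_of_le_of_card_ge hle (by rw [h3, hs x hx])).symm, fun z hz => ?_⟩
    by_contra h
    push Not at h
    exact hr1 (hP.sharp hyx.symm h.1.symm h.2.symm hrx hry (hz r (hrS ▸ Subgroup.mem_zpowers r)))
  -- the Sylow 3-subgroups
  have hsyl : ∀ x ∈ orbit G a, ∃ P : Sylow 3 G, (P : Subgroup G) = stabilizer G x := fun x hx =>
    ⟨Sylow.ofCard (stabilizer G x) ((hs x hx).trans (by rw [hfac, pow_one])), rfl⟩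
  have hcount : Nat.card (Sylow 3 G) = 4 := by
    obtain ⟨P, hPa⟩ := hsyl a (mem_orbit_self a)
    obtain ⟨y, hy, hya, hSy, hfix⟩ := hpartner a (mem_orbit_self a)
    obtain ⟨w, hw⟩ := hy
    have hnorm : Subgroup.normalizer ((P : Subgroup G) : Set G) =
        (stabilizer G a) ⊔ Subgroup.zpowers w := by
      refine le_antisymm (fun g hg => ?_) (sup_le (hPa ▸ Subgroup.le_normalizer) (Subgroup.zpowers_le.2 ?_))
      · have hmv : ∀ h ∈ stabilizer G a, h • (g • a) = g • a := fun h hh => by
          have h1 : g⁻¹ * h * g ∈ stabilizer G a := by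
            rw [← hPa] at hh ⊢
            exact (Subgroup.mem_normalizer_iff''.1 hg h).1 hh
          rw [mem_stabilizer_iff, mul_smul, mul_smul, inv_smul_eq_iff] at h1
          exact h1
        rcases hfix (g • a) hmv with h | h
        · exact Subgroup.mem_sup_left h
        · have h1 : w⁻¹ * g ∈ stabilizer G a := by
            rw [mem_stabilizer_iff, mul_smul, h, inv_smul_eq_iff]
            first | done | exact hw.symm
          have := Subgroup.mul_mem _ (Subgroup.mem_sup_right (S := stabilizer G a) (Subgroup.mem_zpowers w))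
            (Subgroup.mem_sup_left (T := Subgroup.zpowers w) h1)
          rwa [mul_inv_cancel_left] at this
      · have h1 : stabilizer G y = (stabilizer G a).map (MulAut.conj w).toMonoidHom := by
          rw [← hw]; exact stabilizer_smul_eq_stabilizer_map_conj w a
        rw [hSy] at h1
        rw [hPa, Subgroup.mem_normalizer_iff]
        intro h
        constructor
        · intro hh
          rw [h1]
          exact ⟨h, hh, rfl⟩
        · intro hh
          rw [h1] at hh
          obtain ⟨k, hk, hke⟩ := hh
          rw [MulEquiv.coe_toMonoidHom, MulAut.conj_apply, mul_left_inj, mul_right_inj] at hke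
          exact hke ▸ hk
    have hidx : (Subgroup.normalizer ((P : Subgroup G) : Set G)).index = 4 := by
      have h2 := (Subgroup.normalizer ((P : Subgroup G) : Set G)).card_mul_index
      have hc : Nat.card (Subgroup.normalizer ((P : Subgroup G) : Set G)) = 6 := by
        have hle : stabilizer G a ≤ Subgroup.normalizer ((P : Subgroup G) : Set G) := hnorm ▸ le_sup_left
        have hd := Subgroup.card_dvd_of_le hle
        rw [hs a (mem_orbit_self a)] at hd
        haveI := Fintype.ofFinite G
        let T : Finset G := Finset.univ.filter fun g => g ∈ Subgroup.normalizer ((P : Subgroup G) : Set G)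
        have hTc : Nat.card (Subgroup.normalizer ((P : Subgroup G) : Set G)) = T.card := by
          rw [Nat.card_eq_fintype_card]; exact Fintype.card_subtype _
        have hup : T.card ≤ 3 * 2 := by
          refine (Finset.card_le_mul_card_image (f := fun g => g • a) T 3 fun z hz => ?_).trans
            (Nat.mul_le_mul_left _ ((Finset.card_le_card (t := {a, y}) ?_).trans Finset.card_le_two))
          · simp only [Finset.mem_image] at hz
            obtain ⟨g, -, rfl⟩ := hz
            rw [← hs a (mem_orbit_self a), Nat.card_eq_fintype_card, Fintype.card_subtype]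
            refine Finset.card_le_card_of_injOn (fun x => g⁻¹ * x) (fun x hx => ?_) (fun x _ y _ h => mul_left_cancel h)
            simp only [Finset.coe_filter, Finset.mem_univ, true_and, Set.mem_ofPred_eq,
              Finset.mem_filter] at hx ⊢
            rw [mem_stabilizer_iff, mul_smul, hx.2, inv_smul_smul]
          · intro z hz
            simp only [T, Finset.mem_image, Finset.mem_filter, Finset.mem_univ, true_and] at hz
            obtain ⟨g, hg, rfl⟩ := hz
            have := hfix (g • a) (fun h hh => by
              have h1 : g⁻¹ * h * g ∈ stabilizer G a := by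
                rw [← hPa] at hh ⊢
                exact (Subgroup.mem_normalizer_iff''.1 hg h).1 hh
              rw [mem_stabilizer_iff, mul_smul, mul_smul, inv_smul_eq_iff] at h1
              exact h1)
            simpa using this
        have hwN : w ∈ Subgroup.normalizer ((P : Subgroup G) : Set G) :=
          hnorm ▸ Subgroup.mem_sup_right (Subgroup.mem_zpowers w)
        have hne : Nat.card (Subgroup.normalizer ((P : Subgroup G) : Set G)) ≠ 3 := fun h3 => by
          have := Subgroup.eq_of_le_of_card_ge hle (by rw [h3, hs a (mem_orbit_self a)])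
          rw [← this, mem_stabilizer_iff] at hwN
          exact hya (hw.symm.trans hwN)
        have := Nat.card_pos (α := Subgroup.normalizer ((P : Subgroup G) : Set G))
        omega
      rw [hc, hN] at h2
      omega
    exact (Sylow.card_eq_index_normalizer P).trans hidx
  let e : Sylow 3 G ≃ Fin 4 := Finite.equivFinOfCardEq hcount
  let φ : G →* Equiv.Perm (Fin 4) := e.permCongrHom.toMonoidHom.comp (toPermHom G (Sylow 3 G))
  have hker : ∀ g : G, φ g = 1 → ∀ x ∈ orbit G a, ∀ y, stabilizer G y = stabilizer G x → y ≠ x →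
      (∀ z, (∀ h ∈ stabilizer G x, h • z = z) → z = x ∨ z = y) → g • x = x ∨ g • x = y := by
    intro g hg x hx y _ _ hfix
    have hg' : toPermHom G (Sylow 3 G) g = 1 := e.permCongrHom.injective (hg.trans (map_one _).symm)
    obtain ⟨P, hPx⟩ := hsyl x hx
    have h1 : g • P = P := Equiv.ext_iff.1 hg' P
    have h2 : g ∈ Subgroup.normalizer ((P : Subgroup G) : Set G) := Sylow.smul_eq_iff_mem_normalizer.1 h1
    refine hfix _ fun h hh => ?_
    have h3 : g⁻¹ * h * g ∈ stabilizer G x := by
      rw [← hPx] at hh ⊢
      exact (Subgroup.mem_normalizer_iff''.1 h2 h).1 hh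
    rw [mem_stabilizer_iff, mul_smul, mul_smul, inv_smul_eq_iff] at h3
    exact h3
  -- every kernel element exchanges the two points of each pair
  have hswap : ∀ g : G, φ g = 1 → g ≠ 1 → ∀ x ∈ orbit G a, ∀ y, stabilizer G y = stabilizer G x → y ≠ x →
      (∀ z, (∀ h ∈ stabilizer G x, h • z = z) → z = x ∨ z = y) → g • x = y := by
    intro g hg hg1 x hx y hSy hyx hfix
    refine (hker g hg x hx y hSy hyx hfix).resolve_left fun hgx => ?_
    obtain ⟨r, hr, hrx, hrS⟩ := hgen x hx
    have hg3 : orderOf g = 3 := by
      have hgx' : g ∈ stabilizer G x := hgx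
      rw [hrS] at hgx'
      exact ((Nat.dvd_prime Nat.prime_three).1 (hr ▸ orderOf_dvd_of_mem_zpowers hgx')).resolve_left
        (fun h => hg1 (orderOf_eq_one_iff.1 h))
    have hgy : g • y = y := by
      have : g ∈ stabilizer G y := hSy ▸ hgx
      exact this
    obtain ⟨x', hx', hne⟩ : ∃ x' ∈ orbit G a, x' ∉ ({x, y} : Finset X) := by
      by_contra h
      push Not at h
      have h8 : (orbit G a).ncard ≤ 2 := (Set.ncard_le_ncard (t := (({x, y} : Finset X) : Set X))
        (fun z hz => h z hz)).trans ((Set.ncard_coe_finset _).trans_le Finset.card_le_two)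
      rw [← Nat.card_coe_set_eq, ho] at h8
      omega
    simp only [Finset.mem_insert, Finset.mem_singleton, not_or] at hne
    obtain ⟨y', -, hy'x', hSy', hfix'⟩ := hpartner x' hx'
    rcases hker g hg x' hx' y' hSy' hy'x' hfix' with h | h
    · exact hg1 (hP.sharp hyx.symm (Ne.symm hne.1) (Ne.symm hne.2) hgx hgy h)
    · have hgy' : g • y' = x' := by
        rcases hker g hg y' (by rw [← h]; exact mem_orbit_of_mem_orbit g hx') x' hSy'.symm hy'x'.symm
          (fun z hz => (hfix' z (hSy' ▸ hz)).symm) with h' | h'
        · exact absurd (smul_left_cancel g (h'.trans h.symm)) hy'x'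
        · exact h'
      have hg2 : g ^ 2 = 1 := hP.sharp hyx.symm (Ne.symm hne.1) (Ne.symm hne.2)
        (by rw [pow_two, mul_smul, hgx, hgx]) (by rw [pow_two, mul_smul, hgy, hgy])
        (by rw [pow_two, mul_smul, h, hgy'])
      have := orderOf_dvd_of_pow_eq_one hg2
      rw [hg3] at this
      omega
  have hinj : Function.Injective φ := by
    rw [injective_iff_map_eq_one]
    intro g hg
    by_contra hg1
    obtain ⟨y, hy, hya, hSy, hfix⟩ := hpartner a (mem_orbit_self a)
    obtain ⟨r, hr, hra, hrS⟩ := hgen a (mem_orbit_self a)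
    have hr1 : r ≠ 1 := fun h => by rw [h, orderOf_one] at hr; omega
    have hcommr : g * r = r * g := by
      have hk : φ (r * g * r⁻¹) = 1 := by rw [map_mul, map_mul, hg, mul_one, ← map_mul, mul_inv_cancel, map_one]
      have hk1 : r * g * r⁻¹ ≠ 1 := fun h => hg1 (conj_eq_one_iff.1 h)
      have hprod : ∀ x ∈ orbit G a, ((r * g * r⁻¹)⁻¹ * g) • x = x := by
        intro x hx
        obtain ⟨x2, hx2, hne2, hS2, hf2⟩ := hpartner x hx
        rw [mul_smul, hswap g hg hg1 x hx x2 hS2 hne2 hf2, inv_smul_eq_iff,
          hswap _ hk hk1 x hx x2 hS2 hne2 hf2]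
      haveI := Fintype.ofFinite (orbit G a)
      rw [Nat.card_eq_fintype_card] at ho
      obtain ⟨x, x', x'', h1, h2, h3⟩ := Fintype.two_lt_card_iff.1 (show 2 < Fintype.card (orbit G a) by omega)
      have := hP.sharp (fun h => h1 (Subtype.ext h)) (fun h => h2 (Subtype.ext h))
        (fun h => h3 (Subtype.ext h)) (hprod x x.2) (hprod x' x'.2) (hprod x'' x''.2)
      rw [inv_mul_eq_one] at this
      calc g * r = (r * g * r⁻¹) * r := by rw [this]
        _ = r * g := by group
    have hga := hswap g hg hg1 a (mem_orbit_self a) y hSy hya hfix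
    have hgy : g • y = a := hswap g hg hg1 y hy a hSy.symm hya.symm (fun z hz => (hfix z (hSy ▸ hz)).symm)
    have h1 := hP.swap_sq hya.symm hga hgy
    have hry : r • y = y := by
      have : r ∈ stabilizer G y := hSy ▸ (hra : r ∈ stabilizer G a)
      exact this
    have h2 := hP.swap_sq (g := g * r) hya.symm (by rw [mul_smul, hra, hga]) (by rw [mul_smul, hry, hgy])
    have h3 : r ^ 2 = 1 := by
      have h4 : g * r * (g * r) = g * g * r * r := by
        calc g * r * (g * r) = g * (r * g) * r := by group
          _ = g * (g * r) * r := by rw [← hcommr]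
          _ = g * g * r * r := by group
      rw [h4, h1, one_mul] at h2
      rw [pow_two, h2]
    have := orderOf_dvd_of_pow_eq_one h3
    rw [hr] at this
    omega
  exact ⟨MulEquiv.ofBijective φ ((Nat.bijective_iff_injective_and_card φ).2
    ⟨hinj, by rw [hN, Nat.card_perm, Nat.card_fin]; rfl⟩)⟩

/-- The icosahedral group. -/
theorem icosa_equiv (hP : P1Like p G X) (hp : ¬ p ∣ Nat.card G ∨ p = 3) {a : X} (hN : Nat.card G = 60)
    (ho : Nat.card (orbit G a) = 12) : Nonempty (G ≃* alternatingGroup (Fin 5)) := by
  haveI := Fact.mk Nat.prime_five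
  have hs : Nat.card (stabilizer G a) = 5 := by
    have h := card_orbit_mul (G := G) a
    rw [ho, hN] at h; omega
  obtain ⟨hP5, h1 | h6⟩ := CfsgLib.Recog.card_sylow_five hN
  · exfalso
    have hfac : (Nat.card G).factorization 5 = 1 := by
      rw [hN, show (60 : ℕ) = 5 * 12 from rfl, Nat.factorization_mul (by norm_num) (by norm_num),
        Finsupp.add_apply, Nat.Prime.factorization_self Nat.prime_five,
        Nat.factorization_eq_zero_of_not_dvd (by norm_num), add_zero]
    obtain ⟨r, hr⟩ := exists_prime_orderOf_dvd_card' (G := stabilizer G a) 5 (by rw [hs])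
    have hr' : orderOf (r : G) = 5 := by rw [Subgroup.orderOf_coe, hr]
    have hrp : (r : G) ^ p ≠ 1 := fun h => by
      have h5 := (Nat.prime_dvd_prime_iff_eq Nat.prime_five (Fact.out : p.Prime)).1
        (hr' ▸ orderOf_dvd_of_pow_eq_one h)
      subst h5
      rcases hp with hp | hp
      · exact hp (by rw [hN]; norm_num)
      · omega
    obtain ⟨b, hba, hb⟩ := hP.exists_other hrp r.2
    have hr1 : (r : G) ≠ 1 := fun h => hrp (by rw [h, one_pow])
    haveI : Subsingleton (Sylow 5 G) := (Nat.card_eq_one_iff_unique.1 h1).1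
    let P : Sylow 5 G := Sylow.ofCard (stabilizer G a) (by rw [hs, hfac, pow_one])
    have hnorm : (P : Subgroup G).Normal := Sylow.normal_of_subsingleton P
    have hrgen : stabilizer G a = Subgroup.zpowers (r : G) :=
      (Subgroup.eq_of_le_of_card_ge (Subgroup.zpowers_le.2 r.2) (by rw [Nat.card_zpowers, hr', hs])).symm
    have hor : orbit G a ⊆ {a, b} := by
      rintro _ ⟨g, rfl⟩
      have hrg : (r : G) • (g • a) = g • a := by
        have h2 : g⁻¹ * r * (g⁻¹)⁻¹ ∈ stabilizer G a := hnorm.conj_mem (r : G) r.2 g⁻¹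
        rw [inv_inv] at h2
        rw [mem_stabilizer_iff, mul_smul, mul_smul, inv_smul_eq_iff] at h2
        exact h2
      by_contra h
      simp only [Set.mem_insert_iff, Set.mem_singleton_iff, not_or] at h
      exact hr1 (hP.sharp hba.symm (Ne.symm h.1) (Ne.symm h.2) r.2 hb hrg)
    have h2 := Set.ncard_le_ncard hor
    rw [← Nat.card_coe_set_eq, ho, Set.ncard_pair hba.symm] at h2
    omega
  · haveI := CfsgLib.Recog.isSimpleGroup_of_six hN h6
    exact CfsgLib.Small.equiv_alternating_five hN

end CfsgLib.PSL2
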