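import Cfsg.Agent.Lib.PSL2.SubfieldCase
import Cfsg.Agent.Lib.PSL2.IsoTypes

/-!
Dickson's classification of the subgroups of `PGL₂(F)` and `PSL₂(F)`.
-/

set_option autoImplicit false
set_option linter.style.haveILetI false
set_option linter.unusedSectionVars false

namespace CfsgLib.PSL2

open Matrix MulAction CfsgLib.Classical
open scoped LinearAlgebra.Projectivization

/-- The projective line over the quadratic extension, in which every element has a fixed point. -/
abbrev Ext2 (F : Type*) [Field F] [Finite F] (p : ℕ) [Fact p.Prime] [CharP F p] : Type :=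
  FiniteField.Extension F p 2

/-- Dickson's list. -/
inductive DicksonCase {G : Type*} [Group G] (F : Type*) [Field F] (p : ℕ) (H : Subgroup G) : Prop
  | cyclic (hc : IsCyclic H) (hp : ¬ p ∣ Nat.card H) : DicksonCase F p H
  | dihedral (r : G) (hr : r ∈ H) (k : ℕ) (hk : orderOf r = k) (h2 : 2 ≤ k) (hp : ¬ p ∣ k)
      (hcard : Nat.card H = 2 * k) (iso : Nonempty (H ≃* DihedralGroup k)) : DicksonCase F p H
  | borel (P : Sylow p G) (hpH : p ∣ Nat.card H)
      (hle : H ≤ Subgroup.normalizer ((P : Subgroup G) : Set G)) : DicksonCase F p H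
  | tetra (hp : ¬ p ∣ Nat.card H) (iso : Nonempty (H ≃* alternatingGroup (Fin 4))) : DicksonCase F p H
  | octa (hp : ¬ p ∣ Nat.card H) (iso : Nonempty (H ≃* Equiv.Perm (Fin 4))) : DicksonCase F p H
  | icosa (hp : ¬ p ∣ Nat.card H ∨ p = 3) (iso : Nonempty (H ≃* alternatingGroup (Fin 5))) : DicksonCase F p H
  | subfield (K : Subfield F) (iso : Nonempty (H ≃* Matrix.ProjGenLinGroup (Fin 2) K) ∨
      (Odd (Nat.card K) ∧ Nonempty (H ≃* Matrix.ProjectiveSpecialLinearGroup (Fin 2) K))) : DicksonCase F p H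

variable {p : ℕ} [Fact p.Prime]

/-- A Sylow subgroup is the unipotent group of the fixed point. -/
theorem exists_sylow_unipAt {G X : Type*} [Group G] [MulAction G X] [Finite G] (hP : P1Like p G X)
    {w : G} {c : X} (hw : w ≠ 1) (hwp : w ^ p = 1) (hwc : w • c = c) :
    ∃ P : Sylow p G, (P : Subgroup G) = unipAt hP c := by
  obtain ⟨P, hle⟩ := (isPGroup_unipAt hP c).exists_le_sylow
  have hwP : w ∈ (P : Subgroup G) := hle ⟨hwc, hwp⟩
  haveI : Nontrivial (P : Subgroup G) := ⟨⟨w, hwP⟩, 1, fun e => hw (congrArg Subtype.val e)⟩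
  haveI := P.2.center_nontrivial
  obtain ⟨⟨z, hz⟩, hz1⟩ := exists_ne (1 : Subgroup.center (P : Subgroup G))
  have hzG : (z : G) ≠ 1 := fun e => hz1 (Subtype.ext (Subtype.ext e))
  obtain ⟨m, hm⟩ := P.2 z
  have hcomm : ∀ x ∈ (P : Subgroup G), x * (z : G) = z * x := fun x hx =>
    congrArg Subtype.val (Subgroup.mem_center_iff.1 hz ⟨x, hx⟩)
  have hzc : (z : G) • c = c := smul_eq_of_commute hP hw hwp hwc (hcomm w hwP).symm
  have hzp : (z : G) ^ p = 1 := pow_eq_one_of_pow_pow hP hzc (by simpa using congrArg Subtype.val hm)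
  refine ⟨P, le_antisymm (fun x hx => ?_) hle⟩
  have hxc : x • c = c := smul_eq_of_commute hP hzG hzp hzc (hcomm x hx)
  obtain ⟨m', hm'⟩ := P.2 ⟨x, hx⟩
  exact ⟨hxc, pow_eq_one_of_pow_pow hP hxc (by simpa using congrArg Subtype.val hm')⟩

theorem normalizes_unipAt {G X : Type*} [Group G] [MulAction G X] (hP : P1Like p G X) {g : G} {c : X}
    (hg : g • c = c) : g ∈ Subgroup.normalizer ((unipAt hP c : Subgroup G) : Set G) := by
  rw [Subgroup.mem_normalizer_iff]
  intro x
  rw [mem_unipAt, mem_unipAt, conj_pow, conj_eq_one_iff, mul_smul, mul_smul, inv_smul_eq_iff.2 hg.symm]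
  refine and_congr_left fun _ => ⟨fun h => by rw [h, hg], fun h => smul_left_cancel g (h.trans hg.symm)⟩

variable {F : Type*} [Field F] [Finite F] [CharP F p]

local notation "E2" => Ext2 F p

theorem charP_ext2 : CharP E2 p :=
  charP_of_injective_algebraMap (algebraMap F E2).injective p

/-- The trace invariant of an element of a quadratic subfield group is rational. -/
theorem sq_div_mem {m : GL (Fin 2) E2} {k : GL (Fin 2) E2} {g : Matrix.ProjGenLinGroup (Fin 2) F}
    (h : ProjGenLinGroup.map (algebraMap F E2) g = ProjGenLinGroup.mk (k * m * k⁻¹)) :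
    m.1.trace ^ 2 / m.1.det ∈ (algebraMap F E2).range := by
  induction g using Matrix.ProjGenLinGroup.induction_on with | mk g => ?_
  rw [ProjGenLinGroup.map_mk, ProjGenLinGroup.mk_eq_mk_iff] at h
  obtain ⟨u, hu⟩ := h
  refine ⟨g.1.trace ^ 2 / g.1.det, ?_⟩
  have hm : (k * m * k⁻¹ : GL (Fin 2) E2).1 = (u : E2) • g.1.map (algebraMap F E2) := by
    rw [← hu, Units.val_mul]
    ext i j
    fin_cases i <;> fin_cases j <;> simp [Matrix.mul_apply, Fin.sum_univ_two, mul_comm]
  have htr : (k * m * k⁻¹ : GL (Fin 2) E2).1.trace = m.1.trace := by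
    rw [Units.val_mul, Units.val_mul, Matrix.trace_mul_comm, ← Matrix.mul_assoc, ← Units.val_mul,
      inv_mul_cancel, Units.val_one, Matrix.one_mul]
  have hdet : (k * m * k⁻¹ : GL (Fin 2) E2).1.det = m.1.det := by
    rw [Units.val_mul, Units.val_mul, Matrix.det_units_conj]
  rw [← htr, ← hdet, hm, Matrix.trace_smul, Matrix.det_smul, Fintype.card_fin, smul_eq_mul]
  have h1 : (g.1.map (algebraMap F E2)).trace = algebraMap F E2 g.1.trace := by
    simp [Matrix.trace_fin_two]
  have h2 : (g.1.map (algebraMap F E2)).det = algebraMap F E2 g.1.det := by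
    simp [Matrix.det_fin_two]
  rw [h1, h2, map_div₀, map_pow]
  have hu0 : (u : E2) ≠ 0 := u.ne_zero
  field_simp

theorem subfield_rational {K : Subfield E2} {κ : E2ˣ} {k : Matrix.ProjGenLinGroup (Fin 2) E2} (hκ : (κ : E2) ∈ K)
    (h : ∀ x ∈ K, ∃ g : Matrix.ProjGenLinGroup (Fin 2) F,
      ProjGenLinGroup.map (algebraMap F E2) g = k * (affP 1 x * invP κ) * k⁻¹) :
    ∀ x ∈ K, x ∈ (algebraMap F E2).range := by
  haveI := charP_ext2 (F := F) (p := p)
  obtain ⟨k, rfl⟩ := ProjGenLinGroup.mk_surjective k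
  set R := (algebraMap F E2).fieldRange
  have hsq : ∀ x ∈ K, x ^ 2 / -(κ : E2) ∈ R := by
    intro x hx
    obtain ⟨g, hg⟩ := h x hx
    rw [affP, invP, ← map_mul, ← map_inv, ← map_mul, ← map_mul] at hg
    have := sq_div_mem hg
    rw [show R = (algebraMap F E2).fieldRange from rfl, RingHom.mem_fieldRange]
    simpa [affMat, GeneralLinearGroup.mkOfDetNeZero, Matrix.trace_fin_two, Matrix.det_fin_two] using this
  have hκR : (κ : E2) ∈ R := by
    have h1 := hsq 1 K.one_mem
    rw [one_pow, one_div] at h1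
    have := R.neg_mem (R.inv_mem h1)
    rwa [inv_inv, neg_neg] at this
  have hsq' : ∀ x ∈ K, x ^ 2 ∈ R := fun x hx => by
    have := R.mul_mem (hsq x hx) (R.neg_mem hκR)
    rwa [div_mul_cancel₀ _ (neg_ne_zero.2 κ.ne_zero)] at this
  intro x hx
  change x ∈ R
  by_cases h2 : (2 : E2) = 0
  · haveI : Fact (Nat.Prime 2) := ⟨Nat.prime_two⟩
    haveI : CharP E2 2 := CharTwo.of_one_ne_zero_of_two_eq_zero one_ne_zero h2
    haveI : CharP K 2 := (RingHom.charP_iff_charP K.subtype 2).2 inferInstance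
    obtain ⟨y, hy⟩ := (Finite.injective_iff_bijective.1 (frobenius_inj K 2)).2 ⟨x, hx⟩
    have h3 := hsq' y.1 y.2
    have h4 : y.1 ^ 2 = x := by
      have := congrArg (fun z : K => (z : E2)) hy
      simpa [frobenius_def] using this
    rwa [h4] at h3
  · have h3 := R.sub_mem (R.sub_mem (hsq' (x + 1) (K.add_mem hx K.one_mem)) (hsq' x hx)) R.one_mem
    rw [show (x + 1) ^ 2 - x ^ 2 - 1 = 2 * x by ring] at h3
    have h4 := R.mul_mem (R.inv_mem (R.add_mem R.one_mem R.one_mem)) h3
    rwa [one_add_one_eq_two, inv_mul_cancel_left₀ h2] at h4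

/-- Dickson's theorem for a group embedded in `PGL₂(F)`. -/
theorem dickson {G : Type*} [Group G] [Finite G] (ι : G →* Matrix.ProjGenLinGroup (Fin 2) F)
    (hι : Function.Injective ι) (H : Subgroup G) : DicksonCase F p H := by
  classical
  haveI := charP_ext2 (F := F) (p := p)
  let φ : G →* Matrix.ProjGenLinGroup (Fin 2) E2 := (ProjGenLinGroup.map (algebraMap F E2)).comp ι
  have hφ : Function.Injective φ := (map_subtype_injective (algebraMap F E2)).comp hι
  letI : MulAction G (ℙ E2 (Fin 2 → E2)) := MulAction.compHom _ φ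
  have hsmul : ∀ (g : G) (x : ℙ E2 (Fin 2 → E2)), g • x = φ g • x := fun g x => rfl
  have hP0 : P1Like p (Matrix.ProjGenLinGroup (Fin 2) E2) (ℙ E2 (Fin 2 → E2)) := p1Like_pgl p
  have hone : ∀ {g : G}, φ g = 1 → g = 1 := fun h => hφ (h.trans (map_one φ).symm)
  have hP : P1Like p G (ℙ E2 (Fin 2 → E2)) :=
    { sharp := fun h1 h2 h3 ha hb hc => hone (hP0.sharp h1 h2 h3 ha hb hc)
      unique_fix := fun hg hp ha hb => hP0.unique_fix (fun h => hg (hone h)) (by rw [← map_pow, hp, map_one]) ha hb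
      exists_other := fun hg ha => hP0.exists_other (fun h => hg (hone (by rw [map_pow]; exact h))) ha
      two_cyclic := fun {a b} hab => by
        haveI := hP0.two_cyclic hab
        let f : ↥(stabilizer G a ⊓ stabilizer G b) →*
            ↥(stabilizer (Matrix.ProjGenLinGroup (Fin 2) E2) a ⊓ stabilizer (Matrix.ProjGenLinGroup (Fin 2) E2) b) :=
          { toFun := fun g => ⟨φ g.1, g.2.1, g.2.2⟩
            map_one' := Subtype.ext (map_one φ)
            map_mul' := fun _ _ => Subtype.ext (map_mul φ _ _) }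
        exact isCyclic_of_injective f fun g h hgh => Subtype.ext (hφ (congrArg Subtype.val hgh :))
      swap_sq := fun hab h1 h2 => hone (by rw [map_mul]; exact hP0.swap_sq hab h1 h2)
      unip_mul := fun {g h a} hg hh ha hb => by
        obtain ⟨h1, h2⟩ := hP0.unip_mul (g := φ g) (h := φ h) (by rw [← map_pow, hg, map_one])
          (by rw [← map_pow, hh, map_one]) ha hb
        exact ⟨hone (by rw [map_pow, map_mul, h1]), hφ (by rw [map_mul, map_mul, h2])⟩
      comm_unip := fun {g h a} ha hb => hone (by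
        rw [map_pow, map_mul, map_mul, map_mul, map_inv, map_inv]; exact hP0.comm_unip ha hb) }
  have hPH := hP.subgroup H
  have hfix : ∀ g : H, ∃ a : ℙ E2 (Fin 2 → E2), g • a = a := fun g =>
    exists_fix_of_finrank_two (FiniteField.finrank_extension F p 2) (ι g)
  haveI : Finite (ℙ E2 (Fin 2 → E2)) := Quotient.finite _
  cases p1Case hPH hfix with
  | borel a hpH ha =>
    obtain ⟨g₀, hg₀⟩ := exists_prime_orderOf_dvd_card' p hpH
    have h1 : (g₀ : G) ≠ 1 := fun h => (Fact.out : p.Prime).ne_one (by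
      rw [← hg₀, show g₀ = 1 from Subtype.ext h, orderOf_one])
    obtain ⟨P, hPe⟩ := exists_sylow_unipAt hP h1 (by
      rw [← SubgroupClass.coe_pow, ← hg₀, pow_orderOf_eq_one, OneMemClass.coe_one]) (ha g₀)
    exact .borel P hpH fun h hh => hPe ▸ normalizes_unipAt hP (ha ⟨h, hh⟩)
  | cyclic hp a b hab ha hb => exact .cyclic (isCyclic_of_two hPH hab ha hb) hp
  | trivial hG =>
    haveI := (Nat.card_eq_one_iff_unique.1 hG).1
    exact .cyclic inferInstance (by rw [hG]; exact (Fact.out : p.Prime).not_dvd_one)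
  | dihedral a b hab horb hk hp =>
    obtain ⟨r, hr, hcard, hiso⟩ := dihedral_of_pair hPH hab horb hk
    exact .dihedral r r.2 (orderOf r) (Subgroup.orderOf_coe r) (hr ▸ hk) (hr ▸ hp) hcard hiso
  | tetra hp a hN ho => exact .tetra hp (tetra_equiv hPH hN ho)
  | octa hp a hN ho hu hall => exact .octa hp (octa_equiv hPH hp hN ho hu hall)
  | icosa hp a hN ho => exact .icosa hp (icosa_equiv hPH hp hN ho)
  | subfield hP' a Q e hQ h2 he hS ho =>
    let M : Subgroup (Matrix.ProjGenLinGroup (Fin 2) E2) := H.map φ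
    let ε : H ≃* M := H.equivMapOfInjective φ hφ
    have act : ∀ (x : H) (y : ℙ E2 (Fin 2 → E2)), ε x • y = x • y := fun x y => rfl
    have hPM := hP0.subgroup M
    have hS' : Nat.card (stabilizer M a) = Q * e := by
      rw [← hS]
      exact (Nat.card_congr (ε.toEquiv.subtypeEquiv fun x => by
        show x • a = a ↔ ε x • a = a
        rw [act])).symm
    have hQ' : Nat.card (unipAt hPM a) = Q := by
      rw [← hQ]
      refine (Nat.card_congr (ε.toEquiv.subtypeEquiv fun x => ?_)).symm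
      show (x • a = a ∧ x ^ p = 1) ↔ (ε x • a = a ∧ ε x ^ p = 1)
      rw [act, ← map_pow, MulEquiv.map_eq_one_iff]
    have ho' : Nat.card (orbit M a) = Q + 1 := by
      rw [← ho]
      congr 2
      ext y
      exact ⟨fun ⟨x, hx⟩ => ⟨ε.symm x, by
          show ε.symm x • a = y
          rw [← act, MulEquiv.apply_symm_apply]; exact hx⟩,
        fun ⟨x, hx⟩ => ⟨ε x, by show ε x • a = y; rw [act]; exact hx⟩⟩
    obtain ⟨K, κ, k, hK, hκK, hmem, hle⟩ := subfield_case p hP0 M hPM hQ' h2 he hS' ho'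
    have hrat : ∀ x ∈ K, x ∈ (algebraMap F E2).range := subfield_rational hκK fun x hx => by
      obtain ⟨g, -, hg⟩ := hmem x hx
      exact ⟨ι g, hg⟩
    set f := (MulAut.conj k).toMonoidHom.comp (ProjGenLinGroup.map (n := Fin 2) K.subtype)
    have hf : Function.Injective f := (MulAut.conj k).injective.comp (map_subtype_injective K.subtype)
    let K₀ : Subfield F := K.comap (algebraMap F E2)
    let θ₀ : K₀ →+* K :=
      { toFun := fun x => ⟨algebraMap F E2 x.1, x.2⟩
        map_one' := Subtype.ext (map_one (algebraMap F E2))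
        map_zero' := Subtype.ext (map_zero (algebraMap F E2))
        map_mul' := fun x y => Subtype.ext (map_mul (algebraMap F E2) x.1 y.1)
        map_add' := fun x y => Subtype.ext (map_add (algebraMap F E2) x.1 y.1) }
    have hθ : Function.Bijective θ₀ := ⟨RingHom.injective θ₀, fun y => by
      obtain ⟨x, hx⟩ := hrat y y.2
      exact ⟨⟨x, show algebraMap F E2 x ∈ K from hx.symm ▸ y.2⟩, Subtype.ext hx⟩⟩
    have hK₀ : Nat.card K₀ = Q := (Nat.card_congr (Equiv.ofBijective θ₀ hθ)).trans hK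
    let Φ := f.comp (ProjGenLinGroup.map (n := Fin 2) θ₀)
    have hΦ : Function.Injective Φ := hf.comp (map_subtype_injective θ₀)
    have hsurj : Function.Surjective (ProjGenLinGroup.map (n := Fin 2) θ₀) := by
      intro x
      refine ⟨ProjGenLinGroup.map (RingEquiv.ofBijective θ₀ hθ).symm.toRingHom x, ?_⟩
      rw [← MonoidHom.comp_apply, ← ProjGenLinGroup.map_comp]
      have : θ₀.comp (RingEquiv.ofBijective θ₀ hθ).symm.toRingHom = RingHom.id K := by
        ext y
        exact congrArg Subtype.val ((RingEquiv.ofBijective θ₀ hθ).apply_symm_apply y)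
      rw [this, ProjGenLinGroup.map_id]
      rfl
    have hle' : M ≤ Φ.range := fun y hy => by
      obtain ⟨x, rfl⟩ := hle hy
      obtain ⟨z, rfl⟩ := hsurj x
      exact ⟨z, rfl⟩
    set L := M.comap Φ
    have hLM : L.map Φ = M := Subgroup.map_comap_eq_self hle'
    have e1 : Nonempty (H ≃* L) :=
      ⟨ε.trans ((MulEquiv.subgroupCongr hLM.symm).trans (L.equivMapOfInjective Φ hΦ).symm)⟩
    have hLc : Nat.card L = (Q + 1) * (Q * e) := by
      rw [← Nat.card_congr e1.some.toEquiv, ← card_orbit_mul (G := H) a, hS, ho]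
    haveI : Finite K₀ := Finite.of_injective _ θ₀.injective
    have hPGL : Nat.card (Matrix.ProjGenLinGroup (Fin 2) K₀) = (Q + 1) * (Q * (Q - 1)) := by
      rw [card_PGL_eq_card_SL, card_SL_two, hK₀]
      obtain ⟨j, rfl⟩ : ∃ j, Q = j + 1 := ⟨Q - 1, by omega⟩
      have : (j + 1) ^ 2 - 1 = (j + 1 + 1) * j := by
        rw [Nat.sub_eq_iff_eq_add (Nat.one_le_pow _ _ (by omega))]; ring
      rw [this, Nat.add_sub_cancel]; ring
    have hcase : Nat.card L = Nat.card (Matrix.ProjGenLinGroup (Fin 2) K₀) ∨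
        (Odd (Nat.card K₀) ∧ 2 * Nat.card L = Nat.card (Matrix.ProjGenLinGroup (Fin 2) K₀)) := by
      rcases he with rfl | he'
      · exact .inl (by rw [hLc, hPGL])
      · exact .inr ⟨by rw [hK₀]; exact ⟨e, by omega⟩, by rw [hLc, hPGL, ← he']; ring⟩
    refine .subfield K₀ ?_
    rcases half_pgl L hcase with hL | ⟨hodd, hL⟩
    · exact .inl ⟨e1.some.trans ((MulEquiv.subgroupCongr hL).trans Subgroup.topEquiv)⟩
    · exact .inr ⟨hodd, ⟨e1.some.trans ((MulEquiv.subgroupCongr hL).trans
        (MonoidHom.ofInjective ProjectiveSpecialLinearGroup.toPGL_injective).symm)⟩⟩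

end CfsgLib.PSL2
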