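import Cfsg.Agent.Lib.PSL2.Tori

/-!
The maximal subgroups of `PSL₂(F)`: the first analysis.
-/

set_option autoImplicit false
set_option linter.style.haveILetI false
set_option linter.unusedSectionVars false

namespace CfsgLib.PSL2

open Matrix MulAction CfsgLib.Classical
open scoped LinearAlgebra.Projectivization

variable {F : Type*} [Field F] [Finite F] {p : ℕ} [Fact p.Prime] [CharP F p]

local notation "PG" => Matrix.ProjGenLinGroup (Fin 2) F
local notation "P1" => ℙ F (Fin 2 → F)
local notation "PE" => ℙ (Ext2 F p) (Fin 2 → Ext2 F p)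

/-- `M` is maximal in `PSL₂(F)`, seen inside `PGL₂(F)`. -/
structure MaxSub (M : Subgroup PG) : Prop where
  lt : M < pslRange F
  eq : ∀ K : Subgroup PG, M ≤ K → K < pslRange F → K = M

/-- The image of a subfield group. -/
noncomputable def subGroupK (K : Subfield F) (k : PG) : Subgroup PG :=
  ((MulAut.conj k).toMonoidHom.comp (ProjGenLinGroup.map K.subtype)).range

theorem subGroupK_equiv (K : Subfield F) (k : PG) :
    Nonempty (subGroupK K k ≃* Matrix.ProjGenLinGroup (Fin 2) K) :=
  ⟨(MonoidHom.ofInjective (f := (MulAut.conj k).toMonoidHom.comp (ProjGenLinGroup.map (n := Fin 2) K.subtype))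
    ((MulAut.conj k).injective.comp (map_subtype_injective K.subtype))).symm⟩

theorem card_subGroupK (K : Subfield F) (k : PG) :
    Nat.card (subGroupK K k) = (Nat.card K + 1) * (Nat.card K * (Nat.card K - 1)) := by
  obtain ⟨e⟩ := subGroupK_equiv K k
  rw [Nat.card_congr e.toEquiv, card_pgl_two rfl]

/-- Membership in `PSL₂` is the square class of the determinant. -/
theorem mk_mem_pslRange_iff (g : GL (Fin 2) F) :
    ProjGenLinGroup.mk g ∈ pslRange F ↔ IsSquare g.1.det := by
  constructor
  · rintro ⟨x, hx⟩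
    induction x using QuotientGroup.induction_on with | H s => ?_
    rw [ProjectiveSpecialLinearGroup.toPGL_mk, ProjGenLinGroup.mk_eq_mk_iff] at hx
    obtain ⟨u, rfl⟩ := hx
    refine ⟨(u : F), ?_⟩
    rw [Units.val_mul, Matrix.det_mul]
    simp [pow_two]
  · rintro ⟨c, hc⟩
    have hc0 : c ≠ 0 := fun h => g.det_ne_zero (by rw [hc, h, mul_zero])
    have hs : (c⁻¹ • g.1).det = 1 := by
      rw [Matrix.det_smul, Fintype.card_fin, hc]; field_simp
    let s : Matrix.SpecialLinearGroup (Fin 2) F := ⟨c⁻¹ • g.1, hs⟩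
    refine ⟨QuotientGroup.mk s, ?_⟩
    rw [ProjectiveSpecialLinearGroup.toPGL_mk, ProjGenLinGroup.mk_eq_mk_iff]
    refine ⟨Units.mk0 c hc0, Units.ext ?_⟩
    ext i j
    fin_cases i <;> fin_cases j <;> simp [s, Matrix.mul_apply, hc0, Matrix.SpecialLinearGroup.toGL] <;> field_simp

theorem subGroupK_le_psl (h : Odd (Nat.card F)) (K : Subfield F) (k : PG) (hm : Even (Module.finrank K F)) :
    subGroupK K k ≤ pslRange F := by
  haveI := Fintype.ofFinite F
  rintro _ ⟨x, rfl⟩
  induction x using Matrix.ProjGenLinGroup.induction_on with | mk g => ?_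
  refine normal_pslRange.conj_mem _ ?_ k
  rw [ProjGenLinGroup.map_mk, mk_mem_pslRange_iff]
  have hdet : ((GeneralLinearGroup.map K.subtype g).1).det = K.subtype g.1.det := by
    simp [Matrix.det_fin_two, GeneralLinearGroup.map]
  rw [hdet]
  have h2 : ringChar F ≠ 2 := fun h2 => by
    rw [Nat.card_eq_fintype_card, Nat.odd_iff] at h
    have := FiniteField.even_card_iff_char_two.1 h2
    omega
  have hdet0 : K.subtype g.1.det ≠ 0 := (map_ne_zero K.subtype).2 g.det_ne_zero
  rw [FiniteField.isSquare_iff h2 hdet0]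
  obtain ⟨j, hj⟩ := hm
  have hq : Nat.card F = Nat.card K ^ (2 * j) := by
    rw [Module.natCard_eq_pow_finrank (K := K) (V := F), hj, two_mul]
  obtain ⟨t, ht⟩ : 2 * (Nat.card K - 1) ∣ Nat.card K ^ (2 * j) - 1 := by
    rw [pow_mul]
    refine dvd_trans ?_ (Nat.sub_one_dvd_pow_sub_one _ j)
    have hQ : 1 < Nat.card K := Finite.one_lt_card
    have hQo : Odd (Nat.card K) := by
      rw [hq] at h
      exact (Nat.odd_pow_iff (by rintro e; rw [e, pow_zero] at hq; have := Finite.one_lt_card (α := F); omega)).1 h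
    obtain ⟨i, hi⟩ := hQo
    refine ⟨i + 1, ?_⟩
    rw [hi, Nat.add_sub_cancel]
    have : (2 * i + 1) ^ 2 = 2 * (2 * i) * (i + 1) + 1 := by ring
    omega
  haveI := Fintype.ofFinite K
  have hd : Fintype.card F / 2 = (Nat.card K - 1) * t := by
    rw [← Nat.card_eq_fintype_card]
    have h1 : Nat.card F = 2 * ((Nat.card K - 1) * t) + 1 := by
      rw [hq, ← mul_assoc, ← ht]
      have : 0 < Nat.card K ^ (2 * j) := pow_pos Nat.card_pos _
      omega
    omega
  rw [hd, ← map_pow, pow_mul, Nat.card_eq_fintype_card,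
    FiniteField.pow_card_sub_one_eq_one _ g.det_ne_zero, one_pow, map_one]

theorem conj_mem_pslRange_iff {x k : PG} : k * x * k⁻¹ ∈ pslRange F ↔ x ∈ pslRange F :=
  ⟨fun h => by simpa [mul_assoc] using normal_pslRange.conj_mem _ h k⁻¹, fun h => normal_pslRange.conj_mem _ h k⟩

theorem subGroupK_inf_psl (h : Odd (Nat.card F)) (K : Subfield F) (k : PG) (hm : Odd (Module.finrank K F)) :
    Nonempty (↥(subGroupK K k ⊓ pslRange F) ≃* Matrix.ProjectiveSpecialLinearGroup (Fin 2) K) := by
  haveI := Fintype.ofFinite F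
  set f := (MulAut.conj k).toMonoidHom.comp (ProjGenLinGroup.map (n := Fin 2) K.subtype)
  have hf : Function.Injective f := (MulAut.conj k).injective.comp (map_subtype_injective K.subtype)
  have hcomap : (pslRange F).comap f = pslRange K := by
    ext x
    induction x using Matrix.ProjGenLinGroup.induction_on with | mk g => ?_
    have hdet : ((GeneralLinearGroup.map K.subtype g).1).det = K.subtype g.1.det := by
      simp [Matrix.det_fin_two, GeneralLinearGroup.map]
    rw [Subgroup.mem_comap, show f (ProjGenLinGroup.mk g) =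
        k * ProjGenLinGroup.mk (GeneralLinearGroup.map K.subtype g) * k⁻¹ from rfl,
      conj_mem_pslRange_iff, mk_mem_pslRange_iff, mk_mem_pslRange_iff, hdet]
    constructor
    · rintro ⟨c, hc⟩
      have h1 := Algebra.norm_algebraMap (S := F) g.1.det
      rw [show algebraMap K F g.1.det = c * c from hc, map_mul] at h1
      obtain ⟨j, hj⟩ := hm
      rw [hj, pow_succ, mul_comm 2 j, pow_mul] at h1
      refine ⟨Algebra.norm K c / g.1.det ^ j, ?_⟩
      have hd := g.det_ne_zero
      field_simp
      linear_combination -h1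
    · rintro ⟨c, hc⟩
      exact ⟨K.subtype c, by rw [← map_mul, ← hc]⟩
  have hrange : subGroupK K k ⊓ pslRange F = (pslRange K).map f := by
    rw [← hcomap, Subgroup.map_comap_eq]
    rfl
  exact ⟨(MulEquiv.subgroupCongr hrange).trans (((pslRange K).equivMapOfInjective f hf).symm.trans
    (MonoidHom.ofInjective ProjectiveSpecialLinearGroup.toPGL_injective).symm)⟩

theorem two_le_finrank {K : Subfield F} (hK : K ≠ ⊤) : 2 ≤ Module.finrank K F := by
  by_contra h
  push Not at h
  refine hK (eq_top_iff.2 fun x _ => ?_)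
  have h1 : Module.finrank K F = 1 := by have := Module.finrank_pos (R := K) (M := F); omega
  obtain ⟨c, hc⟩ := (finrank_eq_one_iff_of_nonzero' (1 : F) one_ne_zero).1 h1 x
  rw [← hc, Subfield.smul_def, smul_eq_mul, mul_one]
  exact c.2

theorem card_pslRange_mul : Nat.gcd 2 (Nat.card F - 1) * Nat.card (pslRange F) =
    (Nat.card F + 1) * (Nat.card F * (Nat.card F - 1)) := by
  rw [← card_pgl_two (K := F) rfl, ← index_pslRange, Subgroup.index_mul_card]

theorem inf_psl_lt {H : Subgroup PG} (h : 2 * Nat.card H < (Nat.card F + 1) * (Nat.card F * (Nat.card F - 1))) :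
    H ⊓ pslRange F < pslRange F := by
  refine lt_of_le_of_ne inf_le_right fun e => ?_
  have h1 : Nat.card (pslRange F) ≤ Nat.card H := Subgroup.card_le_of_le (e ▸ inf_le_left)
  rw [← card_pslRange_mul] at h
  have hd : Nat.gcd 2 (Nat.card F - 1) ≤ 2 := Nat.le_of_dvd two_pos (Nat.gcd_dvd_left _ _)
  have := Nat.mul_le_mul_right (Nat.card (pslRange F)) hd
  omega

theorem card_pgl_mono {Q q : ℕ} (hQ : 2 ≤ Q) (h : Q ^ 2 ≤ q) :
    2 * ((Q + 1) * (Q * (Q - 1))) < (q + 1) * (q * (q - 1)) := by
  have h4 : 2 * Q ≤ q := le_trans (by rw [pow_two]; exact Nat.mul_le_mul_right _ hQ) h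
  have h1 : (Q + 1) * (2 * Q * (Q - 1)) < (q + 1) * (q * (q - 1)) := by
    refine Nat.mul_lt_mul_of_lt_of_le (by omega) (Nat.mul_le_mul h4 (by omega)) ?_
    exact Nat.mul_pos (by omega) (by omega)
  calc 2 * ((Q + 1) * (Q * (Q - 1))) = (Q + 1) * (2 * Q * (Q - 1)) := by ring
    _ < _ := h1

theorem subGroupK_inf_lt {K : Subfield F} (hK : K ≠ ⊤) (k : PG) : subGroupK K k ⊓ pslRange F < pslRange F := by
  refine inf_psl_lt ?_
  rw [card_subGroupK]
  refine card_pgl_mono Finite.one_lt_card ?_
  rw [Module.natCard_eq_pow_finrank (K := K) (V := F)]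
  exact Nat.pow_le_pow_right Nat.card_pos (two_le_finrank hK)

theorem exists_intermediate (p : ℕ) [Fact p.Prime] [CharP F p] {K : Subfield F} {r : ℕ} (hr : r ∣ Module.finrank K F) :
    ∃ K' : Subfield F, K ≤ K' ∧ Nat.card K' = Nat.card K ^ (Module.finrank K F / r) := by
  obtain ⟨j, hj⟩ := hr
  have hm : 0 < Module.finrank K F := Module.finrank_pos
  have hj0 : j ≠ 0 := fun e => by rw [e, mul_zero] at hj; omega
  have hr0 : r ≠ 0 := fun e => by rw [e, zero_mul] at hj; omega
  haveI : CharP K p := (RingHom.charP_iff_charP K.subtype p).2 inferInstance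
  haveI : NeZero j := ⟨hj0⟩
  obtain ⟨f⟩ := FiniteField.nonempty_algHom_of_finrank_dvd (F := K) (K := FiniteField.Extension K p j) (L := F)
    (by rw [FiniteField.finrank_extension, hj]; exact dvd_mul_left _ _)
  refine ⟨f.toRingHom.fieldRange, fun x hx => ⟨algebraMap K _ ⟨x, hx⟩, f.commutes ⟨x, hx⟩⟩, ?_⟩
  have h1 : Nat.card f.toRingHom.fieldRange = Nat.card (FiniteField.Extension K p j) :=
    Nat.card_range_of_injective (f := f.toRingHom) f.toRingHom.injective
  rw [h1, FiniteField.natCard_extension, hj, Nat.mul_div_cancel_left _ (Nat.pos_of_ne_zero hr0)]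

/-- The types of a maximal subgroup of `PSL₂(F)`. -/
inductive MaxType (p : ℕ) [Fact p.Prime] [CharP F p] (M : Subgroup PG) : Prop
  | borel (x : P1) (heq : M = stabilizer PG x ⊓ pslRange F)
      (hcard : Nat.gcd 2 (Nat.card F - 1) * Nat.card M = Nat.card F * (Nat.card F - 1)) : MaxType p M
  | torus (a b : ℙ (Ext2 F p) (Fin 2 → Ext2 F p)) (hg : GoodPair a b) (heq : M = pairStab a b ⊓ pslRange F)
      (iso : Nonempty (M ≃* DihedralGroup (torusCard a / Nat.gcd 2 (Nat.card F - 1)))) : MaxType p M
  | tetra (hp : ¬ p ∣ Nat.card M) (iso : Nonempty (M ≃* alternatingGroup (Fin 4))) : MaxType p M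
  | octa (hp : ¬ p ∣ Nat.card M) (iso : Nonempty (M ≃* Equiv.Perm (Fin 4))) : MaxType p M
  | icosa (hp : ¬ p ∣ Nat.card M ∨ p = 3) (iso : Nonempty (M ≃* alternatingGroup (Fin 5))) : MaxType p M
  | subfield (K : Subfield F) (k : PG) (r : ℕ) (hr : r.Prime) (hm : Module.finrank K F = r)
      (heq : M = subGroupK K k ⊓ pslRange F) (h2 : Nat.card K ≠ 2) : MaxType p M

theorem stab_ne_psl (x : P1) (hq : 3 < Nat.card F) :
    stabilizer PG x ⊓ pslRange F < pslRange F ∧
    Nat.gcd 2 (Nat.card F - 1) * Nat.card ↥(stabilizer PG x ⊓ pslRange F) = Nat.card F * (Nat.card F - 1) := by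
  obtain ⟨p, hp⟩ := CharP.exists F
  haveI := Fact.mk (CharP.char_is_prime F p)
  have hs : Nat.card (stabilizer PG x) = Nat.card F * (Nat.card F - 1) := by
    have h := card_orbit_mul (G := PG) x
    have horb : orbit PG x = Set.univ := Set.eq_univ_of_forall fun y => by
      obtain ⟨k, hk⟩ := exists_to_inf x
      obtain ⟨l, hl⟩ := exists_to_inf y
      exact ⟨l * k⁻¹, by show (l * k⁻¹) • x = y; rw [mul_smul, ← hk, inv_smul_smul, hl]⟩
    rw [horb, Nat.card_coe_set_eq, Set.ncard_univ, card_proj_line, card_pgl_two rfl] at h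
    exact Nat.eq_of_mul_eq_mul_left (by omega) h
  refine ⟨inf_psl_lt ?_, ?_⟩
  · rw [hs]
    exact Nat.mul_lt_mul_of_pos_right (by omega) (Nat.mul_pos (by omega) (by omega))
  · rcases Nat.even_or_odd (Nat.card F) with he | ho
    · rw [gcd_two_card_sub_one_of_even he, pslRange_eq_top_of_even he, inf_top_eq, one_mul, hs]
    · rw [gcd_two_card_sub_one_of_odd ho, ← hs]
      obtain ⟨y, hy, -⟩ := exists_third x x
      have hgood : GoodPair (embP p x) (embP p y) :=
        ⟨fun h => hy (embP_injective p h), .inl ⟨⟨x, rfl⟩, ⟨y, rfl⟩⟩⟩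
      obtain ⟨r, w, -, -, -, -, -, -, hro, hz, -, -⟩ := torus_psl hgood (fun _ => by omega)
      have hnot : ¬ stabilizer PG x ≤ pslRange F := fun hle => by
        have hSle : stabilizer PG (embP p x) ⊓ stabilizer PG (embP p y) ≤ pslRange F := fun g hg =>
          hle (show g • x = x from embP_injective p (by rw [embP_smul]; exact hg.1))
        rw [inf_eq_left.2 hSle] at hz
        have h1 := congrArg (fun H : Subgroup PG => Nat.card H) hz
        simp only [Nat.card_zpowers, card_torus hgood, hro, gcd_two_card_sub_one_of_odd ho] at h1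
        rw [torusCard, if_pos ⟨x, rfl⟩] at h1
        omega
      have hidx : ((stabilizer PG x ⊓ pslRange F).subgroupOf (stabilizer PG x)).index = 2 := by
        rw [← Subgroup.relIndex, inf_comm, Subgroup.inf_relIndex_right]
        have hdvd := Subgroup.relIndex_dvd_index_of_normal (pslRange F) (stabilizer PG x)
        rw [index_pslRange, gcd_two_card_sub_one_of_odd ho] at hdvd
        exact ((Nat.dvd_prime Nat.prime_two).1 hdvd).resolve_left fun h1 => hnot (Subgroup.relIndex_eq_one.1 h1)
      have h2 := ((stabilizer PG x ⊓ pslRange F).subgroupOf (stabilizer PG x)).card_mul_index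
      rw [Nat.card_congr (Subgroup.subgroupOfEquivOfLe inf_le_left).toEquiv, hidx] at h2
      omega

theorem torus_lt {a b : PE} (hg : GoodPair a b) (hq : 3 < Nat.card F) :
    pairStab a b ⊓ pslRange F < pslRange F := by
  obtain ⟨r, w, -, -, -, -, -, -, hro, -, hc, -⟩ := torus_psl hg (fun _ => by omega)
  refine lt_of_le_of_ne inf_le_right fun e => ?_
  rw [e] at hc
  have h := card_pslRange_mul (F := F)
  rw [hc] at h
  have hle : orderOf r ≤ Nat.card F + 1 := by
    rw [hro]; refine (Nat.div_le_self _ _).trans ?_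
    rw [torusCard]; split_ifs <;> omega
  have hd : Nat.gcd 2 (Nat.card F - 1) ≤ 2 := Nat.le_of_dvd two_pos (Nat.gcd_dvd_left _ _)
  have h1 : Nat.gcd 2 (Nat.card F - 1) * (2 * orderOf r) ≤ 2 * (2 * (Nat.card F + 1)) :=
    Nat.mul_le_mul hd (by omega)
  have h2 : (Nat.card F + 1) * (4 * 2) < (Nat.card F + 1) * (Nat.card F * (Nat.card F - 1)) := by
    refine Nat.mul_lt_mul_of_pos_left ?_ (by omega)
    calc 4 * 2 < 4 * 3 := by norm_num
      _ ≤ Nat.card F * (Nat.card F - 1) := Nat.mul_le_mul (by omega) (by omega)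
  omega

theorem torus_of_pair {M : Subgroup PG} (hM : MaxSub M) (hq : 3 < Nat.card F) {a b : PE} (hg : GoodPair a b)
    (hle : M ≤ pairStab a b) : MaxType p M := by
  have heq : pairStab a b ⊓ pslRange F = M := hM.eq _ (le_inf hle hM.lt.le) (torus_lt hg hq)
  obtain ⟨r, w, -, -, -, -, -, -, hro, -, -, ⟨e⟩⟩ := torus_psl hg (fun _ => by omega)
  refine .torus a b hg heq.symm ⟨(MulEquiv.subgroupCongr heq.symm).trans ?_⟩
  exact hro ▸ e

/-- The first analysis of a maximal subgroup. -/
theorem maxType {M : Subgroup PG} (hM : MaxSub M) (hq : 3 < Nat.card F) : MaxType p M := by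
  cases geoCase p M with
  | borel x hx hp =>
    obtain ⟨hlt, hc⟩ := stab_ne_psl x hq
    have heq : stabilizer PG x ⊓ pslRange F = M := hM.eq _ (le_inf (fun h hh => hx h hh) hM.lt.le) hlt
    exact .borel x heq.symm (heq ▸ hc)
  | pair a b hab hle hgen =>
    rcases hgen with ⟨g, hgM, hg1, hga, hgb⟩ | hbot
    · exact torus_of_pair hM hq (goodPair_of_fixed hg1 hab hga hgb) hle
    · exfalso
      obtain ⟨a', b', hg, -⟩ := exists_goodPair (F := F) (p := p)
      have heq := hM.eq _ (hbot ▸ bot_le) (torus_lt hg hq)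
      obtain ⟨r, w, -, hwL, -, -, hwa, hwb, -, -, -, -⟩ := torus_psl hg (fun _ => by omega)
      have hwM : w ∈ M := heq ▸ ⟨.inr ⟨hwa, hwb⟩, hwL⟩
      rw [hbot, Subgroup.mem_bot] at hwM
      rw [hwM, one_smul] at hwa
      exact hg.1 hwa
  | tetra hp iso => exact .tetra hp iso
  | octa hp iso => exact .octa hp iso
  | icosa hp iso => exact .icosa hp iso
  | subfield K k hle hcard =>
    have hK : K ≠ ⊤ := by
      rintro rfl
      have h1 : Nat.card (⊤ : Subfield F) = Nat.card F := Nat.card_congr Subfield.topEquiv.toEquiv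
      rw [card_pgl_two h1] at hcard
      have h3 := card_pslRange_mul (F := F)
      have h4 : Nat.card M < Nat.card (pslRange F) := by
        refine lt_of_le_of_ne (Subgroup.card_le_of_le hM.lt.le) fun e => hM.lt.ne ?_
        exact Subgroup.eq_of_le_of_card_ge hM.lt.le e.ge
      rcases hcard with h2 | ⟨ho, h2⟩
      · have : Nat.card (pslRange F) ≤ Nat.gcd 2 (Nat.card F - 1) * Nat.card (pslRange F) :=
          Nat.le_mul_of_pos_left _ (Nat.gcd_pos_of_pos_left _ two_pos)
        omega
      · rw [h1] at ho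
        rw [gcd_two_card_sub_one_of_odd ho] at h3
        omega
    have heq : subGroupK K k ⊓ pslRange F = M := hM.eq _ (le_inf hle hM.lt.le) (subGroupK_inf_lt hK k)
    by_cases h2 : Nat.card K = 2
    · -- a group of order six lies in a torus normaliser
      have hp2 : Nat.card M = 6 := by
        rcases hcard with h | ⟨ho, -⟩
        · rw [h, card_pgl_two h2]
        · rw [h2] at ho; exact absurd ho (by decide)
      haveI : Fact (Nat.Prime 3) := ⟨Nat.prime_three⟩
      obtain ⟨g, hg⟩ := exists_prime_orderOf_dvd_card' (G := M) 3 (by rw [hp2]; norm_num)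
      have hg3 : orderOf (g : PG) = 3 := by rw [Subgroup.orderOf_coe, hg]
      have hg1 : (g : PG) ≠ 1 := fun e => by rw [e, orderOf_one] at hg3; omega
      have hp : p = 2 := by
        haveI : CharP K p := (RingHom.charP_iff_charP K.subtype p).2 inferInstance
        haveI := Fintype.ofFinite K
        obtain ⟨n, hn, hn'⟩ := FiniteField.card K p
        rw [← Nat.card_eq_fintype_card, h2] at hn'
        exact (Nat.prime_dvd_prime_iff_eq hn Nat.prime_two).1 (hn' ▸ dvd_pow_self p n.pos.ne')
      have hgp : (g : PG) ^ p ≠ 1 := fun e => by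
        have := orderOf_dvd_of_pow_eq_one e
        rw [hg3, hp] at this
        omega
      have hPE : P1Like p PG PE := p1Like_ext
      obtain ⟨a, ha⟩ := exists_fix_ext (p := p) (g : PG)
      obtain ⟨b, hba, hb⟩ := hPE.exists_other hgp ha
      refine torus_of_pair hM hq (goodPair_of_fixed hg1 hba.symm ha hb) fun x hx => ?_
      have hnorm : (Subgroup.zpowers g).Normal := Subgroup.normal_of_index_eq_two (by
        have h := (Subgroup.zpowers g).card_mul_index
        rw [Nat.card_zpowers, hg, hp2] at h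
        omega)
      have hfix : ∀ y : PE, (g : PG) • y = y → y = a ∨ y = b := fun y hy => by
        by_contra hne
        push Not at hne
        exact hg1 (hPE.sharp hba.symm (Ne.symm hne.1) (Ne.symm hne.2) ha hb hy)
      have hconj : ∀ y : PE, (g : PG) • y = y → (g : PG) • x • y = x • y := by
        intro y hy
        obtain ⟨n, hn⟩ := hnorm.conj_mem g (Subgroup.mem_zpowers g) (⟨x, hx⟩⁻¹ : M)
        have hn' : (g : PG) ^ n = x⁻¹ * g * x := by
          have := congrArg Subtype.val hn
          simpa using this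
        have h3 : (x⁻¹ * (g : PG) * x) • y = y :=
          hn' ▸ mem_stabilizer_iff.1 (Subgroup.zpow_mem (stabilizer PG y) hy n)
        rw [mul_smul, mul_smul, inv_smul_eq_iff] at h3
        exact h3
      rcases hfix _ (hconj a ha) with h1 | h1 <;> rcases hfix _ (hconj b hb) with h3 | h3
      · exact absurd (smul_left_cancel x (h1.trans h3.symm)) hba.symm
      · exact .inl ⟨h1, h3⟩
      · exact .inr ⟨h1, h3⟩
      · exact absurd (smul_left_cancel x (h1.trans h3.symm)) hba.symm
    set m := Module.finrank K F with hm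
    have hm2 : 2 ≤ m := two_le_finrank hK
    obtain ⟨r, hr, hrm⟩ := Nat.exists_prime_and_dvd (show m ≠ 1 by omega)
    rcases eq_or_ne m r with hmr | hmr
    · exact .subfield K k r hr hmr heq.symm h2
    exfalso
    obtain ⟨K', hKK', hK'c⟩ := exists_intermediate p hrm
    have hj : 2 ≤ m / r := by
      obtain ⟨j, hj⟩ := hrm
      rw [hj, Nat.mul_div_cancel_left _ hr.pos]
      by_contra h
      interval_cases j
      · omega
      · exact hmr (by rw [hj, mul_one])
    have hjm : m / r < m := Nat.div_lt_self (by omega) hr.one_lt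
    have hK' : K' ≠ ⊤ := by
      rintro rfl
      rw [Nat.card_congr Subfield.topEquiv.toEquiv, Module.natCard_eq_pow_finrank (K := K) (V := F)] at hK'c
      exact absurd (Nat.pow_right_injective (Finite.one_lt_card : 2 ≤ Nat.card K) hK'c) hjm.ne'
    have hle' : subGroupK K k ⊓ pslRange F ≤ subGroupK K' k ⊓ pslRange F := by
      refine inf_le_inf_right _ ?_
      rintro _ ⟨x, rfl⟩
      refine ⟨ProjGenLinGroup.map (Subfield.inclusion hKK') x, ?_⟩
      rw [MonoidHom.comp_apply, MonoidHom.comp_apply, ← MonoidHom.comp_apply (ProjGenLinGroup.map K'.subtype),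
        ← ProjGenLinGroup.map_comp]
      rfl
    have heq' := hM.eq _ (heq ▸ hle') (subGroupK_inf_lt hK' k)
    have hbig : Nat.card (subGroupK K' k) ≤ 2 * Nat.card ↥(subGroupK K' k ⊓ pslRange F) := by
      have h1 := ((subGroupK K' k ⊓ pslRange F).subgroupOf (subGroupK K' k)).card_mul_index
      rw [Nat.card_congr (Subgroup.subgroupOfEquivOfLe inf_le_left).toEquiv] at h1
      rw [← h1, mul_comm 2]
      refine Nat.mul_le_mul_left _ (Nat.le_of_dvd two_pos ?_)
      rw [← Subgroup.relIndex, inf_comm, Subgroup.inf_relIndex_right]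
      exact (Subgroup.relIndex_dvd_index_of_normal _ _).trans (index_pslRange (F := F) ▸ Nat.gcd_dvd_left _ _)
    rw [heq', card_subGroupK, hK'c] at hbig
    have hsmall : Nat.card M ≤ (Nat.card K + 1) * (Nat.card K * (Nat.card K - 1)) := by
      rw [← card_subGroupK K k, ← heq]
      exact Subgroup.card_le_of_le inf_le_left
    have := card_pgl_mono (Q := Nat.card K) (q := Nat.card K ^ (m / r)) Finite.one_lt_card
      (Nat.pow_le_pow_right Nat.card_pos hj)
    simp only [hm] at this hsmall hbig
    omega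

/-- Transfer of maximality. -/
theorem maxSub_of_isCoatom {M : Subgroup (Matrix.ProjectiveSpecialLinearGroup (Fin 2) F)} (h : IsCoatom M) :
    MaxSub (M.map (ProjectiveSpecialLinearGroup.toPGL (n := Fin 2) (R := F))) := by
  set f := ProjectiveSpecialLinearGroup.toPGL (n := Fin 2) (R := F)
  have hf : Function.Injective f := ProjectiveSpecialLinearGroup.toPGL_injective
  refine ⟨?_, fun K hMK hK => ?_⟩
  · rw [pslRange, MonoidHom.range_eq_map]
    exact (Subgroup.map_lt_map_iff_of_injective hf).2 h.lt_top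
  · have hKr : (K.comap f).map f = K := Subgroup.map_comap_eq_self hK.le
    rcases eq_or_lt_of_le (Subgroup.map_le_iff_le_comap.1 hMK) with e | e
    · rw [← hKr, ← e]
    · exfalso
      rw [h.2 _ e, ← MonoidHom.range_eq_map] at hKr
      exact hK.ne hKr.symm

end CfsgLib.PSL2
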