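import Cfsg.Agent.Lib.PSL2.Subfields

/-!
Which candidates in the list of maximal subgroups of `PSL₂(F)` occur.
-/

set_option autoImplicit false
set_option linter.style.haveILetI false
set_option linter.unusedSectionVars false

namespace CfsgLib.PSL2

open Matrix MulAction CfsgLib.Classical
open scoped LinearAlgebra.Projectivization

variable {F : Type*} [Field F] [Finite F] {p : ℕ} [Fact p.Prime] [CharP F p]

local notation "PG" => Matrix.ProjGenLinGroup (Fin 2) F
local notation "P1" => ℙ F (Fin 2 → F)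
local notation "PE" => ℙ (Ext2 F p) (Fin 2 → Ext2 F p)

theorem map_conj_map_conj (X : Subgroup PG) (g h : PG) :
    (X.map (MulAut.conj g).toMonoidHom).map (MulAut.conj h).toMonoidHom =
      X.map (MulAut.conj (h * g)).toMonoidHom := by
  rw [Subgroup.map_map]
  congr 1
  ext z
  simp [mul_assoc]

theorem le_map_conj_inv {X Y : Subgroup PG} {g : PG} (h : X.map (MulAut.conj g).toMonoidHom ≤ Y) :
    X ≤ Y.map (MulAut.conj g⁻¹).toMonoidHom := by
  intro x hx
  refine ⟨g * x * g⁻¹, h ⟨x, hx, rfl⟩, ?_⟩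
  simp [mul_assoc]

theorem map_conj_le_psl {X : Subgroup PG} (hX : X ≤ pslRange F) (g : PG) :
    X.map (MulAut.conj g).toMonoidHom ≤ pslRange F := by
  rintro _ ⟨x, hx, rfl⟩
  exact normal_pslRange.conj_mem _ (hX hx) g

theorem card_map_conj (X : Subgroup PG) (g : PG) :
    Nat.card (X.map (MulAut.conj g).toMonoidHom) = Nat.card X :=
  Subgroup.card_map_of_injective (MulAut.conj g).injective

theorem card_psl_le_subfield (K : Subfield F) (k : PG) :
    Nat.card (pslRange K) ≤ Nat.card ↥(subGroupK K k ⊓ pslRange F) := by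
  refine Nat.card_le_card_of_injective (fun x => ⟨k * ProjGenLinGroup.map K.subtype x.1 * k⁻¹,
    mem_subGroupK _, map_mem_psl K k x.2⟩) fun x y h => Subtype.ext ?_
  exact map_subtype_injective K.subtype (mul_left_cancel (mul_right_cancel (congrArg Subtype.val h)))

theorem eq_top_of_small {M : Subgroup PG} (hM : MaxSub M) {K : Subfield F} {k : PG} (hle : M ≤ subGroupK K k)
    (hsmall : Nat.card M < Nat.card (pslRange K)) : K = ⊤ := by
  by_contra hK
  have heq := hM.eq _ (le_inf hle hM.lt.le) (subGroupK_inf_lt hK k)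
  have := card_psl_le_subfield K k
  rw [heq] at this
  omega

variable (p) in
include p in
/-- A maximal subgroup conjugate to one over the prime field forces `q = p`. -/
theorem prime_of_small {M : Subgroup PG} (hM : MaxSub M) {K : Subfield F} (hK : Nat.card K = p)
    {X : Subgroup (Matrix.ProjGenLinGroup (Fin 2) K)} {g : PG}
    (hle : (X.map (ProjGenLinGroup.map K.subtype)).map (MulAut.conj g).toMonoidHom = M)
    (hsmall : Nat.card M < Nat.card (pslRange K)) : Nat.card F = p := by
  have hMK : M ≤ subGroupK K g := by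
    rw [← hle]
    rintro _ ⟨_, ⟨x, -, rfl⟩, rfl⟩
    exact mem_subGroupK x
  have hKtop := eq_top_of_small hM hMK hsmall
  rw [← hK, hKtop, Nat.card_congr Subfield.topEquiv.toEquiv]

theorem image_alt {G : Type*} [Group G] {K : Subfield F} {X : Subgroup (Matrix.ProjGenLinGroup (Fin 2) K)}
    (hX : X ≤ pslRange K) (e : X ≃* G) :
    X.map (ProjGenLinGroup.map K.subtype) ≤ pslRange F ∧
      Nonempty (↥(X.map (ProjGenLinGroup.map K.subtype)) ≃* G) := by
  refine ⟨?_, ⟨(X.equivMapOfInjective _ (map_subtype_injective K.subtype)).symm.trans e⟩⟩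
  rintro _ ⟨x, hx, rfl⟩
  simpa using map_mem_psl K 1 (hX hx)

theorem odd_of_not_dvd_twelve {n : ℕ} (h2 : 2 ∣ n) (hp : ¬ p ∣ n ∨ p = 3) : Odd (Nat.card F) := by
  obtain ⟨k, -, hk⟩ := card_eq_charPow (F := F) (p := p)
  have : p ≠ 2 := by rintro rfl; rcases hp with hp | hp <;> [exact hp h2; omega]
  rw [hk]
  exact ((Fact.out : p.Prime).odd_of_ne_two this).pow

theorem five_dvd_of_mod {q : ℕ} (h : q % 5 = 1 ∨ q % 5 = 4) : 5 ∣ q * (q ^ 2 - 1) := by
  refine dvd_mul_of_dvd_right ((Nat.modEq_iff_dvd' (Nat.one_le_pow _ _ (by omega))).1 ?_) _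
  rw [Nat.ModEq, Nat.pow_mod]
  rcases h with e | e <;> rw [e]

/-- A maximal `A₄`. -/
theorem tetra_max {M : Subgroup PG} (hM : MaxSub M) (hp : ¬ p ∣ Nat.card M) (e : M ≃* alternatingGroup (Fin 4)) :
    Nat.card F = p ∧ (p % 8 = 3 ∨ p % 8 = 5) ∧ ¬ (p % 10 = 1 ∨ p % 10 = 9) := by
  have hcM : Nat.card M = 12 := (Nat.card_congr e.toEquiv).trans card_alt_four
  rw [hcM] at hp
  have hp5 : 5 ≤ p := by
    have h2 := (Fact.out : p.Prime).two_le
    by_contra h
    interval_cases p
    · exact hp (by norm_num)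
    · exact hp (by norm_num)
    · exact absurd (Fact.out : Nat.Prime 4) (by norm_num)
  have hodd : Odd (Nat.card F) := odd_of_five_le (p := p) hp5
  obtain ⟨K, hK⟩ := exists_prime_subfield (F := F) p
  have hKodd : Odd (Nat.card K) := by rw [hK]; exact (Fact.out : p.Prime).odd_of_ne_two (by omega)
  obtain ⟨X, hX, ⟨eX⟩⟩ := exists_alt_four (F := K) hKodd
  obtain ⟨hY, ⟨eY⟩⟩ := image_alt hX eX
  obtain ⟨g, hg⟩ := alt_four_conj p hodd hY hM.lt.le eY e
  have hqp : Nat.card F = p := prime_of_small p hM hK hg (by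
    rw [hcM]
    have := card_psl_big (F := K) hKodd (by omega)
    omega)
  refine ⟨hqp, ?_, ?_⟩
  · by_contra h8
    have h8' : Nat.card F % 8 = 1 ∨ Nat.card F % 8 = 7 := by
      rw [hqp]; have := Nat.odd_iff.1 (hqp ▸ hodd); omega
    obtain ⟨Y, hMY, hYL, ⟨eY'⟩⟩ := alt_le_perm hodd h8' hM.lt.le e
    have hlt : Y < pslRange F := lt_of_le_of_ne hYL fun h => by
      have h1 : Nat.card Y = 24 := (Nat.card_congr eY'.toEquiv).trans card_perm_four
      rw [h] at h1
      have := card_psl_big hodd (by omega)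
      omega
    exact hMY.ne (hM.eq Y hMY.le hlt).symm
  · intro h10
    obtain ⟨τ, hτ⟩ := exists_tau (F := F) (five_dvd_of_mod (by omega))
    obtain ⟨Z, hZ, ⟨eZ⟩⟩ := exists_alt_five hτ
    obtain ⟨W, hWZ, ⟨eW⟩⟩ := exists_alt_four_of_alt_five eZ
    obtain ⟨g, hg⟩ := alt_four_conj p hodd (hWZ.trans hZ) hM.lt.le eW e
    have hcZ : Nat.card Z = 60 := (Nat.card_congr eZ.toEquiv).trans card_alt_five
    have hlt : Z.map (MulAut.conj g).toMonoidHom < pslRange F := lt_of_le_of_ne (map_conj_le_psl hZ g) fun h => by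
      have h1 := card_map_conj Z g
      rw [h, hcZ] at h1
      have := card_psl_ge hodd (by omega)
      omega
    have heq := hM.eq _ (hg.symm.le.trans (Subgroup.map_mono hWZ)) hlt
    have h1 := card_map_conj Z g
    rw [heq, hcM, hcZ] at h1
    omega

/-- A maximal `S₄`. -/
theorem octa_max {M : Subgroup PG} (hM : MaxSub M) (hp : ¬ p ∣ Nat.card M) (e : M ≃* Equiv.Perm (Fin 4)) :
    Nat.card F = p ∧ (p % 8 = 1 ∨ p % 8 = 7) := by
  have hcM : Nat.card M = 24 := (Nat.card_congr e.toEquiv).trans card_perm_four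
  rw [hcM] at hp
  have hp5 : 5 ≤ p := by
    have h2 := (Fact.out : p.Prime).two_le
    by_contra h
    interval_cases p
    · exact hp (by norm_num)
    · exact hp (by norm_num)
    · exact absurd (Fact.out : Nat.Prime 4) (by norm_num)
  have hodd : Odd (Nat.card F) := odd_of_five_le (p := p) hp5
  obtain ⟨z, hz⟩ := exists_orderOf_four_perm
  have h8 := card_mod_of_orderOf_four p (hM.lt.le (e.symm z).2)
    (by rw [Subgroup.orderOf_coe, MulEquiv.orderOf_eq, hz])
  -- the prime field: `p ≡ ±1 (mod 8)` or the `A₄` of the prime field has index two in `M`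
  obtain ⟨K, hK⟩ := exists_prime_subfield (F := F) p
  have hKodd : Odd (Nat.card K) := by rw [hK]; exact (Fact.out : p.Prime).odd_of_ne_two (by omega)
  obtain ⟨x₀, y₀, h₀⟩ := exists_fourPair (F := K) p hKodd
  obtain ⟨x, y, hxy, hMeq⟩ := eq_norm_of_perm hodd hM.lt.le e
  have hpair : FourPair (ProjGenLinGroup.map K.subtype x₀) (ProjGenLinGroup.map K.subtype y₀) :=
    { hx := by simpa using map_mem_psl K 1 h₀.hx
      hy := by simpa using map_mem_psl K 1 h₀.hy
      x1 := fun h => h₀.x1 (map_subtype_injective K.subtype (h.trans (map_one _).symm))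
      y1 := fun h => h₀.y1 (map_subtype_injective K.subtype (h.trans (map_one _).symm))
      ne := fun h => h₀.ne (map_subtype_injective K.subtype h)
      sx := by rw [← map_mul, h₀.sx, map_one]
      sy := by rw [← map_mul, h₀.sy, map_one]
      comm := h₀.comm.map _ }
  obtain ⟨g, hgx, hgy⟩ := hpair.conj p hodd hxy
  have himg : (fourNorm x₀ y₀).map (ProjGenLinGroup.map K.subtype) =
      fourNorm (ProjGenLinGroup.map K.subtype x₀) (ProjGenLinGroup.map K.subtype y₀) := by
    refine Subgroup.eq_of_le_of_card_ge ?_ ?_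
    · rintro _ ⟨n, hn, rfl⟩
      refine hpair.mem_norm hodd ?_ ?_
      · have h1 := fourNorm_conj_mem hn h₀.left_mem
        rw [mem_fourGrp] at h1 ⊢
        rw [← map_inv, ← map_mul, ← map_mul]
        exact ⟨h1.1.map _, h1.2.map _⟩
      · have h1 := fourNorm_conj_mem hn h₀.right_mem
        rw [mem_fourGrp] at h1 ⊢
        rw [← map_inv, ← map_mul, ← map_mul]
        exact ⟨h1.1.map _, h1.2.map _⟩
    · rw [Subgroup.card_map_of_injective (map_subtype_injective K.subtype), h₀.card_norm hKodd,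
        hpair.card_norm hodd]
  have hqp : Nat.card F = p := prime_of_small p hM hK (X := fourNorm x₀ y₀) (g := g) (by
      rw [himg, fourNorm_map_conj, hgx, hgy, hMeq]) (by
    rw [hcM]
    have := card_psl_big (F := K) hKodd (by omega)
    omega)
  exact ⟨hqp, hqp ▸ h8⟩

/-- The roots of `τ² = τ + 1` lie in any subfield containing one of them. -/
theorem roots_mem {K : Subfield F} {τ : F} (hτ : τ * τ = τ + 1) (hτK : τ ∈ K) {t : F} (ht : t * t = t + 1) :
    t ∈ K := by
  have h : (t - τ) * (t + τ - 1) = 0 := by linear_combination ht - hτ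
  rcases mul_eq_zero.1 h with e | e
  · rw [sub_eq_zero.1 e]; exact hτK
  · rw [show t = 1 - τ by linear_combination e]
    exact K.sub_mem K.one_mem hτK

variable (p) in
include p in
/-- A maximal `A₅`. -/
theorem icosa_max {M : Subgroup PG} (hM : MaxSub M) (hp : ¬ p ∣ Nat.card M ∨ p = 3)
    (e : M ≃* alternatingGroup (Fin 5)) :
    (Nat.card F % 10 = 1 ∨ Nat.card F % 10 = 9) ∧
      (Nat.card F = p ∨ (Nat.card F = p ^ 2 ∧ (p % 10 = 3 ∨ p % 10 = 7))) := by
  have hcM : Nat.card M = 60 := (Nat.card_congr e.toEquiv).trans card_alt_five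
  have hodd : Odd (Nat.card F) := odd_of_not_dvd_twelve (p := p) (n := 60) (by norm_num) (hcM ▸ hp)
  have hpr := (Fact.out : p.Prime)
  have hp5 : p ≠ 5 := by
    rintro rfl
    rcases hp with hp | hp
    · exact hp (by rw [hcM]; norm_num)
    · omega
  have hp2 : p ≠ 2 := ne_two_of_odd hodd
  have hpm : p % 2 = 1 := hpr.eq_two_or_odd.resolve_left hp2
  have hpm5 : p % 5 ≠ 0 := fun h =>
    hp5 ((Nat.prime_dvd_prime_iff_eq Nat.prime_five hpr).1 (Nat.dvd_of_mod_eq_zero h)).symm
  have h2F : (2 : F) ≠ 0 := fun h => by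
    have h1 : ((2 : ℕ) : F) = 0 := by simpa using h
    rw [CharP.cast_eq_zero_iff F p] at h1
    exact hp2 ((Nat.prime_dvd_prime_iff_eq hpr Nat.prime_two).1 h1)
  obtain ⟨τ, hτ⟩ := exists_tau (F := F) (five_dvd_of_alt_five e)
  obtain ⟨K₀, hK₀⟩ := exists_prime_subfield (F := F) p
  have hK₀odd : Odd (Nat.card K₀) := by rw [hK₀]; exact hpr.odd_of_ne_two hp2
  by_cases hτK : τ ∈ K₀
  · -- all roots are in the prime field
    obtain ⟨k, hk⟩ := icosa_into h2F (fun t ht => roots_mem hτ hτK ht) hM.lt.le e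
    have h5K : 5 ∣ p * (p ^ 2 - 1) := by
      obtain ⟨Z, hZ, ⟨eZ⟩⟩ := exists_alt_five (F := K₀) (τ := ⟨τ, hτK⟩) (Subtype.ext hτ)
      exact hK₀ ▸ five_dvd_of_alt_five eZ
    have hmod : p % 10 = 1 ∨ p % 10 = 9 := by
      by_contra hne
      have : p % 5 = 2 ∨ p % 5 = 3 := by omega
      have h1 : (p ^ 2 - 1) % 5 = 3 := by
        have h2 : p ^ 2 % 5 = 4 := by
          rw [Nat.pow_mod]; rcases this with e | e <;> rw [e]
        omega
      rcases Nat.prime_five.dvd_mul.1 h5K with h | h <;> omega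
    have h11 : 7 ≤ p := by have := hpr.two_le; omega
    have hK := eq_top_of_small hM hk (by
      rw [hcM]
      have := card_psl_ge (F := K₀) hK₀odd (by omega)
      omega)
    have hqp : Nat.card F = p := by rw [← hK₀, hK, Nat.card_congr Subfield.topEquiv.toEquiv]
    exact ⟨by rw [hqp]; exact hmod, .inl hqp⟩
  · have hmod : p % 5 = 2 ∨ p % 5 = 3 := by
      by_contra hne
      obtain ⟨t, ht⟩ := exists_tau (F := K₀) (hK₀.symm ▸ five_dvd_of_mod (show p % 5 = 1 ∨ p % 5 = 4 by omega))
      exact hτK (roots_mem (congrArg Subtype.val ht : (t : F) * t = t + 1) t.2 hτ)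
    set φ := iterateFrobenius F p 2 with hφ
    set K : Subfield F := φ.eqLocusField (RingHom.id F) with hKd
    have hmemK : ∀ x : F, x ∈ K ↔ x ^ p ^ 2 = x := fun x => Iff.rfl
    have hfrob : ∀ t : F, t * t = t + 1 → (frobenius F p t) * (frobenius F p t) = frobenius F p t + 1 :=
      fun t ht => by rw [← map_mul, ht, map_add, map_one]
    have hroots : ∀ t : F, t * t = t + 1 → t ∈ K := by
      intro t ht
      rw [hmemK, pow_two p, pow_mul]
      show frobenius F p (frobenius F p t) = t
      have hcases : ∀ s : F, s * s = s + 1 → s = t ∨ s = 1 - t := fun s hs => by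
        have h : (s - t) * (s + t - 1) = 0 := by linear_combination hs - ht
        rcases mul_eq_zero.1 h with e | e
        · exact .inl (sub_eq_zero.1 e)
        · exact .inr (by linear_combination e)
      rcases hcases _ (hfrob t ht) with e1 | e1
      · rw [e1, e1]
      · rw [e1, map_sub, map_one, e1]; ring
    obtain ⟨a, ha, hKa⟩ := natCard_eq_pow (F := F) (p := p) (K := K)
    have ha2 : a = 2 := by
      have hle : K₀ ≤ K := fun x hx => by
        rw [hmemK]
        have h1 := pow_natCard_eq hx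
        rw [hK₀] at h1
        rw [pow_two p, pow_mul, h1, h1]
      have h1 : a ≠ 1 := fun h => hτK (by
        have hKe : K₀ = K := subfield_eq_of_card (by rw [hK₀, hKa, h, pow_one])
        rw [hKe]; exact hroots τ hτ)
      have h2 : a ≤ 2 := by
        classical
        haveI := Fintype.ofFinite F
        have hlt : 1 < p ^ 2 := Nat.one_lt_pow two_ne_zero hpr.one_lt
        set P : Polynomial F := Polynomial.X ^ p ^ 2 - Polynomial.X with hP
        have hP0 : P ≠ 0 := FiniteField.X_pow_card_sub_X_ne_zero F hlt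
        have hsub : (K : Set F).toFinset ⊆ P.roots.toFinset := fun y hy => by
          rw [Multiset.mem_toFinset, Polynomial.mem_roots hP0]
          rw [Set.mem_toFinset] at hy
          simp [hP, sub_eq_zero, (hmemK y).1 hy]
        have h3 := (Finset.card_le_card hsub).trans ((Multiset.toFinset_card_le _).trans (Polynomial.card_roots' P))
        rw [FiniteField.X_pow_card_sub_X_natDegree_eq F hlt, Set.toFinset_card, ← Nat.card_eq_fintype_card] at h3
        exact (Nat.pow_le_pow_iff_right hpr.one_lt).1 (hKa ▸ h3)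
      omega
    subst ha2
    obtain ⟨k, hk⟩ := icosa_into h2F hroots hM.lt.le e
    have hp3 : 3 ≤ p := by have := hpr.two_le; omega
    have h9 : 7 ≤ Nat.card K := by
      rw [hKa]
      exact le_trans (by norm_num) (Nat.pow_le_pow_left hp3 2)
    have hK := eq_top_of_small hM hk (by
      rw [hcM]
      have := card_psl_ge (F := K) (by rw [hKa]; exact (hpr.odd_of_ne_two hp2).pow) h9
      omega)
    have hq : Nat.card F = p ^ 2 := by rw [← hKa, hK, Nat.card_congr Subfield.topEquiv.toEquiv]
    refine ⟨?_, .inr ⟨hq, by omega⟩⟩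
    rw [hq, Nat.pow_mod]
    have h10 : p % 10 = 3 ∨ p % 10 = 7 := by omega
    rcases h10 with e | e <;> rw [e] <;> decide

theorem pairStab_map_conj (g : PG) (a b : PE) :
    (pairStab a b : Subgroup PG).map (MulAut.conj g).toMonoidHom = pairStab (g • a) (g • b) := by
  ext z
  rw [Subgroup.mem_map_equiv]
  show ((MulAut.conj g).symm z • a = a ∧ (MulAut.conj g).symm z • b = b ∨
    (MulAut.conj g).symm z • a = b ∧ (MulAut.conj g).symm z • b = a) ↔ _
  have key : ∀ c d : PE, (MulAut.conj g).symm z • c = d ↔ z • g • c = g • d := fun c d => by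
    rw [show (MulAut.conj g).symm z = g⁻¹ * z * g from MulAut.conj_symm_apply g z, mul_smul, mul_smul,
      inv_smul_eq_iff]
  rw [key, key, key, key]
  rfl

/-- A torus normaliser sharing its rotations with a larger proper subgroup is not maximal. -/
theorem torus_not_max {a b : PE} (hg : GoodPair a b) (hM : MaxSub (pairStab a b ⊓ pslRange F))
    (hq : 3 < Nat.card F) (hodd : Odd (Nat.card F)) {X : Subgroup PG} (hX : X < pslRange F) {r w : PG}
    (hrX : r ∈ X) (hwX : w ∈ X) (h3 : 3 ≤ orderOf r) (hinv : w * r * w⁻¹ = r⁻¹) (hpr : ¬ p ∣ orderOf r)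
    (hk : orderOf r = torusCard a / 2)
    (htype : ∀ a' : PE, orderOf r ∣ torusCard a' / 2 → (IsRat a' ↔ IsRat a))
    (hcard : Nat.card X ≠ 2 * orderOf r) : False := by
  haveI := charP_ext2 (F := F) (p := p)
  have hPE : P1Like p PG PE := p1Like_ext
  have hr1 : r ≠ 1 := fun e => by rw [e, orderOf_one] at h3; omega
  have hrp : r ^ p ≠ 1 := fun e => by
    rcases (Nat.dvd_prime (Fact.out : p.Prime)).1 (orderOf_dvd_of_pow_eq_one e) with h | h
    · exact absurd (orderOf_eq_one_iff.1 h) hr1
    · exact hpr (by rw [h])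
  obtain ⟨a', ha'⟩ := exists_fix_ext (p := p) r
  obtain ⟨b', hba', hb'⟩ := hPE.exists_other hrp ha'
  have hg' := goodPair_of_fixed hr1 hba'.symm ha' hb'
  obtain ⟨r₁, w₁, -, -, -, -, -, -, hr₁o, hz, hc, -⟩ := torus_psl hg' (fun _ => by omega)
  have hrz : r ∈ Subgroup.zpowers r₁ := hz ▸ ⟨⟨ha', hb'⟩, hX.le hrX⟩
  have hdvd : orderOf r ∣ torusCard a' / 2 := by
    have h := orderOf_dvd_natCard (⟨r, hrz⟩ : Subgroup.zpowers r₁)
    rwa [Nat.card_zpowers, Subgroup.orderOf_mk, hr₁o, gcd_two_card_sub_one_of_odd hodd] at h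
  have hty := htype a' hdvd
  have htc : torusCard a' = torusCard a := by
    rw [torusCard, torusCard]
    by_cases h : IsRat a
    · rw [if_pos h, if_pos (hty.2 h)]
    · rw [if_neg h, if_neg (fun e => h (hty.1 e))]
  rw [gcd_two_card_sub_one_of_odd hodd, htc, ← hk] at hr₁o
  -- `w` swaps the two fixed points
  have hfix : ∀ c : PE, r • c = c → c = a' ∨ c = b' := fun c hc' => by
    by_contra hne
    push Not at hne
    exact hr1 (hPE.sharp hba'.symm (Ne.symm hne.1) (Ne.symm hne.2) ha' hb' hc')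
  have hwfix : ∀ c : PE, r • c = c → r • w • c = w • c := fun c hc' => by
    have h1 : r⁻¹ • w • c = w • c := by
      rw [← hinv, mul_smul, mul_smul, inv_smul_smul, hc']
    exact (inv_smul_eq_iff.1 h1).symm
  have hswap : w • a' = b' ∧ w • b' = a' := by
    rcases hfix _ (hwfix a' ha') with e | e <;> rcases hfix _ (hwfix b' hb') with e' | e'
    · exact absurd (smul_left_cancel w (e.trans e'.symm)) hba'.symm
    · exfalso
      haveI := hPE.two_cyclic hba'.symm
      letI := IsCyclic.commGroup (α := ↥(stabilizer PG a' ⊓ stabilizer PG b'))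
      have hc' : w * r = r * w := congrArg Subtype.val (mul_comm
        (⟨w, e, e'⟩ : ↥(stabilizer PG a' ⊓ stabilizer PG b')) ⟨r, ha', hb'⟩)
      rw [hc', mul_inv_cancel_right] at hinv
      have : r ^ 2 = 1 := by rw [pow_two]; nth_rw 2 [hinv]; exact mul_inv_cancel r
      have := orderOf_le_of_pow_eq_one two_pos this
      omega
    · exact ⟨e, e'⟩
    · exact absurd (smul_left_cancel w (e.trans e'.symm)) hba'.symm
  set T' := pairStab a' b' ⊓ pslRange F with hT'
  have hTX : T' ≤ X := by
    have hrT : r ∈ T' := ⟨.inl ⟨ha', hb'⟩, hX.le hrX⟩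
    have hwT : w ∈ T' := ⟨.inr hswap, hX.le hwX⟩
    have hsub : X ⊓ T' = T' := by
      refine Subgroup.eq_of_le_of_card_ge inf_le_right ?_
      have h1 := Subgroup.card_dvd_of_le (inf_le_right : X ⊓ T' ≤ T')
      have h2 : Subgroup.zpowers r < X ⊓ T' := lt_of_le_of_ne (Subgroup.zpowers_le.2 ⟨hrX, hrT⟩) fun e => by
        obtain ⟨n, hn⟩ := (e ▸ ⟨hwX, hwT⟩ : w ∈ Subgroup.zpowers r)
        have : w • a' = a' := by
          rw [← show r ^ n = w from hn]
          exact Subgroup.zpow_mem (stabilizer PG a') ha' n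
        exact hba' (hswap.1.symm.trans this)
      have h4 : orderOf r < Nat.card ↥(X ⊓ T') := by
        rw [← Nat.card_zpowers]
        exact lt_of_le_of_ne (Subgroup.card_le_of_le h2.le) fun e =>
          h2.ne (Subgroup.eq_of_le_of_card_ge h2.le e.ge)
      rw [hc, hr₁o] at h1 ⊢
      obtain ⟨c, hc'⟩ := h1
      rcases c with _ | _ | c
      · omega
      · omega
      · have : Nat.card ↥(X ⊓ T') * 2 ≤ Nat.card ↥(X ⊓ T') * (c + 1 + 1) := Nat.mul_le_mul_left _ (by omega)
        omega
    rw [← hsub]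
    exact inf_le_left
  obtain ⟨g, hga, hgb⟩ := goodPair_conj hg hg' hty.symm
  have hmap : (pairStab a b ⊓ pslRange F).map (MulAut.conj g).toMonoidHom ≤ T' := by
    refine le_inf ((Subgroup.map_mono inf_le_left).trans ?_) (map_conj_le_psl inf_le_right g)
    rw [pairStab_map_conj, hga, hgb]
  have hlt : X.map (MulAut.conj g⁻¹).toMonoidHom < pslRange F :=
    lt_of_le_of_ne (map_conj_le_psl hX.le _) fun e => hX.ne (Subgroup.eq_of_le_of_card_ge hX.le (by
      rw [← e, card_map_conj]))
  have heq := hM.eq _ (le_map_conj_inv (hmap.trans hTX)) hlt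
  have h1 := card_map_conj X g⁻¹
  obtain ⟨r₂, -, -, -, -, -, -, -, hr₂o, -, hc₂, -⟩ := torus_psl hg (fun _ => by omega)
  rw [heq, hc₂, hr₂o, gcd_two_card_sub_one_of_odd hodd, ← hk] at h1
  exact hcard h1.symm

theorem exists_inverted_perm (k : ℕ) (hk : k = 3 ∨ k = 4) :
    ∃ r w : Equiv.Perm (Fin 4), orderOf r = k ∧ w * r * w⁻¹ = r⁻¹ := by
  haveI := Fact.mk Nat.prime_three
  rcases hk with rfl | rfl
  · exact ⟨Equiv.swap 1 3 * Equiv.swap 1 2, Equiv.swap 1 2, orderOf_eq_prime (by decide) (by decide), by decide⟩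
  · exact ⟨finRotate 4, Equiv.swap 1 3, orderOf_eq_prime_pow (p := 2) (n := 1) (by decide) (by decide), by decide⟩

theorem exists_inverted_alt : ∃ r w : alternatingGroup (Fin 5), orderOf r = 5 ∧ w * r * w⁻¹ = r⁻¹ := by
  haveI := Fact.mk Nat.prime_five
  refine ⟨⟨finRotate 5, Equiv.Perm.mem_alternatingGroup.2 (by decide)⟩,
    ⟨Equiv.swap 1 4 * Equiv.swap 2 3, Equiv.Perm.mem_alternatingGroup.2 (by decide)⟩, ?_, ?_⟩
  · exact orderOf_eq_prime (by decide +kernel) (by decide +kernel)
  · decide +kernel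

/-- The small torus normalisers that are not maximal. -/
theorem torus_excluded {a b : PE} (hg : GoodPair a b) (hq : 3 < Nat.card F)
    (hM : MaxSub (pairStab a b ⊓ pslRange F)) :
    (IsRat a → Nat.card F ∉ ({5, 7, 9, 11} : Finset ℕ)) ∧ (¬ IsRat a → Nat.card F ∉ ({7, 9} : Finset ℕ)) := by
  haveI := charP_ext2 (F := F) (p := p)
  have hpr := (Fact.out : p.Prime)
  -- the contradiction from an octahedral or icosahedral subgroup
  have perm_case : ∀ k : ℕ, (k = 3 ∨ k = 4) → k = torusCard a / 2 → Odd (Nat.card F) →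
      (Nat.card F % 8 = 1 ∨ Nat.card F % 8 = 7) → ¬ p ∣ k →
      (∀ a' : PE, k ∣ torusCard a' / 2 → (IsRat a' ↔ IsRat a)) → False := by
    intro k hk hkt ho h8 hpk htype
    obtain ⟨X, hX, ⟨e⟩⟩ := exists_perm_four (F := F) ho h8
    obtain ⟨r, w, hr, hw⟩ := exists_inverted_perm k hk
    have hcX : Nat.card X = 24 := (Nat.card_congr e.toEquiv).trans card_perm_four
    have hlt : X < pslRange F := lt_of_le_of_ne hX fun h => by
      rw [h] at hcX
      have := card_psl_ge ho (by omega)
      omega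
    have hor : orderOf ((e.symm r : X) : PG) = k := by rw [Subgroup.orderOf_coe, MulEquiv.orderOf_eq, hr]
    refine torus_not_max hg hM hq ho hlt (e.symm r).2 (e.symm w).2 (by omega) ?_ (by rw [hor]; exact hpk)
      (by rw [hor]; exact hkt) (by rw [hor]; exact htype) (by rw [hor, hcX]; omega)
    rw [← Subgroup.coe_inv, ← Subgroup.coe_mul, ← Subgroup.coe_mul, ← map_inv, ← map_mul, ← map_mul, hw,
      map_inv, Subgroup.coe_inv]
  have alt_case : 5 = torusCard a / 2 → Odd (Nat.card F) → 9 ≤ Nat.card F → ¬ p ∣ 5 →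
      5 ∣ Nat.card F * (Nat.card F ^ 2 - 1) →
      (∀ a' : PE, 5 ∣ torusCard a' / 2 → (IsRat a' ↔ IsRat a)) → False := by
    intro hkt ho h9 hpk h5 htype
    obtain ⟨τ, hτ⟩ := exists_tau (F := F) h5
    obtain ⟨X, hX, ⟨e⟩⟩ := exists_alt_five hτ
    obtain ⟨r, w, hr, hw⟩ := exists_inverted_alt
    have hcX : Nat.card X = 60 := (Nat.card_congr e.toEquiv).trans card_alt_five
    have hlt : X < pslRange F := lt_of_le_of_ne hX fun h => by
      rw [h] at hcX
      have := card_psl_ge ho (by omega)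
      omega
    have hor : orderOf ((e.symm r : X) : PG) = 5 := by rw [Subgroup.orderOf_coe, MulEquiv.orderOf_eq, hr]
    refine torus_not_max hg hM hq ho hlt (e.symm r).2 (e.symm w).2 (by omega) ?_ (by rw [hor]; exact hpk)
      (by rw [hor]; exact hkt) (by rw [hor]; exact htype) (by rw [hor, hcX]; omega)
    rw [← Subgroup.coe_inv, ← Subgroup.coe_mul, ← Subgroup.coe_mul, ← map_inv, ← map_mul, ← map_mul, hw,
      map_inv, Subgroup.coe_inv]
  have hchar : ∀ l n : ℕ, l.Prime → Nat.card F = l ^ n → p = l := by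
    intro l n hl hln
    obtain ⟨k, hk, hk'⟩ := card_eq_charPow (F := F) (p := p)
    rw [hln] at hk'
    exact ((Nat.prime_dvd_prime_iff_eq hpr hl).1 (hpr.dvd_of_dvd_pow (hk' ▸ dvd_pow_self p (by omega))))
  refine ⟨fun ha hmem => ?_, fun ha hmem => ?_⟩
  · simp only [Finset.mem_insert, Finset.mem_singleton] at hmem
    have htc : torusCard a = Nat.card F - 1 := by rw [torusCard, if_pos ha]
    have other : ∀ k : ℕ, (¬ k ∣ (Nat.card F + 1) / 2) → ∀ a' : PE, k ∣ torusCard a' / 2 → (IsRat a' ↔ IsRat a) := by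
      intro k hk a' hd
      refine ⟨fun _ => ha, fun _ => ?_⟩
      by_contra h
      rw [torusCard, if_neg h] at hd
      exact hk hd
    rcases hmem with h | h | h | h
    · -- a four-group lies in a tetrahedral group
      have ho : Odd (Nat.card F) := by rw [h]; decide
      obtain ⟨r, w, -, -, -, -, -, -, hro, -, hc, ⟨e⟩⟩ := torus_psl hg (fun _ => by omega)
      rw [htc, gcd_two_card_sub_one_of_odd ho, h] at hro
      rw [hro] at hc e
      haveI : IsKleinFour ↥(pairStab a b ⊓ pslRange F) :=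
        ⟨hc, (Monoid.exponent_eq_of_mulEquiv e).trans (by rw [DihedralGroup.exponent]; rfl)⟩
      obtain ⟨x, y, hxy, hV⟩ := pair_of_klein ho (V := pairStab a b ⊓ pslRange F) inferInstance inf_le_right
      obtain ⟨Y, hY, hYL, ⟨i⟩⟩ := hxy.exists_alt ho
      have hlt : fourNorm x y ⊓ pslRange F < pslRange F := lt_of_le_of_ne inf_le_right fun e => by
        have h1 := two_mul_psl_of_odd ho
        have h2 := Subgroup.card_le_of_le (inf_le_left : fourNorm x y ⊓ pslRange F ≤ fourNorm x y)
        rw [e, hxy.card_norm ho] at h2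
        rw [h] at h1
        omega
      have heq := hM.eq _ (le_inf (hV ▸ Subgroup.le_normalizer) hM.lt.le) hlt
      have h1 := Subgroup.card_le_of_le ((le_inf hY hYL).trans heq.le)
      rw [hc, Nat.card_congr i.toEquiv, card_alt_four] at h1
      omega
    · have hp7 : p = 7 := hchar 7 1 (by norm_num) (by rw [h]; norm_num)
      exact perm_case 3 (.inl rfl) (by rw [htc, h]) (by rw [h]; decide) (by omega) (by rw [hp7]; decide)
        (other 3 (by rw [h]; decide))
    · have hp3 : p = 3 := hchar 3 2 (by norm_num) (by rw [h]; norm_num)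
      exact perm_case 4 (.inr rfl) (by rw [htc, h]) (by rw [h]; decide) (by omega) (by rw [hp3]; decide)
        (other 4 (by rw [h]; decide))
    · have hp11 : p = 11 := hchar 11 1 (by norm_num) (by rw [h]; norm_num)
      exact alt_case (by rw [htc, h]) (by rw [h]; decide) (by omega) (by rw [hp11]; decide)
        (by rw [h]; decide) (other 5 (by rw [h]; decide))
  · simp only [Finset.mem_insert, Finset.mem_singleton] at hmem
    have htc : torusCard a = Nat.card F + 1 := by rw [torusCard, if_neg ha]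
    have other : ∀ k : ℕ, (¬ k ∣ (Nat.card F - 1) / 2) → ∀ a' : PE, k ∣ torusCard a' / 2 → (IsRat a' ↔ IsRat a) := by
      intro k hk a' hd
      refine ⟨fun h => ?_, fun h => absurd h ha⟩
      rw [torusCard, if_pos h] at hd
      exact absurd hd hk
    rcases hmem with h | h
    · have hp7 : p = 7 := hchar 7 1 (by norm_num) (by rw [h]; norm_num)
      exact perm_case 4 (.inr rfl) (by rw [htc, h]) (by rw [h]; decide) (by omega) (by rw [hp7]; decide)
        (other 4 (by rw [h]; decide))
    · have hp3 : p = 3 := hchar 3 2 (by norm_num) (by rw [h]; norm_num)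
      exact alt_case (by rw [htc, h]) (by rw [h]; decide) (by omega) (by rw [hp3]; decide)
        (by rw [h]; decide) (other 5 (by rw [h]; decide))

end CfsgLib.PSL2
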