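import Cfsg.Agent.Lib.PSL2.Fields
import Cfsg.Agent.Lib.PSL2.Icosa

/-!
The maximal subgroups of `PSL₂(F)` exist as listed.
-/

set_option autoImplicit false
set_option linter.style.haveILetI false
set_option linter.unusedSectionVars false

namespace CfsgLib.PSL2

open Matrix MulAction CfsgLib.Classical
open scoped LinearAlgebra.Projectivization

variable {F : Type*} [Field F] [Finite F] {p : ℕ} [Fact p.Prime] [CharP F p]

local notation "PG" => Matrix.ProjGenLinGroup (Fin 2) F
local notation "P1" => ℙ F (Fin 2 → F)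
local notation "PE" => ℙ (Ext2 F p) (Fin 2 → Ext2 F p)

theorem exists_maxSub {H : Subgroup PG} (h : H < pslRange F) : ∃ M : Subgroup PG, MaxSub M ∧ H ≤ M := by
  haveI : Finite (Subgroup PG) := Finite.of_injective (fun K => (K : Set PG)) SetLike.coe_injective
  obtain ⟨M, hHM, hM⟩ := (Set.toFinite {K : Subgroup PG | K < pslRange F}).exists_le_maximal h
  exact ⟨M, ⟨hM.prop, fun K hK hK' => le_antisymm (hM.le_of_ge hK' hK) hK⟩, hHM⟩

theorem maxSub_of_forall {H : Subgroup PG} (h : H < pslRange F)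
    (hall : ∀ M : Subgroup PG, MaxSub M → H ≤ M → M = H) : MaxSub H := by
  obtain ⟨M, hM, hHM⟩ := exists_maxSub h
  exact hall M hM hHM ▸ hM

theorem map_comap_psl {M : Subgroup PG} (hM : M ≤ pslRange F) :
    (M.comap (ProjectiveSpecialLinearGroup.toPGL (n := Fin 2) (R := F))).map
      (ProjectiveSpecialLinearGroup.toPGL (n := Fin 2) (R := F)) = M :=
  Subgroup.map_comap_eq_self hM

theorem isCoatom_of_maxSub {M : Subgroup PG} (h : MaxSub M) :
    IsCoatom (M.comap (ProjectiveSpecialLinearGroup.toPGL (n := Fin 2) (R := F))) := by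
  set f := ProjectiveSpecialLinearGroup.toPGL (n := Fin 2) (R := F)
  have hf : Function.Injective f := ProjectiveSpecialLinearGroup.toPGL_injective
  refine ⟨fun e => ?_, fun K hK => ?_⟩
  · have h1 := map_comap_psl h.lt.le
    rw [e, ← MonoidHom.range_eq_map] at h1
    exact h.lt.ne h1.symm
  · by_contra hne
    have h2 : K.map f < pslRange F := by
      rw [pslRange, MonoidHom.range_eq_map]
      exact (Subgroup.map_lt_map_iff_of_injective hf).2 (lt_top_iff_ne_top.2 hne)
    have h1 : K.map f = M := h.eq _ (by rw [← map_comap_psl h.lt.le]; exact Subgroup.map_mono hK.le) h2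
    rw [← h1, Subgroup.comap_map_eq_self_of_injective hf] at hK
    exact lt_irrefl _ hK

theorem comap_equiv {M : Subgroup PG} (hM : M ≤ pslRange F) :
    Nonempty (↥(M.comap (ProjectiveSpecialLinearGroup.toPGL (n := Fin 2) (R := F))) ≃* M) :=
  ⟨((M.comap _).equivMapOfInjective _ ProjectiveSpecialLinearGroup.toPGL_injective).trans
    (MulEquiv.subgroupCongr (map_comap_psl hM))⟩

theorem lt_psl_of_card {H : Subgroup PG} (hH : H ≤ pslRange F) {n : ℕ} (hn : Nat.card H = n)
    (hne : Nat.gcd 2 (Nat.card F - 1) * n ≠ (Nat.card F + 1) * (Nat.card F * (Nat.card F - 1))) :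
    H < pslRange F :=
  lt_of_le_of_ne hH fun e => hne (by rw [← hn, e, card_pslRange_mul])

theorem two_mul_psl_of_odd (hodd : Odd (Nat.card F)) :
    2 * Nat.card (pslRange F) = (Nat.card F + 1) * (Nat.card F * (Nat.card F - 1)) := by
  rw [two_mul_card_pslRange_of_odd hodd, card_pgl_two rfl]

theorem card_psl_ge (hodd : Odd (Nat.card F)) (hq : 7 ≤ Nat.card F) : 168 ≤ Nat.card (pslRange F) := by
  have h := two_mul_psl_of_odd hodd
  have h2 : 8 * (7 * 6) ≤ (Nat.card F + 1) * (Nat.card F * (Nat.card F - 1)) :=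
    Nat.mul_le_mul (by omega) (Nat.mul_le_mul hq (by omega))
  omega

theorem orderOf_map_equiv {H : Subgroup PG} {G : Type*} [Group G] (e : H ≃* G) {g : PG} (hg : g ∈ H) :
    orderOf (e ⟨g, hg⟩) = orderOf g := by
  rw [MulEquiv.orderOf_eq, Subgroup.orderOf_mk]

theorem orderOf_alt_four (g : alternatingGroup (Fin 4)) : orderOf g ∣ 2 ∨ orderOf g ∣ 3 := by
  have h : ∀ g : alternatingGroup (Fin 4), g ^ 2 = 1 ∨ g ^ 3 = 1 := by decide +kernel
  exact (h g).imp orderOf_dvd_of_pow_eq_one orderOf_dvd_of_pow_eq_one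

theorem orderOf_perm_four (g : Equiv.Perm (Fin 4)) : orderOf g ∣ 4 ∨ orderOf g ∣ 3 := by
  have h : ∀ g : Equiv.Perm (Fin 4), g ^ 4 = 1 ∨ g ^ 3 = 1 := by decide +kernel
  exact (h g).imp orderOf_dvd_of_pow_eq_one orderOf_dvd_of_pow_eq_one

theorem orderOf_alt_five (g : alternatingGroup (Fin 5)) : orderOf g ∣ 2 ∨ orderOf g ∣ 3 ∨ orderOf g ∣ 5 := by
  have h : ∀ g : alternatingGroup (Fin 5), g ^ 2 = 1 ∨ g ^ 3 = 1 ∨ g ^ 5 = 1 := by decide +kernel
  exact (h g).imp orderOf_dvd_of_pow_eq_one (Or.imp orderOf_dvd_of_pow_eq_one orderOf_dvd_of_pow_eq_one)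

theorem no_dihedral_alt_four (r w : alternatingGroup (Fin 4)) (hr : r ^ 3 = 1) (hw : w * w = 1)
    (h : w * r * (w * r) = 1) : r = 1 := by
  have key : ∀ r w : alternatingGroup (Fin 4), (r ^ 3 ≠ 1 ∨ w * w ≠ 1 ∨ w * r * (w * r) ≠ 1) ∨ r = 1 := by
    decide +kernel
  rcases key r w with (h1 | h1 | h1) | h1
  · exact absurd hr h1
  · exact absurd hw h1
  · exact absurd h h1
  · exact h1

theorem three_le_torus {a : PE} (hq : 3 < Nat.card F) (hex : IsRat a → Nat.card F ≠ 5) :
    3 ≤ torusCard a / Nat.gcd 2 (Nat.card F - 1) := by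
  rcases Nat.even_or_odd (Nat.card F) with he | ho
  · rw [gcd_two_card_sub_one_of_even he, Nat.div_one, torusCard]
    split_ifs <;> omega
  · rw [gcd_two_card_sub_one_of_odd ho]
    obtain ⟨j, hj⟩ := ho
    rw [torusCard]
    split_ifs with h
    · have := hex h; omega
    · omega

/-- The torus normalisers are maximal. -/
theorem torus_maxSub {a b : PE} (hg : GoodPair a b) (hq : 3 < Nat.card F)
    (hex : IsRat a → Nat.card F ∉ ({5, 7, 9, 11} : Finset ℕ))
    (hex' : ¬ IsRat a → Nat.card F ∉ ({7, 9} : Finset ℕ)) :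
    MaxSub (pairStab a b ⊓ pslRange F) := by
  classical
  haveI := charP_ext2 (F := F) (p := p)
  have hPE : P1Like p PG PE := p1Like_ext
  have hab := hg.1
  have h5 : IsRat a → Nat.card F ≠ 5 := fun h e => hex h (by rw [e]; decide)
  obtain ⟨r, w, hrL, hwL, hra, hrb, hwa, hwb, hro, hz, hc, -⟩ := torus_psl hg (fun _ => by omega)
  have hk : 3 ≤ orderOf r := hro ▸ three_le_torus hq h5
  have hr1 : r ≠ 1 := fun e => by rw [e, orderOf_one] at hk; omega
  have hrT : r ∈ pairStab a b ⊓ pslRange F := ⟨.inl ⟨hra, hrb⟩, hrL⟩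
  have hwT : w ∈ pairStab a b ⊓ pslRange F := ⟨.inr ⟨hwa, hwb⟩, hwL⟩
  have hww : w * w = 1 := hPE.swap_sq hab hwa hwb
  have hwr : w * r * (w * r) = 1 := hPE.swap_sq hab (by rw [mul_smul, hra, hwa]) (by rw [mul_smul, hrb, hwb])
  have hsemi : ¬ p ∣ orderOf r := fun hd => by
    have h1 : orderOf (r ^ (orderOf r / p)) = p := by
      rw [orderOf_pow_orderOf_div (orderOf_pos r).ne' hd]
    exact hab (hPE.unique_fix (fun e => (Fact.out : p.Prime).ne_one (by rw [← h1, e, orderOf_one]))
      (orderOf_dvd_iff_pow_eq_one.1 h1.dvd) ((stabilizer PG a).pow_mem hra _) ((stabilizer PG b).pow_mem hrb _))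
  refine maxSub_of_forall (torus_lt hg hq) fun M hM hle => ?_
  have hrM := hle hrT
  have hwM := hle hwT
  have hkd : torusCard a = orderOf r * Nat.gcd 2 (Nat.card F - 1) := by
    rw [hro, Nat.div_mul_cancel]
    rcases Nat.even_or_odd (Nat.card F) with he | ho
    · rw [gcd_two_card_sub_one_of_even he]; exact one_dvd _
    · rw [gcd_two_card_sub_one_of_odd ho]
      obtain ⟨j, hj⟩ := ho
      rw [torusCard]; split_ifs <;> omega
  have hq7 : orderOf r ∈ ({3, 4, 5} : Finset ℕ) → Odd (Nat.card F) →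
      (orderOf r = 3 ∧ Nat.card F = 5 ∧ ¬ IsRat a) ∨ (orderOf r = 5 ∧ False) := by
    intro hmem ho
    rw [gcd_two_card_sub_one_of_odd ho, torusCard] at hkd
    simp only [Finset.mem_insert, Finset.mem_singleton] at hmem hex hex'
    obtain ⟨j, hj⟩ := ho
    by_cases h : IsRat a
    · rw [if_pos h] at hkd; have := hex h; omega
    · rw [if_neg h] at hkd
      have := hex' h
      refine .inl ⟨?_, ?_, h⟩ <;> omega
  cases maxType (p := p) hM hq with
  | borel x heq _ =>
    exfalso
    rw [heq] at hrM hwM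
    have hrx : r • embP p x = embP p x := by rw [← embP_smul, mem_stabilizer_iff.1 hrM.1]
    have hwx : w • embP p x = embP p x := by rw [← embP_smul, mem_stabilizer_iff.1 hwM.1]
    have : embP p x = a ∨ embP p x = b := by
      by_contra hne
      push Not at hne
      exact hr1 (hPE.sharp hab (Ne.symm hne.1) (Ne.symm hne.2) hra hrb hrx)
    rcases this with e | e <;> rw [e] at hwx
    · exact hab (hwx.symm.trans hwa)
    · exact hab (hwb.symm.trans hwx)
  | torus a' b' hg' heq _ =>
    rw [heq] at hrM ⊢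
    have hfix : r • a' = a' ∧ r • b' = b' := hrM.1.resolve_right fun h => by
      have := orderOf_le_of_pow_eq_one two_pos ((pow_two r).trans (hPE.swap_sq hg'.1 h.1 h.2))
      omega
    have hmem : ∀ c : PE, r • c = c → c = a ∨ c = b := fun c hc' => by
      by_contra hne
      push Not at hne
      exact hr1 (hPE.sharp hab (Ne.symm hne.1) (Ne.symm hne.2) hra hrb hc')
    congr 1
    rcases hmem a' hfix.1 with e1 | e1 <;> rcases hmem b' hfix.2 with e2 | e2
    · exact absurd (e1.trans e2.symm) hg'.1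
    · rw [e1, e2]
    · rw [e1, e2]
      ext g
      show (g • b = b ∧ g • a = a) ∨ (g • b = a ∧ g • a = b) ↔ (g • a = a ∧ g • b = b) ∨ (g • a = b ∧ g • b = a)
      constructor <;> rintro (⟨h1, h2⟩ | ⟨h1, h2⟩) <;> [left; right; left; right] <;> exact ⟨h2, h1⟩
    · exact absurd (e1.trans e2.symm) hg'.1
  | tetra hp iso =>
    exfalso
    obtain ⟨e⟩ := iso
    have h3 : orderOf r = 3 := by
      rcases orderOf_alt_four (e ⟨r, hrM⟩) with h | h <;> rw [orderOf_map_equiv] at h <;>
        have := Nat.le_of_dvd (by omega) h <;> omega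
    refine hr1 ?_
    have h1 : e ⟨r, hrM⟩ = 1 := no_dihedral_alt_four _ (e ⟨w, hwM⟩)
      (by rw [← map_pow, MulEquiv.map_eq_one_iff]; exact Subtype.ext (orderOf_dvd_iff_pow_eq_one.1 h3.dvd))
      (by rw [← map_mul, MulEquiv.map_eq_one_iff]; exact Subtype.ext hww)
      (by rw [← map_mul, ← map_mul, MulEquiv.map_eq_one_iff]; exact Subtype.ext hwr)
    exact congrArg Subtype.val (e.map_eq_one_iff.1 h1)
  | octa hp iso =>
    exfalso
    obtain ⟨e⟩ := iso
    have ho : Odd (Nat.card F) := by
      rw [← Nat.not_even_iff_odd]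
      intro he
      obtain ⟨n, hn⟩ := card_eq_charPow (F := F) (p := p)
      have h2 : p = 2 := ((Nat.prime_dvd_prime_iff_eq Nat.prime_two (Fact.out : p.Prime)).1
        (Nat.prime_two.dvd_of_dvd_pow (hn.2 ▸ even_iff_two_dvd.1 he))).symm
      exact hp (by rw [h2, Nat.card_congr e.toEquiv, card_perm_four]; norm_num)
    have hmem : orderOf r ∈ ({3, 4, 5} : Finset ℕ) := by
      rcases orderOf_perm_four (e ⟨r, hrM⟩) with h | h <;> rw [orderOf_map_equiv] at h <;>
        have := Nat.le_of_dvd (by omega) h <;> simp <;> omega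
    rcases hq7 hmem ho with ⟨-, h55, -⟩ | ⟨-, hf⟩
    · have h1 := Subgroup.card_dvd_of_le hM.lt.le
      have h2 := two_mul_psl_of_odd ho
      rw [Nat.card_congr e.toEquiv, card_perm_four] at h1
      rw [h55] at h2
      obtain ⟨c, hc'⟩ := h1
      omega
    · exact hf
  | icosa hp iso =>
    exfalso
    obtain ⟨e⟩ := iso
    have ho : Odd (Nat.card F) := by
      rw [← Nat.not_even_iff_odd]
      intro he
      obtain ⟨n, hn⟩ := card_eq_charPow (F := F) (p := p)
      have h2 : p = 2 := ((Nat.prime_dvd_prime_iff_eq Nat.prime_two (Fact.out : p.Prime)).1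
        (Nat.prime_two.dvd_of_dvd_pow (hn.2 ▸ even_iff_two_dvd.1 he))).symm
      rcases hp with hp | hp
      · exact hp (by rw [h2, Nat.card_congr e.toEquiv, card_alt_five]; norm_num)
      · omega
    have hmem : orderOf r ∈ ({3, 4, 5} : Finset ℕ) := by
      rcases orderOf_alt_five (e ⟨r, hrM⟩) with h | h | h <;> rw [orderOf_map_equiv] at h <;>
        have := Nat.le_of_dvd (by omega) h <;> simp <;>
        first | omega | (rcases (Nat.dvd_prime Nat.prime_five).1 h with h' | h' <;> omega)
    rcases hq7 hmem ho with ⟨-, h55, -⟩ | ⟨-, hf⟩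
    · refine hM.lt.ne (Subgroup.eq_of_le_of_card_ge hM.lt.le ?_)
      have h2 := two_mul_psl_of_odd ho
      rw [h55] at h2
      rw [Nat.card_congr e.toEquiv, card_alt_five]
      omega
    · exact hf
  | subfield K k' s hs hm heq h2 =>
    exfalso
    rw [heq] at hrM
    obtain ⟨x, hx⟩ := hrM.1
    have hox : orderOf x = orderOf r := by rw [← hx]; exact (orderOf_subGroupK x).symm
    haveI : CharP K p := (RingHom.charP_iff_charP K.subtype p).2 inferInstance
    have hQ : Nat.card K ^ 2 ≤ Nat.card F := by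
      rw [Module.natCard_eq_pow_finrank (K := K) (V := F), hm]
      exact Nat.pow_le_pow_right Nat.card_pos hs.two_le
    have hQ1 : 1 < Nat.card K := Finite.one_lt_card
    have hdiv := orderOf_dvd_of_semisimple (p := p) (F := K) (g := x)
      (fun e => by rw [e, orderOf_one] at hox; omega) (by rw [hox]; exact hsemi)
    have hle' : orderOf r ≤ Nat.card K + 1 := by
      rcases hdiv with h | h <;> rw [hox] at h <;> have := Nat.le_of_dvd (by omega) h <;> omega
    rcases Nat.even_or_odd (Nat.card F) with he | ho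
    · rw [gcd_two_card_sub_one_of_even he, mul_one, torusCard] at hkd
      have : 3 * Nat.card K ≤ Nat.card K ^ 2 := by rw [pow_two]; exact Nat.mul_le_mul_right _ (by omega)
      split_ifs at hkd <;> omega
    · rw [gcd_two_card_sub_one_of_odd ho, torusCard] at hkd
      simp only [Finset.mem_insert, Finset.mem_singleton] at hex hex'
      by_cases h4 : 4 ≤ Nat.card K
      · have : 4 * Nat.card K ≤ Nat.card K ^ 2 := by rw [pow_two]; exact Nat.mul_le_mul_right _ h4
        by_cases h : IsRat a <;> [rw [if_pos h] at hkd; rw [if_neg h] at hkd] <;>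
          [have := hex h; have := hex' h] <;> omega
      · have h3 : Nat.card K = 3 := by omega
        rw [h3] at hQ hle'
        obtain ⟨j, hj⟩ := ho
        by_cases h : IsRat a <;> [rw [if_pos h] at hkd; rw [if_neg h] at hkd] <;>
          [have := hex h; have := hex' h] <;> omega

/-- The non-split torus normaliser of `PSL₂(3)` is maximal. -/
theorem torus_maxSub_three {a b : PE} (hg : GoodPair a b) (h3 : Nat.card F = 3) (ha : ¬ IsRat a) :
    MaxSub (pairStab a b ⊓ pslRange F) := by
  haveI := charP_ext2 (F := F) (p := p)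
  have ho : Odd (Nat.card F) := by rw [h3]; decide
  obtain ⟨r, w, -, -, -, -, -, -, hro, -, hc, -⟩ := torus_psl hg (fun h => absurd h ha)
  rw [hro, torusCard, if_neg ha, gcd_two_card_sub_one_of_odd ho, h3] at hc
  have hp := two_mul_psl_of_odd ho
  rw [h3] at hp
  refine ⟨lt_of_le_of_ne inf_le_right fun e => ?_, fun K hK hK' => ?_⟩
  · rw [e] at hc
    omega
  · have h1 := Subgroup.card_dvd_of_le hK
    have h2 := Subgroup.card_dvd_of_le hK'.le
    have h4 : Nat.card K < Nat.card (pslRange F) := lt_of_le_of_ne (Subgroup.card_le_of_le hK'.le)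
      fun e => hK'.ne (Subgroup.eq_of_le_of_card_ge hK'.le e.ge)
    refine (Subgroup.eq_of_le_of_card_ge hK ?_).symm
    rw [hc] at h1 ⊢
    rw [show Nat.card (pslRange F) = 12 by omega] at h2 h4
    obtain ⟨c, hc'⟩ := h1
    rw [hc'] at h2 h4 ⊢
    have : c < 3 := by omega
    interval_cases c <;> omega

variable (p) in
include p in
/-- A maximal dihedral subgroup of `PSL₂(F)`. -/
theorem exists_dihedral_max (rat : Bool) (hex : rat = true → Nat.card F ∉ ({2, 3, 5, 7, 9, 11} : Finset ℕ))
    (hex' : rat = false → Nat.card F ∉ ({2, 7, 9} : Finset ℕ)) :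
    ∃ H : Subgroup (Matrix.ProjectiveSpecialLinearGroup (Fin 2) F), IsCoatom H ∧
      Nonempty (H ≃* DihedralGroup ((bif rat then Nat.card F - 1 else Nat.card F + 1) /
        Nat.gcd 2 (Nat.card F - 1))) := by
  haveI := charP_ext2 (F := F) (p := p)
  have hq2 : 1 < Nat.card F := Finite.one_lt_card
  obtain ⟨a, b, hg, hr⟩ : ∃ a b : PE, GoodPair a b ∧ (IsRat a ↔ rat = true) := by
    cases rat
    · obtain ⟨a, b, hg, hr⟩ := exists_nonrat (F := F) (p := p)
      exact ⟨a, b, hg, by simp [hr]⟩
    · obtain ⟨a, b, hg, hr⟩ := exists_goodPair (F := F) (p := p)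
      exact ⟨a, b, hg, by simp [hr]⟩
  simp only [Finset.mem_insert, Finset.mem_singleton] at hex hex'
  obtain ⟨r, w, -, -, -, -, -, -, hro, -, -, ⟨e⟩⟩ :=
    torus_psl hg (fun h => by have := hex (hr.1 h); omega)
  have hM : MaxSub (pairStab a b ⊓ pslRange F) := by
    by_cases hq : 3 < Nat.card F
    · refine torus_maxSub hg hq (fun h => ?_) (fun h => ?_)
      · have := hex (hr.1 h); simp; omega
      · have := hex' (by simpa using fun e => h (hr.2 e)); simp; omega
    · have hna : ¬ IsRat a := fun h => by have := hex (hr.1 h); omega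
      have := hex' (by simpa using fun e => hna (hr.2 e))
      exact torus_maxSub_three hg (by omega) hna
  obtain ⟨i⟩ := comap_equiv (F := F) (M := pairStab a b ⊓ pslRange F) inf_le_right
  refine ⟨_, isCoatom_of_maxSub hM, ⟨i.trans (?_ : _ ≃* _)⟩⟩
  have hk : orderOf r = (bif rat then Nat.card F - 1 else Nat.card F + 1) / Nat.gcd 2 (Nat.card F - 1) := by
    rw [hro, torusCard]
    cases rat <;> simp_all
  exact hk ▸ e

end CfsgLib.PSL2
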