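import Cfsg.Agent.Lib.PSL2.MaxExist

/-!
Maximality of the polyhedral and subfield subgroups of `PSL₂(F)`.
-/

set_option autoImplicit false
set_option linter.style.haveILetI false
set_option linter.unusedSectionVars false

namespace CfsgLib.PSL2

open Matrix MulAction CfsgLib.Classical
open scoped LinearAlgebra.Projectivization

variable {F : Type*} [Field F] [Finite F] {p : ℕ} [Fact p.Prime] [CharP F p]

local notation "PG" => Matrix.ProjGenLinGroup (Fin 2) F
local notation "P1" => ℙ F (Fin 2 → F)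
local notation "PE" => ℙ (Ext2 F p) (Fin 2 → Ext2 F p)

variable (p) in
include p in
theorem FourPair.no_fix (hodd : Odd (Nat.card F)) {x y : PG} (h : FourPair x y) {c : P1}
    (hx : x • c = c) (hy : y • c = c) : False := by
  haveI := charP_ext2 (F := F) (p := p)
  have hPE : P1Like p PG (ℙ (Ext2 F p) (Fin 2 → Ext2 F p)) := p1Like_ext
  obtain ⟨a, b, hg, ha, hb, -⟩ := invol_fix p hodd h.hx h.x1 h.sx
  obtain ⟨hya, hyb⟩ := h.swap hg.1 ha hb
  have hc : x • embP p c = embP p c := by rw [← embP_smul, hx]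
  have hc' : y • embP p c = embP p c := by rw [← embP_smul, hy]
  have : embP p c = a ∨ embP p c = b := by
    by_contra hne
    push Not at hne
    exact h.x1 (hPE.sharp hg.1 (Ne.symm hne.1) (Ne.symm hne.2) ha hb hc)
  rcases this with e | e <;> rw [e] at hc'
  · exact hg.1 (hc'.symm.trans hya)
  · exact hg.1 (hyb.symm.trans hc')

theorem pair_mem_subgroup {G : Type*} [Group G] (hG : HasFour G) {X : Subgroup PG}
    (hX : X ≤ pslRange F) (e : X ≃* G) : ∃ x y : PG, FourPair x y ∧ x ∈ X ∧ y ∈ X := by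
  obtain ⟨a, b, ha, hb, hab, haa, hbb, hc, -⟩ := hG
  set φ : G →* PG := X.subtype.comp e.symm.toMonoidHom
  have hφ : Function.Injective φ := X.subtype_injective.comp e.symm.injective
  exact ⟨φ a, φ b,
    { hx := hX (e.symm a).2
      hy := hX (e.symm b).2
      x1 := fun h => ha (hφ (h.trans (map_one φ).symm))
      y1 := fun h => hb (hφ (h.trans (map_one φ).symm))
      ne := fun h => hab (hφ h)
      sx := by rw [← map_mul, haa, map_one]
      sy := by rw [← map_mul, hbb, map_one]
      comm := by show φ a * φ b = φ b * φ a; rw [← map_mul, hc, map_mul] }, (e.symm a).2, (e.symm b).2⟩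

variable (p) in
include p in
/-- A group containing a four-group fixes no point. -/
theorem no_borel (hodd : Odd (Nat.card F)) {G : Type*} [Group G] (hG : HasFour G) {X : Subgroup PG}
    (hX : X ≤ pslRange F) (e : X ≃* G) {c : P1} (hle : X ≤ stabilizer PG c) : False := by
  obtain ⟨x, y, h, hx, hy⟩ := pair_mem_subgroup hG hX e
  exact h.no_fix p hodd (hle hx) (hle hy)

theorem alt_no_pair {X : Subgroup PG} (e : X ≃* alternatingGroup (Fin 4)) {a b : PE} (hab : a ≠ b)
    (hle : X ≤ pairStab a b) : False := by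
  haveI := charP_ext2 (F := F) (p := p)
  have hPE : P1Like p PG PE := p1Like_ext
  obtain ⟨s, t, hs, ht, hst⟩ : ∃ s t : alternatingGroup (Fin 4), s ^ 3 = 1 ∧ t ^ 3 = 1 ∧ s * t ≠ t * s := by
    refine ⟨⟨Equiv.swap 1 3 * Equiv.swap 1 2, Equiv.Perm.mem_alternatingGroup.2 (by decide)⟩,
      ⟨Equiv.swap 0 3 * Equiv.swap 0 2, Equiv.Perm.mem_alternatingGroup.2 (by decide)⟩, ?_, ?_, ?_⟩ <;> decide +kernel
  set φ : alternatingGroup (Fin 4) →* PG := X.subtype.comp e.symm.toMonoidHom
  have hφ : Function.Injective φ := X.subtype_injective.comp e.symm.injective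
  have hfix : ∀ g : alternatingGroup (Fin 4), g ^ 3 = 1 → φ g ∈ stabilizer PG a ⊓ stabilizer PG b := by
    intro g hg
    have h1 : φ g ∈ pairStab a b := hle (e.symm g).2
    rcases h1 with h1 | ⟨h1, h2⟩
    · exact ⟨h1.1, h1.2⟩
    · exfalso
      have h3 : φ g ^ 3 • a = a := by rw [← map_pow, hg, map_one, one_smul]
      rw [pow_succ, pow_two, mul_smul, mul_smul, h1, h2, h1] at h3
      exact hab h3.symm
  haveI := hPE.two_cyclic hab
  letI := IsCyclic.commGroup (α := ↥(stabilizer PG a ⊓ stabilizer PG b))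
  have hcomm := congrArg Subtype.val (mul_comm (⟨φ s, hfix s hs⟩ : ↥(stabilizer PG a ⊓ stabilizer PG b)) ⟨φ t, hfix t ht⟩)
  exact hst (hφ (by rw [map_mul, map_mul]; exact hcomm))

theorem odd_of_five_le (h5 : 5 ≤ p) : Odd (Nat.card F) := by
  obtain ⟨k, -, hk⟩ := card_eq_charPow (F := F) (p := p)
  rw [hk]
  exact ((Fact.out : p.Prime).odd_of_ne_two (by omega)).pow

theorem finrank_prime_false (hF : Nat.card F = p) {K : Subfield F} {r : ℕ} (hr : r.Prime)
    (hm : Module.finrank K F = r) : False := by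
  obtain ⟨a, ha, hK⟩ := natCard_eq_pow (F := F) (p := p) (K := K)
  rw [Module.natCard_eq_pow_finrank (K := K) (V := F), hm, hK, ← pow_mul] at hF
  conv_rhs at hF => rw [← pow_one p]
  have h := Nat.pow_right_injective (Fact.out : p.Prime).two_le hF
  have h' : r = 1 := Nat.eq_one_of_mul_eq_one_left h
  exact hr.one_lt.ne' h'

theorem card_psl_big (hodd : Odd (Nat.card F)) (h5 : 5 ≤ Nat.card F) : 60 ≤ Nat.card (pslRange F) := by
  have h := two_mul_psl_of_odd hodd
  have h2 : 6 * (5 * 4) ≤ (Nat.card F + 1) * (Nat.card F * (Nat.card F - 1)) :=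
    Nat.mul_le_mul (by omega) (Nat.mul_le_mul h5 (by omega))
  omega

theorem five_dvd_psl_false (h5 : Nat.card F % 5 = 2 ∨ Nat.card F % 5 = 3) {M : Subgroup PG}
    (i : M ≃* alternatingGroup (Fin 5)) : False := by
  have h := five_dvd_of_alt_five i
  rw [card_pgl_two_eq, Nat.dvd_iff_mod_eq_zero] at h
  have h1 : (Nat.card F - 1) % 5 ≠ 0 := by omega
  have h2 : (Nat.card F + 1) % 5 ≠ 0 := by omega
  rw [← Nat.dvd_iff_mod_eq_zero] at h
  rcases (Nat.prime_five.dvd_mul).1 h with h | h
  · omega
  · rcases (Nat.prime_five.dvd_mul).1 h with h | h <;> omega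

/-- An `A₄` is maximal. -/
theorem alt_four_maxSub (hF : Nat.card F = p) (h5 : 5 ≤ p) (h8 : p % 8 = 3 ∨ p % 8 = 5)
    (h10 : p % 10 ≠ 1 ∧ p % 10 ≠ 9) {X : Subgroup PG} (hX : X ≤ pslRange F)
    (e : X ≃* alternatingGroup (Fin 4)) : MaxSub X := by
  have hodd : Odd (Nat.card F) := odd_of_five_le (p := p) h5
  have hbig := card_psl_big hodd (by omega)
  have hcX : Nat.card X = 12 := (Nat.card_congr e.toEquiv).trans card_alt_four
  refine maxSub_of_forall (lt_of_le_of_ne hX fun h => by rw [h] at hcX; omega) fun M hM hle => ?_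
  cases maxType (p := p) hM (by omega) with
  | borel c heq _ => exact (no_borel p hodd hasFour_alt hX e ((hle.trans heq.le).trans inf_le_left)).elim
  | torus a b hg heq _ => exact (alt_no_pair e hg.1 (hle.trans (heq ▸ inf_le_left))).elim
  | tetra hp iso =>
    obtain ⟨i⟩ := iso
    exact (Subgroup.eq_of_le_of_card_ge hle (by rw [hcX, Nat.card_congr i.toEquiv, card_alt_four])).symm
  | octa hp iso =>
    exfalso
    obtain ⟨i⟩ := iso
    obtain ⟨g, hg⟩ := exists_orderOf_four_perm
    have := card_mod_of_orderOf_four p (hM.lt.le (i.symm g).2)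
      (by rw [Subgroup.orderOf_coe, MulEquiv.orderOf_eq, hg])
    omega
  | icosa hp iso =>
    exfalso
    obtain ⟨i⟩ := iso
    by_cases hp5 : p = 5
    · refine hM.lt.ne (Subgroup.eq_of_le_of_card_ge hM.lt.le ?_)
      have h2 := two_mul_psl_of_odd hodd
      rw [hF, hp5] at h2
      rw [Nat.card_congr i.toEquiv, card_alt_five]
      omega
    · have : p % 5 ≠ 0 := fun h =>
        hp5 ((Nat.prime_dvd_prime_iff_eq Nat.prime_five (Fact.out : p.Prime)).1 (Nat.dvd_of_mod_eq_zero h)).symm
      obtain ⟨j, hj⟩ := hodd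
      exact five_dvd_psl_false (by rw [hF]; omega) i
  | subfield K k r hr hm heq h2 => exact (finrank_prime_false hF hr hm).elim

/-- An `S₄` is maximal. -/
theorem perm_four_maxSub (hF : Nat.card F = p) (h8 : p % 8 = 1 ∨ p % 8 = 7) {Y : Subgroup PG}
    (hY : Y ≤ pslRange F) (e : Y ≃* Equiv.Perm (Fin 4)) : MaxSub Y := by
  have h7 : 7 ≤ p := by have := (Fact.out : p.Prime).two_le; omega
  have hodd : Odd (Nat.card F) := odd_of_five_le (p := p) (by omega)
  have hbig := card_psl_ge hodd (by omega)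
  have hcY : Nat.card Y = 24 := (Nat.card_congr e.toEquiv).trans card_perm_four
  obtain ⟨x, y, hxy, rfl⟩ := eq_norm_of_perm hodd hY e
  refine maxSub_of_forall (lt_of_le_of_ne hY fun h => by rw [h] at hcY; omega) fun M hM hle => ?_
  cases maxType (p := p) hM (by omega) with
  | borel c heq _ =>
    exact (no_borel p hodd hasFour_perm hY e ((hle.trans heq.le).trans inf_le_left)).elim
  | torus a b hg heq _ =>
    obtain ⟨X, hXN, -, ⟨i⟩⟩ := hxy.exists_alt hodd
    exact (alt_no_pair i hg.1 ((hXN.trans hle).trans (heq ▸ inf_le_left))).elim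
  | tetra hp iso =>
    exfalso
    obtain ⟨i⟩ := iso
    have := Subgroup.card_le_of_le hle
    rw [hcY, Nat.card_congr i.toEquiv, card_alt_four] at this
    omega
  | octa hp iso =>
    obtain ⟨i⟩ := iso
    exact (Subgroup.eq_of_le_of_card_ge hle (by rw [hcY, Nat.card_congr i.toEquiv, card_perm_four])).symm
  | icosa hp iso =>
    exfalso
    obtain ⟨i⟩ := iso
    have := Subgroup.card_dvd_of_le hle
    rw [hcY, Nat.card_congr i.toEquiv, card_alt_five] at this
    omega
  | subfield K k r hr hm heq h2 => exact (finrank_prime_false hF hr hm).elim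

/-- An `A₅` is maximal. -/
theorem alt_five_maxSub (h : (Nat.card F = p ∧ (p % 10 = 1 ∨ p % 10 = 9)) ∨
      (Nat.card F = p ^ 2 ∧ (p % 10 = 3 ∨ p % 10 = 7))) {X : Subgroup PG} (hX : X ≤ pslRange F)
    (i : X ≃* alternatingGroup (Fin 5)) : MaxSub X := by
  have hp3 : 3 ≤ p := by have := (Fact.out : p.Prime).two_le; omega
  have hq9 : 9 ≤ Nat.card F := by
    rcases h with ⟨h, h'⟩ | ⟨h, h'⟩
    · omega
    · rw [h]; calc 9 = 3 ^ 2 := by norm_num
        _ ≤ p ^ 2 := Nat.pow_le_pow_left hp3 2
  have hodd : Odd (Nat.card F) := by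
    obtain ⟨k, -, hk⟩ := card_eq_charPow (F := F) (p := p)
    rw [hk]
    exact ((Fact.out : p.Prime).odd_of_ne_two (by omega)).pow
  have hbig := card_psl_ge hodd (by omega)
  have hcX : Nat.card X = 60 := (Nat.card_congr i.toEquiv).trans card_alt_five
  obtain ⟨Z, hZX, ⟨iZ⟩⟩ := exists_alt_four_of_alt_five i
  refine maxSub_of_forall (lt_of_le_of_ne hX fun h => by rw [h] at hcX; omega) fun M hM hle => ?_
  cases maxType (p := p) hM (by omega) with
  | borel c heq _ =>
    exact (no_borel p hodd hasFour_alt (hZX.trans hX) iZ (((hZX.trans hle).trans heq.le).trans inf_le_left)).elim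
  | torus a b hg heq _ => exact (alt_no_pair iZ hg.1 ((hZX.trans hle).trans (heq ▸ inf_le_left))).elim
  | tetra hp iso =>
    exfalso
    obtain ⟨j⟩ := iso
    have := Subgroup.card_le_of_le hle
    rw [hcX, Nat.card_congr j.toEquiv, card_alt_four] at this
    omega
  | octa hp iso =>
    exfalso
    obtain ⟨j⟩ := iso
    have := Subgroup.card_le_of_le hle
    rw [hcX, Nat.card_congr j.toEquiv, card_perm_four] at this
    omega
  | icosa hp iso =>
    obtain ⟨j⟩ := iso
    exact (Subgroup.eq_of_le_of_card_ge hle (by rw [hcX, Nat.card_congr j.toEquiv, card_alt_five])).symm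
  | subfield K k r hr hm heq h2 =>
    exfalso
    rcases h with ⟨hq, -⟩ | ⟨hq, h'⟩
    · exact finrank_prime_false hq hr hm
    haveI : CharP K p := (RingHom.charP_iff_charP K.subtype p).2 inferInstance
    obtain ⟨a, ha, hK⟩ := natCard_eq_pow (F := F) (p := p) (K := K)
    have hKp : Nat.card K = p := by
      have h1 : a * r = 2 := by
        apply Nat.pow_right_injective (Fact.out : p.Prime).two_le
        show p ^ (a * r) = p ^ 2
        rw [pow_mul, ← hK, ← hm, ← Module.natCard_eq_pow_finrank, hq]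
      have : a = 1 := by
        rcases (Nat.dvd_prime Nat.prime_two).1 ⟨r, h1.symm⟩ with e | e
        · exact e
        · subst e; have := hr.two_le; omega
      rw [hK, this, pow_one]
    have hXK : X ≤ subGroupK K k := (hle.trans heq.le).trans inf_le_left
    let f := (MulAut.conj k).toMonoidHom.comp (ProjGenLinGroup.map (n := Fin 2) K.subtype)
    have hf : Function.Injective f := (MulAut.conj k).injective.comp (map_subtype_injective K.subtype)
    have hmap : (X.comap f).map f = X := Subgroup.map_comap_eq_self hXK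
    have i' := ((X.comap f).equivMapOfInjective f hf).trans ((MulEquiv.subgroupCongr hmap).trans i)
    have : p % 5 ≠ 0 := by omega
    exact five_dvd_psl_false (by rw [hKp]; omega) i'

theorem subGroupK_inf_card (K : Subfield F) (k k' : PG) :
    Nat.card ↥(subGroupK K k' ⊓ pslRange F) = Nat.card ↥(subGroupK K k ⊓ pslRange F) := by
  have h : (subGroupK K k ⊓ pslRange F).map (MulAut.conj (k' * k⁻¹)).toMonoidHom = subGroupK K k' ⊓ pslRange F := by
    rw [Subgroup.map_inf _ _ _ (MulAut.conj (k' * k⁻¹)).injective, subGroupK_map_conj, inv_mul_cancel_right]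
    congr 1
    refine Subgroup.eq_of_le_of_card_ge (Subgroup.map_le_iff_le_comap.2 fun x hx =>
      normal_pslRange.conj_mem _ hx _) (Subgroup.card_map_of_injective (MulAut.conj (k' * k⁻¹)).injective).ge
  rw [← h]
  exact Subgroup.card_map_of_injective (MulAut.conj (k' * k⁻¹)).injective

theorem add_one_mul_sub_one (x : ℕ) : (x + 1) * (x - 1) = x * x - 1 := by
  rcases x with _ | x
  · rfl
  · rw [Nat.add_sub_cancel, show (x + 1) * (x + 1) = (x + 1 + 1) * x + 1 by ring, Nat.add_sub_cancel]

theorem exponents_unique {p a b r s : ℕ} (hp : p.Prime) (hr : r.Prime) (hs : s.Prime) (h : a * r = b * s)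
    (hab : a ≤ b) (ha : 0 < a) (h2 : p ^ a ≠ 2) (d : ℕ) (hd : d ∣ 2)
    (hdvd : (p ^ a + 1) / d ∣ p ^ (2 * b) - 1) (hdd : d ∣ p ^ a + 1) : a = b := by
  by_contra hne
  have hlt : a < b := lt_of_le_of_ne hab hne
  have hrs : r ≠ s := by
    rintro rfl
    exact hne (Nat.eq_of_mul_eq_mul_right hr.pos h)
  have hsa : s ∣ a := (hs.dvd_mul.1 ⟨b, by rw [h, mul_comm]⟩).resolve_right fun h1 =>
    hrs ((Nat.prime_dvd_prime_iff_eq hs hr).1 h1).symm
  obtain ⟨g, rfl⟩ := hsa
  have hb : b = g * r := Nat.eq_of_mul_eq_mul_right hs.pos (by rw [← h]; ring)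
  subst hb
  have hsr : s < r := by
    by_contra hle
    exact absurd (Nat.mul_le_mul_left g (not_lt.1 hle)) (by linarith [mul_comm g s])
  have hg0 : 0 < g := Nat.pos_of_ne_zero fun e => by rw [e, mul_zero] at ha; omega
  have hsg : (p ^ (s * g) + 1) / d ∣ p ^ (2 * (s * g)) - 1 := by
    refine (Nat.div_dvd_of_dvd hdd).trans ?_
    refine ⟨p ^ (s * g) - 1, ?_⟩
    rw [two_mul, pow_add, add_one_mul_sub_one]
  have hgcd : Nat.gcd (2 * (s * g)) (2 * (g * r)) = 2 * g := by
    rw [show 2 * (s * g) = 2 * g * s by ring, show 2 * (g * r) = 2 * g * r by ring, Nat.gcd_mul_left,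
      (Nat.coprime_primes hs hr).2 (Ne.symm hrs), mul_one]
  have h3 := Nat.dvd_gcd hsg hdvd
  rw [Nat.pow_sub_one_gcd_pow_sub_one, hgcd] at h3
  have hp1 : 1 < p ^ (2 * g) := Nat.one_lt_pow (by omega) hp.one_lt
  have hd2 : d ≤ 2 := Nat.le_of_dvd two_pos hd
  obtain ⟨c, hc⟩ := hdd
  have hd0 : 0 < d := Nat.pos_of_ne_zero fun e => by rw [e, zero_mul] at hc; omega
  rw [hc, Nat.mul_div_cancel_left _ hd0] at h3
  have hcle := Nat.le_of_dvd (by omega) h3
  rcases eq_or_ne s 2 with rfl | hs2
  · -- here `p ^ (2 g) + 1` would divide `2 (p ^ (2 g) - 1)`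
    obtain ⟨e, he⟩ := h3
    have hdc : d * c ≤ 2 * c := Nat.mul_le_mul_right c hd2
    have he2 : e ≤ 1 := by
      by_contra he2
      have : c * 2 ≤ c * e := Nat.mul_le_mul_left c (by omega)
      omega
    interval_cases e
    · omega
    · have : d = 1 ∨ d = 2 := (Nat.dvd_prime Nat.prime_two).1 hd
      have hp4 : 2 ^ 2 ≤ p ^ (2 * g) :=
        (Nat.pow_le_pow_right two_pos (by omega : 2 ≤ 2 * g)).trans (Nat.pow_le_pow_left hp.two_le _)
      rcases this with rfl | rfl <;> omega
  · have h3s : 3 * g ≤ s * g := Nat.mul_le_mul_right g (by have := hs.two_le; omega)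
    have h4 : p ^ (3 * g) ≤ p ^ (s * g) := Nat.pow_le_pow_right hp.pos h3s
    have h5 : p ^ (3 * g) = p ^ g * p ^ (2 * g) := by rw [← pow_add]; ring_nf
    have h6 : 2 * p ^ (2 * g) ≤ p ^ g * p ^ (2 * g) :=
      Nat.mul_le_mul_right _ (hp.two_le.trans (Nat.le_self_pow hg0.ne' p))
    have h7 : d * c ≤ 2 * c := Nat.mul_le_mul_right c hd2
    omega

variable (p) in
include p in
/-- The subfield subgroups are maximal. -/
theorem subfield_maxSub {K : Subfield F} {r : ℕ} (hr : r.Prime) (hm : Module.finrank K F = r)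
    (h2 : Nat.card K ≠ 2) (k : PG) : MaxSub (subGroupK K k ⊓ pslRange F) := by
  have hKtop : K ≠ ⊤ := by
    rintro rfl
    have h1 := Module.natCard_eq_pow_finrank (K := (⊤ : Subfield F)) (V := F)
    rw [hm, Nat.card_congr Subfield.topEquiv.toEquiv] at h1
    conv_lhs at h1 => rw [← pow_one (Nat.card F)]
    exact hr.one_lt.ne' (Nat.pow_right_injective (Finite.one_lt_card : 2 ≤ Nat.card F) h1).symm
  set Q := Nat.card K with hQd
  have hQ1 : 2 ≤ Q := Finite.one_lt_card
  have hQ3 : 3 ≤ Q := by omega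
  have hqQ : Nat.card F = Q ^ r := by rw [Module.natCard_eq_pow_finrank (K := K) (V := F), hm]
  have hq : 3 < Nat.card F := by
    rw [hqQ]
    exact lt_of_lt_of_le (by norm_num : 3 < 3 ^ 2)
      ((Nat.pow_le_pow_left hQ3 2).trans (Nat.pow_le_pow_right (by omega) hr.two_le))
  haveI : CharP K p := (RingHom.charP_iff_charP K.subtype p).2 inferInstance
  set H := subGroupK K k ⊓ pslRange F with hH
  -- two translations
  have hPK : P1Like p PG P1 := p1Like_pgl p
  set u : PG := k * ProjGenLinGroup.map K.subtype (affP (1 : Kˣ) (1 : K)) * k⁻¹ with hu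
  set j : PG := k * ProjGenLinGroup.map K.subtype (invP (1 : Kˣ)) * k⁻¹ with hj
  have hmap : ProjGenLinGroup.map K.subtype (affP (1 : Kˣ) (1 : K)) = affP (1 : Fˣ) (1 : F) := by
    rw [affP, affP, ProjGenLinGroup.map_mk]
    refine congrArg _ (Units.ext ?_)
    ext a b
    fin_cases a <;> fin_cases b <;> simp [affMat, GeneralLinearGroup.mkOfDetNeZero, GeneralLinearGroup.map]
  have hmapj : ProjGenLinGroup.map K.subtype (invP (1 : Kˣ)) = invP (1 : Fˣ) := by
    rw [invP, invP, ProjGenLinGroup.map_mk]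
    refine congrArg _ (Units.ext ?_)
    ext a b
    fin_cases a <;> fin_cases b <;> simp [GeneralLinearGroup.mkOfDetNeZero, GeneralLinearGroup.map]
  have haff : affP (1 : Fˣ) (1 : F) ≠ 1 := fun e =>
    one_ne_zero (affP_injective (e.trans affP_one.symm)).2
  have huL : u ∈ pslRange F := by
    refine map_mem_psl K k ?_
    rw [affP, mk_mem_pslRange_iff]
    exact ⟨1, by simp [affMat, GeneralLinearGroup.mkOfDetNeZero, Matrix.det_fin_two]⟩
  have huH : u ∈ H := ⟨mem_subGroupK _, huL⟩
  have hvH : j * u * j⁻¹ ∈ H :=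
    ⟨(subGroupK K k).mul_mem ((subGroupK K k).mul_mem (mem_subGroupK _) huH.1) ((subGroupK K k).inv_mem (mem_subGroupK _)), normal_pslRange.conj_mem _ huL j⟩
  have hu1 : u ≠ 1 := fun e => by
    rw [hu, hmap] at e
    exact haff (conj_eq_one_iff.1 e)
  have hup : u ^ p = 1 := by
    rw [hu, hmap, conj_pow, (affP_pow_eq_one_iff p 1 1).2 rfl, mul_one, mul_inv_cancel]
  have hpH : ∀ M : Subgroup PG, H ≤ M → p ∣ Nat.card M := fun M hle => by
    rw [← orderOf_eq_prime hup hu1]
    exact M.orderOf_dvd_natCard (hle huH)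
  have hHlt : H < pslRange F := subGroupK_inf_lt hKtop k
  refine maxSub_of_forall hHlt fun M hM hle => ?_
  cases maxType (p := p) hM hq with
  | borel c heq _ =>
    exfalso
    have h1 : u • c = c := (hle.trans heq.le huH).1
    have h3 : (j * u * j⁻¹) • c = c := (hle.trans heq.le hvH).1
    have hk : u • (k • pInf F) = k • pInf F := by
      rw [hu, hmap, mul_smul, mul_smul, inv_smul_smul, affP_smul_inf]
    have e1 : c = k • pInf F := hPK.unique_fix hu1 hup h1 hk
    have e2 : c = j • (k • pInf F) := by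
      refine hPK.unique_fix (g := j * u * j⁻¹) (fun e => hu1 (conj_eq_one_iff.1 e)) ?_ h3 ?_
      · rw [conj_pow, hup, mul_one, mul_inv_cancel]
      · rw [mul_smul, mul_smul, inv_smul_smul, hk]
    rw [hj, hmapj, mul_smul, mul_smul, inv_smul_smul, e1] at e2
    have h4 := smul_left_cancel k e2
    rw [invP, pInf, gl_smul_mk, Projectivization.mk_eq_mk_iff'] at h4
    obtain ⟨t, ht⟩ := h4
    simpa [GeneralLinearGroup.mkOfDetNeZero, mulVec, dotProduct] using congrFun ht 0
  | torus a b hg heq iso =>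
    exfalso
    obtain ⟨e⟩ := iso
    have h1 := hpH M hle
    rw [Nat.card_congr e.toEquiv, DihedralGroup.nat_card] at h1
    have hp2 : p = 2 := by
      by_contra hp2
      have h3 := ((Fact.out : p.Prime).dvd_mul.1 h1).resolve_left
        (fun h => hp2 ((Nat.prime_dvd_prime_iff_eq (Fact.out : p.Prime) Nat.prime_two).1 h))
      obtain ⟨n, hn, hn'⟩ := card_eq_charPow (F := F) (p := p)
      have hpq : p ∣ Nat.card F := hn' ▸ dvd_pow_self p (by omega)
      have hodd : Odd (Nat.card F) := by rw [hn']; exact ((Fact.out : p.Prime).odd_of_ne_two hp2).pow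
      have h4 : p ∣ torusCard a := h3.trans (Nat.div_dvd_of_dvd (by
        rw [gcd_two_card_sub_one_of_odd hodd, torusCard]
        obtain ⟨i, hi⟩ := hodd
        split_ifs <;> omega))
      rw [torusCard] at h4
      have h5 := (Fact.out : p.Prime).two_le
      split_ifs at h4
      · obtain ⟨x, hx⟩ := Nat.dvd_sub hpq h4
        rw [show Nat.card F - (Nat.card F - 1) = 1 by omega] at hx
        exact absurd (Nat.eq_one_of_mul_eq_one_right hx.symm) (by omega)
      · obtain ⟨x, hx⟩ := Nat.dvd_sub h4 hpq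
        rw [show Nat.card F + 1 - Nat.card F = 1 by omega] at hx
        exact absurd (Nat.eq_one_of_mul_eq_one_right hx.symm) (by omega)
    subst hp2
    obtain ⟨n, hn, hn'⟩ := card_eq_charPow (F := F) (p := 2)
    have he : Even (Nat.card F) := by rw [hn']; exact Nat.even_pow.2 ⟨even_two, by omega⟩
    obtain ⟨a', ha', hKa⟩ := natCard_eq_pow (F := F) (p := 2) (K := K)
    have h4 : 4 ∣ Nat.card M := by
      refine dvd_trans ?_ (Subgroup.card_dvd_of_le hle)
      rw [hH, pslRange_eq_top_of_even he, inf_top_eq, card_subGroupK]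
      refine dvd_mul_of_dvd_right (dvd_mul_of_dvd_left ?_ _) _
      rw [hKa]
      have : 2 ≤ a' := by
        by_contra h
        interval_cases a'
        exact h2 (by rw [hQd, hKa]; rfl)
      exact (pow_dvd_pow 2 this : 2 ^ 2 ∣ _)
    rw [Nat.card_congr e.toEquiv, DihedralGroup.nat_card, gcd_two_card_sub_one_of_even he, Nat.div_one,
      torusCard] at h4
    obtain ⟨i, hi⟩ := he
    split_ifs at h4 <;> omega
  | tetra hp iso => exact absurd (hpH M hle) hp
  | octa hp iso => exact absurd (hpH M hle) hp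
  | icosa hp iso =>
    exfalso
    rcases hp with hp | rfl
    · exact hp (hpH M hle)
    obtain ⟨i⟩ := iso
    obtain ⟨a, ha, hKa⟩ := natCard_eq_pow (F := F) (p := 3) (K := K)
    have ho : Odd (Nat.card F) := by
      rw [hqQ, hQd, hKa]; exact ((by decide : Odd 3).pow).pow
    have hcard := Subgroup.card_dvd_of_le hle
    rw [Nat.card_congr i.toEquiv, card_alt_five] at hcard
    by_cases ha1 : a = 1
    · subst ha1
      rcases hr.eq_two_or_odd' with rfl | hodd
      · rw [hH, inf_eq_left.2 (subGroupK_le_psl ho K k (by rw [hm]; decide)), card_subGroupK, hKa] at hcard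
        norm_num at hcard
      · refine five_dvd_psl_false ?_ i
        obtain ⟨t, rfl⟩ := hodd
        rw [hqQ, hQd, hKa, pow_one, pow_succ, pow_mul, Nat.mul_mod, Nat.pow_mod]
        rcases Nat.even_or_odd t with ⟨v, rfl⟩ | ⟨v, rfl⟩ <;>
          simp [← two_mul, pow_succ, pow_mul, Nat.mul_mod, Nat.pow_mod]
    · have h9 : 9 ≤ Q := by
        rw [hQd, hKa]
        exact le_trans (by norm_num) (Nat.pow_le_pow_right (show 3 > 0 by norm_num) (show 2 ≤ a by omega))
      have hbig : 2 * Nat.card H ≥ (Q + 1) * (Q * (Q - 1)) := by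
        have h1 := (H.subgroupOf (subGroupK K k)).card_mul_index
        rw [Nat.card_congr (Subgroup.subgroupOfEquivOfLe (inf_le_left : H ≤ subGroupK K k)).toEquiv,
          card_subGroupK] at h1
        rw [← h1, mul_comm 2]
        refine Nat.mul_le_mul_left _ (Nat.le_of_dvd two_pos ?_)
        rw [hH, ← Subgroup.relIndex, inf_comm, Subgroup.inf_relIndex_right]
        exact (Subgroup.relIndex_dvd_index_of_normal _ _).trans (index_pslRange (F := F) ▸ Nat.gcd_dvd_left _ _)
      have h720 : 10 * (9 * 8) ≤ (Q + 1) * (Q * (Q - 1)) :=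
        Nat.mul_le_mul (by omega) (Nat.mul_le_mul h9 (by omega))
      have := Nat.le_of_dvd (by norm_num) hcard
      omega
  | subfield K' k' r' hr' hm' heq h2' =>
    haveI : CharP K' p := (RingHom.charP_iff_charP K'.subtype p).2 inferInstance
    obtain ⟨a, ha, hKa⟩ := natCard_eq_pow (F := F) (p := p) (K := K)
    obtain ⟨b, hb, hKb⟩ := natCard_eq_pow (F := F) (p := p) (K := K')
    have hp1 := (Fact.out : p.Prime).two_le
    have hab : a * r = b * r' := Nat.pow_right_injective hp1 (by
      show p ^ (a * r) = p ^ (b * r')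
      rw [pow_mul, pow_mul, ← hKa, ← hKb]
      conv_lhs => rw [← hm, ← Module.natCard_eq_pow_finrank (K := K) (V := F)]
      rw [← hm', ← Module.natCard_eq_pow_finrank (K := K') (V := F)])
    have hle' : H ≤ subGroupK K' k' := (hle.trans heq.le).trans inf_le_left
    obtain ⟨g, hgK, hgo⟩ := exists_orderOf_psl (F := K) p
    have hgH : k * ProjGenLinGroup.map K.subtype g * k⁻¹ ∈ H := ⟨mem_subGroupK g, map_mem_psl K k hgK⟩
    obtain ⟨g', hg'⟩ := hle' hgH
    have hgo' : orderOf g' = (p ^ a + 1) / Nat.gcd 2 (Nat.card K - 1) := by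
      rw [← orderOf_subGroupK (k := k') g', ← hKa, ← hgo, ← orderOf_subGroupK (k := k) g]
      exact congrArg orderOf hg'
    set d := Nat.gcd 2 (Nat.card K - 1) with hd
    have hdd : d ∣ p ^ a + 1 := by
      rw [← hKa, hd]
      rcases Nat.even_or_odd (Nat.card K) with he | ho
      · rw [gcd_two_card_sub_one_of_even he]; exact one_dvd _
      · rw [gcd_two_card_sub_one_of_odd ho]; obtain ⟨i, hi⟩ := ho; omega
    have hd0 : 0 < d := Nat.gcd_pos_of_pos_left _ two_pos
    have hd2 : d ≤ 2 := Nat.le_of_dvd two_pos (Nat.gcd_dvd_left _ _)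
    have hord1 : 1 < orderOf g' := by
      rw [hgo']
      have : 2 * d ≤ p ^ a + 1 := by rw [← hKa]; omega
      exact (Nat.le_div_iff_mul_le hd0).2 this
    have hsemi : ¬ p ∣ orderOf g' := fun h => by
      rw [hgo'] at h
      have h1 := (Nat.dvd_add_right (dvd_pow_self p ha.ne')).1 (h.trans (Nat.div_dvd_of_dvd hdd))
      have := Nat.le_of_dvd one_pos h1
      omega
    have hdvd : orderOf g' ∣ p ^ (2 * b) - 1 := by
      have h1 : (Nat.card K' + 1) * (Nat.card K' - 1) = p ^ (2 * b) - 1 := by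
        rw [hKb, two_mul, pow_add, add_one_mul_sub_one]
      rw [← h1]
      rcases orderOf_dvd_of_semisimple (p := p) (F := K') (fun e => by rw [e, orderOf_one] at hord1; omega) hsemi
        with h | h
      · exact dvd_mul_of_dvd_left h _
      · exact dvd_mul_of_dvd_right h _
    have hale : a ≤ b := by
      have hU : Nat.card K ∣ Nat.card (subGroupK K' k') := by
        let t : Multiplicative K →* PG :=
          { toFun := fun c => k * ProjGenLinGroup.map K.subtype (affP 1 (Multiplicative.toAdd c)) * k⁻¹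
            map_one' := by rw [toAdd_one, affP_one, map_one, mul_one, mul_inv_cancel]
            map_mul' := fun c c' => by
              rw [toAdd_mul, conj_mul, ← map_mul, affP_mul, one_mul, Units.val_one, one_mul, add_comm] }
        have ht : Function.Injective t := fun c c' h => by
          have h1 := map_subtype_injective K.subtype (mul_left_cancel (mul_right_cancel h))
          exact Multiplicative.toAdd.injective (affP_injective h1).2
        have hr1 : t.range ≤ H := by
          rintro _ ⟨c, rfl⟩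
          refine ⟨mem_subGroupK _, map_mem_psl K k ?_⟩
          rw [affP, mk_mem_pslRange_iff]
          exact ⟨1, by simp [affMat, GeneralLinearGroup.mkOfDetNeZero, Matrix.det_fin_two]⟩
        have h1 := Subgroup.card_dvd_of_le (hr1.trans hle')
        rwa [← Nat.card_congr (MonoidHom.ofInjective ht).toEquiv, Nat.card_congr Multiplicative.toAdd] at h1
      rw [card_subGroupK, hKa, hKb] at hU
      have hco : Nat.Coprime (p ^ a) ((p ^ b + 1) * (p ^ b - 1)) := by
        refine Nat.Coprime.pow_left a ?_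
        have hpb : p ∣ p ^ b := dvd_pow_self p hb.ne'
        have hb1 : 1 ≤ p ^ b := Nat.one_le_pow _ _ (by omega)
        refine Nat.Coprime.mul_right ?_ ?_ <;> refine (Fact.out : p.Prime).coprime_iff_not_dvd.2 fun h => ?_
        · have := Nat.le_of_dvd one_pos ((Nat.dvd_add_right hpb).1 h); omega
        · have h5 := Nat.dvd_sub hpb h
          rw [show p ^ b - (p ^ b - 1) = 1 by omega] at h5
          have := Nat.le_of_dvd one_pos h5; omega
      have h6 : p ^ a ∣ p ^ b := hco.dvd_of_dvd_mul_left (by rwa [show (p ^ b + 1) * (p ^ b - 1) * p ^ b =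
        (p ^ b + 1) * (p ^ b * (p ^ b - 1)) by ring])
      exact Nat.pow_dvd_pow_iff_le_right (Fact.out : p.Prime).one_lt |>.1 h6
    have hEq : a = b := exponents_unique (Fact.out : p.Prime) hr hr' hab hale ha (hKa ▸ h2) d
      (Nat.gcd_dvd_left _ _) (hgo' ▸ hdvd) hdd
    obtain rfl : K = K' := subfield_eq_of_card (by rw [hKa, hKb, hEq])
    refine (Subgroup.eq_of_le_of_card_ge hle ?_).symm
    rw [heq, subGroupK_inf_card K k k']

end CfsgLib.PSL2
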