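import Cfsg.Agent.Lib.PSL2.Solvable

/-!
The maximal subgroups of `PGL₂(F)` and their traces on `PSL₂(F)`.
-/

set_option autoImplicit false
set_option linter.style.haveILetI false
set_option linter.unusedSectionVars false

namespace CfsgLib.PSL2

open Matrix MulAction CfsgLib.Classical
open scoped LinearAlgebra.Projectivization

variable {F : Type*} [Field F] [Finite F] {p : ℕ} [Fact p.Prime] [CharP F p]

local notation "PG" => Matrix.ProjGenLinGroup (Fin 2) F
local notation "P1" => ℙ F (Fin 2 → F)
local notation "PE" => ℙ (Ext2 F p) (Fin 2 → Ext2 F p)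

theorem mkToGL_range : (Matrix.ProjGenLinGroup.mk.comp Matrix.SpecialLinearGroup.toGL).range = pslRange F := by
  ext z
  constructor
  · rintro ⟨s, rfl⟩
    exact (slToPG_apply s).symm ▸ slToPG_mem s
  · intro hz
    obtain ⟨s, rfl⟩ := exists_lift hz
    exact ⟨s, (slToPG_apply s).symm⟩

theorem card_stab (x : P1) : Nat.card (stabilizer PG x) = Nat.card F * (Nat.card F - 1) := by
  obtain ⟨p, hp⟩ := CharP.exists F
  haveI := Fact.mk (CharP.char_is_prime F p)
  have h := card_orbit_mul (G := PG) x
  have horb : orbit PG x = Set.univ := Set.eq_univ_of_forall fun y => by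
    obtain ⟨k, hk⟩ := exists_to_inf x
    obtain ⟨l, hl⟩ := exists_to_inf y
    exact ⟨l * k⁻¹, by show (l * k⁻¹) • x = y; rw [mul_smul, ← hk, inv_smul_smul, hl]⟩
  rw [horb, Nat.card_coe_set_eq, Set.ncard_univ, card_proj_line, card_pgl_two rfl] at h
  exact Nat.eq_of_mul_eq_mul_left (by omega) h

/-- The point stabiliser of `PSL₂(F)` is maximal. -/
theorem borel_maxSub (x : P1) (hq : 3 < Nat.card F) : MaxSub (stabilizer PG x ⊓ pslRange F) := by
  obtain ⟨p, hp⟩ := CharP.exists F
  haveI := Fact.mk (CharP.char_is_prime F p)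
  refine ⟨(stab_ne_psl x hq).1, fun K hHK hK => le_antisymm (le_inf (fun k hk => ?_) hK.le) hHK⟩
  by_contra hkx
  have hkx' : k • x ≠ x := hkx
  obtain ⟨l, hl⟩ := exists_to_inf x
  have htrans : ∀ z : P1, z ≠ x → ∃ u ∈ K, u • (k • x) = z := by
    intro z hz
    have hfin : ∀ w : P1, w ≠ x → ∃ t : F, l⁻¹ • w = ptP t := by
      intro w hw
      have hw' : l⁻¹ • w ≠ pInf F := fun e => hw (by rw [← hl, ← e, smul_inv_smul])
      obtain ⟨v, hv⟩ : ∃ v : P1, l⁻¹ • w = v := ⟨_, rfl⟩
      rw [hv] at hw' ⊢
      induction v using Projectivization.ind with | _ v hv0 => ?_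
      have h1 : v 1 ≠ 0 := fun h1 => hw' (by
        rw [pInf, Projectivization.mk_eq_mk_iff']
        exact ⟨v 0, by ext i; fin_cases i <;> simp [h1]⟩)
      refine ⟨v 0 / v 1, ?_⟩
      rw [ptP, Projectivization.mk_eq_mk_iff']
      exact ⟨v 1, by ext i; fin_cases i <;> simp [h1, mul_div_cancel₀]⟩
    obtain ⟨a, ha⟩ := hfin (k • x) hkx'
    obtain ⟨b, hb⟩ := hfin z hz
    refine ⟨l * affP 1 (b - a) * l⁻¹, hHK ⟨?_, ?_⟩, ?_⟩
    · show (l * affP 1 (b - a) * l⁻¹) • x = x
      rw [mul_smul, mul_smul, ← hl, inv_smul_smul, affP_smul_inf]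
    · refine normal_pslRange.conj_mem _ ?_ l
      rw [affP, mk_mem_pslRange_iff]
      exact ⟨1, by simp [affMat, GeneralLinearGroup.mkOfDetNeZero, Matrix.det_fin_two]⟩
    · rw [mul_smul, mul_smul, ha, affP_smul_pt, Units.val_one, one_mul, add_sub_cancel, ← hb, smul_inv_smul]
  have horb : orbit K x = Set.univ := Set.eq_univ_of_forall fun z => by
    by_cases hz : z = x
    · rw [hz]; exact mem_orbit_self x
    · obtain ⟨u, hu, huz⟩ := htrans z hz
      exact ⟨⟨u * k, mul_mem hu hk⟩, by show (u * k) • x = z; rw [mul_smul, huz]⟩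
  have h1 := card_orbit_mul (G := K) x
  rw [horb, Nat.card_coe_set_eq, Set.ncard_univ, card_proj_line] at h1
  obtain ⟨-, hc⟩ := stab_ne_psl x hq
  have h2 : Nat.card ↥(stabilizer PG x ⊓ pslRange F) ≤ Nat.card (stabilizer K x) :=
    Nat.card_le_card_of_injective (fun g => ⟨⟨g.1, hHK g.2⟩, g.2.1⟩) fun a b h =>
      Subtype.ext (congrArg (fun z : stabilizer K x => ((z : K) : PG)) h)
  refine hK.ne (Subgroup.eq_of_le_of_card_ge hK.le ?_)
  rw [← h1]
  refine le_of_mul_le_mul_left (a := Nat.gcd 2 (Nat.card F - 1)) ?_ (Nat.gcd_pos_of_pos_left _ two_pos)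
  rw [card_pslRange_mul, ← hc, mul_left_comm]
  exact Nat.mul_le_mul_left _ (Nat.mul_le_mul_left _ h2)

theorem pairStab_card {a b : PE} (hg : GoodPair a b) :
    Nat.card ↥(pairStab a b : Subgroup PG) = 2 * torusCard a ∧
      Nonempty (↥(pairStab a b : Subgroup PG) ≃* DihedralGroup (torusCard a)) := by
  haveI := charP_ext2 (F := F) (p := p)
  have hPE : P1Like p PG PE := p1Like_ext
  have hab := hg.1
  set S := stabilizer PG a ⊓ stabilizer PG b with hS
  haveI := hPE.two_cyclic hab
  obtain ⟨⟨r, hr⟩, hro⟩ := IsCyclic.exists_ofOrder_eq_natCard (α := S)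
  rw [Subgroup.orderOf_mk, card_torus hg] at hro
  obtain ⟨w, hwa, hwb⟩ := exists_swap hg
  have hle : S ≤ pairStab a b := fun g hg' => .inl ⟨hg'.1, hg'.2⟩
  have hidx : (S.subgroupOf (pairStab a b)).index = 2 := by
    rw [Subgroup.index_eq_two_iff]
    refine ⟨⟨w, .inr ⟨hwa, hwb⟩⟩, fun z => ?_⟩
    rcases z.2 with ⟨hza, hzb⟩ | ⟨hza, hzb⟩
    · refine .inr ⟨⟨hza, hzb⟩, fun hm => ?_⟩
      have : ((z : PG) * w) • a = a := hm.1
      rw [mul_smul, hwa, hzb] at this
      exact hab this.symm
    · refine .inl ⟨⟨?_, ?_⟩, fun hm => ?_⟩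
      · show ((z : PG) * w) • a = a
        rw [mul_smul, hwa, hzb]
      · show ((z : PG) * w) • b = b
        rw [mul_smul, hwb, hza]
      · have : (z : PG) • a = a := hm.1
        rw [hza] at this
        exact hab this.symm
  have hcard : Nat.card ↥(pairStab a b : Subgroup PG) = 2 * torusCard a := by
    have h1 := (S.subgroupOf (pairStab a b)).card_mul_index
    rw [Nat.card_congr (Subgroup.subgroupOfEquivOfLe hle).toEquiv, hidx, card_torus hg] at h1
    omega
  refine ⟨hcard, ?_⟩
  have hpos : 0 < torusCard a := by rw [← card_torus hg]; exact Nat.card_pos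
  refine CfsgLib.Classical.nonempty_mulEquiv_dihedralGroup (x := (⟨r, hle hr⟩ : ↥(pairStab a b : Subgroup PG)))
    (s := (⟨w, .inr ⟨hwa, hwb⟩⟩ : ↥(pairStab a b : Subgroup PG))) hpos (by rw [Subgroup.orderOf_mk, hro]) ?_ ?_ ?_ hcard
  · exact Subtype.ext (hPE.swap_sq hab hwa hwb)
  · refine Subtype.ext ?_
    show w * r * w⁻¹ = r⁻¹
    have hww := hPE.swap_sq hab hwa hwb
    have h := hPE.swap_sq (g := w * r) hab (by rw [mul_smul, mem_stabilizer_iff.1 hr.1, hwa])
      (by rw [mul_smul, mem_stabilizer_iff.1 hr.2, hwb])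
    calc w * r * w⁻¹ = w * r * (w * r) * (r⁻¹ * (w⁻¹ * w⁻¹)) := by group
      _ = r⁻¹ := by rw [h, ← _root_.mul_inv_rev, hww, inv_one, one_mul, mul_one]
  · rintro ⟨n, hn⟩
    have hn' : r ^ n = w := congrArg Subtype.val hn
    have h2 : w • a = a := by rw [← hn']; exact Subgroup.zpow_mem _ hr.1 n
    exact hab (h2.symm.trans hwa)

/-- A subgroup of type `S₄` of `PGL₂(F)` is the normaliser of its four-group. -/
theorem eq_norm_of_perm' (hodd : Odd (Nat.card F)) {Y : Subgroup PG} (e : Y ≃* Equiv.Perm (Fin 4)) :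
    ∃ x y : PG, FourPair x y ∧ Y = fourNorm x y := by
  set φ : Equiv.Perm (Fin 4) →* PG := Y.subtype.comp e.symm.toMonoidHom with hφd
  have hφ : Function.Injective φ := Y.subtype_injective.comp e.symm.injective
  obtain ⟨a, b, c, d, ha, hb, hab, haa, hbb, hcd, hca, hdb, hg⟩ : ∃ a b c d : Equiv.Perm (Fin 4), a ≠ 1 ∧ b ≠ 1 ∧
      a ≠ b ∧ a * a = 1 ∧ b * b = 1 ∧ a * b = b * a ∧ c ^ 2 = a ∧ d ^ 2 = b ∧
      ∀ g : Equiv.Perm (Fin 4), (g * a * g⁻¹ = a ∨ g * a * g⁻¹ = b ∨ g * a * g⁻¹ = a * b) ∧
        (g * b * g⁻¹ = a ∨ g * b * g⁻¹ = b ∨ g * b * g⁻¹ = a * b) :=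
    ⟨Equiv.swap 0 2 * Equiv.swap 1 3, Equiv.swap 0 1 * Equiv.swap 2 3, finRotate 4,
      Equiv.swap 1 2 * finRotate 4 * Equiv.swap 1 2, by decide +kernel, by decide +kernel, by decide +kernel,
      by decide +kernel, by decide +kernel, by decide +kernel, by decide +kernel, by decide +kernel,
      by decide +kernel⟩
  have hsq : ∀ z : PG, z ^ 2 ∈ pslRange F := fun z => by
    have h := Subgroup.pow_index_mem (pslRange F) z
    rwa [index_pslRange, gcd_two_card_sub_one_of_odd hodd] at h
  have hp : FourPair (φ a) (φ b) :=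
    { hx := by rw [← hca, map_pow]; exact hsq _
      hy := by rw [← hdb, map_pow]; exact hsq _
      x1 := fun h => ha (hφ (h.trans (map_one φ).symm))
      y1 := fun h => hb (hφ (h.trans (map_one φ).symm))
      ne := fun h => hab (hφ h)
      sx := by rw [← map_mul, haa, map_one]
      sy := by rw [← map_mul, hbb, map_one]
      comm := by show φ a * φ b = φ b * φ a; rw [← map_mul, hcd, map_mul] }
  refine ⟨_, _, hp, Subgroup.eq_of_le_of_card_ge (fun z hz => ?_) ?_⟩
  · have hz' : φ (e ⟨z, hz⟩) = z := by simp [hφd]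
    obtain ⟨h1, h2⟩ := hg (e ⟨z, hz⟩)
    refine hp.mem_norm hodd ?_ ?_
    · rw [← hz', ← map_mul, ← map_inv, ← map_mul]
      rcases h1 with r | r | r <;> rw [r]
      · exact hp.left_mem
      · exact hp.right_mem
      · rw [map_mul]; exact mul_mem hp.left_mem hp.right_mem
    · rw [← hz', ← map_mul, ← map_inv, ← map_mul]
      rcases h2 with r | r | r <;> rw [r]
      · exact hp.left_mem
      · exact hp.right_mem
      · rw [map_mul]; exact mul_mem hp.left_mem hp.right_mem
  · rw [hp.card_norm hodd, Nat.card_congr e.toEquiv, card_perm_four]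

theorem le_psl_of_squares (hodd : Odd (Nat.card F)) {M : Subgroup PG}
    (h : ∀ g : M, ∃ a b : M, a ^ 2 * b ^ 2 = g) : M ≤ pslRange F := by
  intro g hg
  obtain ⟨a, b, hab⟩ := h ⟨g, hg⟩
  have hsq : ∀ z : PG, z ^ 2 ∈ pslRange F := fun z => by
    have h := Subgroup.pow_index_mem (pslRange F) z
    rwa [index_pslRange, gcd_two_card_sub_one_of_odd hodd] at h
  have h1 : (a : PG) ^ 2 * (b : PG) ^ 2 = g := congrArg Subtype.val hab
  rw [← h1]
  exact (pslRange F).mul_mem (hsq _) (hsq _)

theorem alt_le_psl (hodd : Odd (Nat.card F)) {M : Subgroup PG}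
    (e : Nonempty (M ≃* alternatingGroup (Fin 4)) ∨ Nonempty (M ≃* alternatingGroup (Fin 5))) : M ≤ pslRange F := by
  rcases e with ⟨⟨e⟩⟩ | ⟨⟨e⟩⟩
  · refine le_psl_of_squares hodd fun g => ?_
    have key : ∀ g : alternatingGroup (Fin 4), ∃ a b : alternatingGroup (Fin 4), a ^ 2 * b ^ 2 = g := by
      decide +kernel
    obtain ⟨a, b, hab⟩ := key (e g)
    exact ⟨e.symm a, e.symm b, e.injective (by simp [hab])⟩
  · by_contra hle
    have hn : ((pslRange F).subgroupOf M).index = 2 := by
      have hd := Subgroup.relIndex_dvd_index_of_normal (pslRange F) M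
      rw [index_pslRange, gcd_two_card_sub_one_of_odd hodd] at hd
      exact ((Nat.dvd_prime Nat.prime_two).1 hd).resolve_left fun h1 => hle (Subgroup.relIndex_eq_one.1 h1)
    haveI : Nontrivial M := e.toEquiv.nontrivial
    haveI : IsSimpleGroup M := IsSimpleGroup.isSimpleGroup_of_surjective e.symm.toMonoidHom e.symm.surjective
    haveI := Subgroup.normal_of_index_eq_two hn
    rcases (inferInstance : ((pslRange F).subgroupOf M).Normal).eq_bot_or_eq_top with h | h
    · rw [h, Subgroup.index_bot, Nat.card_congr e.toEquiv, card_alt_five] at hn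
      omega
    · rw [h, Subgroup.index_top] at hn
      omega

/-- The types of maximal subgroups of `PGL₂(F)` not containing `PSL₂(F)`. -/
inductive PGLType (p : ℕ) [Fact p.Prime] [CharP F p] (M : Subgroup PG) : Prop
  | borel (x : P1) (heq : M = stabilizer PG x) : PGLType p M
  | torus (a b : ℙ (Ext2 F p) (Fin 2 → Ext2 F p)) (hg : GoodPair a b) (heq : M = pairStab a b)
      (h5 : IsRat a → Nat.card F ≠ 5) : PGLType p M
  | octa (x y : PG) (h : FourPair x y) (heq : M = fourNorm x y) (hF : Nat.card F = p)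
      (h8 : p % 8 = 3 ∨ p % 8 = 5) : PGLType p M
  | subfield (K : Subfield F) (k : PG) (r : ℕ) (hr : r.Prime) (hodd : Odd r) (hm : Module.finrank K F = r)
      (heq : M = subGroupK K k) : PGLType p M

/-- The maximal subgroups of `PGL₂(F)` not containing `PSL₂(F)`. -/
theorem pglType {M : Subgroup PG} (hM : IsCoatom M) (hML : ¬ pslRange F ≤ M) (hodd : Odd (Nat.card F))
    (hq : 3 < Nat.card F) : PGLType p M := by
  haveI := charP_ext2 (F := F) (p := p)
  have hidx : (pslRange F).index = 2 := by rw [index_pslRange, gcd_two_card_sub_one_of_odd hodd]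
  have hLtop : pslRange F ≠ ⊤ := fun h => by rw [h, Subgroup.index_top] at hidx; omega
  have hnle : ¬ M ≤ pslRange F := fun h => by
    rcases eq_or_lt_of_le h with e | e
    · exact hML e.ge
    · exact hLtop (hM.2 _ e)
  have hbig := card_psl_big hodd (show 5 ≤ Nat.card F by obtain ⟨j, hj⟩ := hodd; omega)
  have hPG : Nat.card PG = 2 * Nat.card (pslRange F) := (two_mul_card_pslRange_of_odd hodd).symm
  have top_of : ∀ X : Subgroup PG, M ≤ X → X ≠ ⊤ → X = M := fun X hX hne => by
    rcases eq_or_lt_of_le hX with e | e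
    · exact e.symm
    · exact absurd (hM.2 _ e) hne
  have ne_top_of_card : ∀ X : Subgroup PG, Nat.card X < 2 * Nat.card (pslRange F) → X ≠ ⊤ := fun X h e => by
    rw [e, Subgroup.card_top, hPG] at h
    omega
  cases geoCase p M with
  | borel x hx hp =>
    refine .borel x (top_of _ (fun g hg => hx g hg) (ne_top_of_card _ ?_)).symm
    rw [card_stab, two_mul_psl_of_odd hodd]
    exact lt_mul_of_one_lt_left (Nat.mul_pos (by omega) (by omega)) (by omega)
  | pair a b hab hle hgen =>
    rcases hgen with ⟨g, hgM, hg1, hga, hgb⟩ | hbot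
    · have hg := goodPair_of_fixed hg1 hab hga hgb
      obtain ⟨hc, -⟩ := pairStab_card hg
      have hne : pairStab a b ≠ (⊤ : Subgroup PG) := ne_top_of_card _ (by
        rw [hc, two_mul_psl_of_odd hodd]
        have h1 : torusCard a ≤ Nat.card F + 1 := by rw [torusCard]; split_ifs <;> omega
        calc 2 * torusCard a ≤ 2 * (Nat.card F + 1) := Nat.mul_le_mul_left 2 h1
          _ < (Nat.card F + 1) * (4 * 3) := by omega
          _ ≤ _ := Nat.mul_le_mul_left _ (Nat.mul_le_mul (by omega) (by omega)))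
      have heq := (top_of _ hle hne).symm
      refine .torus a b hg heq fun hr h5 => ?_
      -- a torus normaliser of order eight normalises a four-group
      obtain ⟨r, w, -, -, -, -, -, -, hro, -, hcT, ⟨e⟩⟩ := torus_psl hg (fun _ => by omega)
      rw [torusCard, if_pos hr, gcd_two_card_sub_one_of_odd hodd, h5] at hro
      rw [hro] at hcT e
      haveI : IsKleinFour ↥(pairStab a b ⊓ pslRange F) :=
        ⟨hcT, (Monoid.exponent_eq_of_mulEquiv e).trans (by rw [DihedralGroup.exponent]; rfl)⟩
      obtain ⟨x, y, hxy, hV⟩ := pair_of_klein hodd (V := pairStab a b ⊓ pslRange F) inferInstance inf_le_right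
      have hMN : M ≤ fourNorm x y := by
        intro m hm
        refine mem_normalizer_of_conj_mem fun v hv => ?_
        rw [← hV] at hv ⊢
        rw [heq] at hm
        exact ⟨(pairStab a b : Subgroup PG).mul_mem ((pairStab a b : Subgroup PG).mul_mem hm hv.1)
          ((pairStab a b : Subgroup PG).inv_mem hm), normal_pslRange.conj_mem _ hv.2 m⟩
      have h24 := top_of _ hMN (ne_top_of_card _ (by rw [hxy.card_norm hodd]; omega))
      have h8 := hxy.card_norm hodd
      rw [h24, heq, hc, torusCard, if_pos hr, h5] at h8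
      omega
    · exact absurd (hbot ▸ bot_le) hnle
  | tetra hp iso => exact absurd (alt_le_psl hodd (.inl iso)) hnle
  | octa hp iso =>
    obtain ⟨e⟩ := iso
    obtain ⟨x, y, hxy, rfl⟩ := eq_norm_of_perm' hodd e
    have h8 : ¬ (Nat.card F % 8 = 1 ∨ Nat.card F % 8 = 7) :=
      fun h => hnle ((fourNorm_le_psl_iff hodd hxy).2 h)
    rw [hxy.card_norm hodd] at hp
    have hp3 : p ≠ 3 := by rintro rfl; exact hp (by norm_num)
    have hp2 : p ≠ 2 := ne_two_of_odd hodd
    obtain ⟨K, hK⟩ := exists_prime_subfield (F := F) p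
    have hKodd : Odd (Nat.card K) := by rw [hK]; exact (Fact.out : p.Prime).odd_of_ne_two hp2
    obtain ⟨x₀, y₀, h₀⟩ := exists_fourPair (F := K) p hKodd
    set ψ := ProjGenLinGroup.map (n := Fin 2) K.subtype
    have hpair : FourPair (ψ x₀) (ψ y₀) :=
      { hx := by simpa using map_mem_psl K 1 h₀.hx
        hy := by simpa using map_mem_psl K 1 h₀.hy
        x1 := fun h => h₀.x1 (map_subtype_injective K.subtype (h.trans (map_one _).symm))
        y1 := fun h => h₀.y1 (map_subtype_injective K.subtype (h.trans (map_one _).symm))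
        ne := fun h => h₀.ne (map_subtype_injective K.subtype h)
        sx := by rw [← map_mul, h₀.sx, map_one]
        sy := by rw [← map_mul, h₀.sy, map_one]
        comm := h₀.comm.map _ }
    have himg : fourNorm (ψ x₀) (ψ y₀) = (fourNorm x₀ y₀).map ψ := by
      refine (Subgroup.eq_of_le_of_card_ge ?_ ?_).symm
      · rintro _ ⟨n, hn, rfl⟩
        refine hpair.mem_norm hodd ?_ ?_
        · have h1 := fourNorm_conj_mem hn h₀.left_mem
          rw [mem_fourGrp] at h1 ⊢
          rw [← map_inv, ← map_mul, ← map_mul]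
          exact ⟨h1.1.map _, h1.2.map _⟩
        · have h1 := fourNorm_conj_mem hn h₀.right_mem
          rw [mem_fourGrp] at h1 ⊢
          rw [← map_inv, ← map_mul, ← map_mul]
          exact ⟨h1.1.map _, h1.2.map _⟩
      · rw [Subgroup.card_map_of_injective (map_subtype_injective K.subtype), h₀.card_norm hKodd,
          hpair.card_norm hodd]
    obtain ⟨g, rfl, rfl⟩ := hpair.conj p hodd hxy
    have hle : fourNorm (g * ψ x₀ * g⁻¹) (g * ψ y₀ * g⁻¹) ≤ subGroupK K g := by
      rw [← fourNorm_map_conj, himg]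
      rintro _ ⟨_, ⟨n, -, rfl⟩, rfl⟩
      exact mem_subGroupK n
    have hK1 : K = ⊤ := by
      by_contra hKne
      have h2 : subGroupK K g ≠ ⊤ := ne_top_of_card _ (by
        rw [card_subGroupK, two_mul_psl_of_odd hodd]
        have := card_pgl_mono (Q := Nat.card K) (q := Nat.card F) Finite.one_lt_card (by
          rw [Module.natCard_eq_pow_finrank (K := K) (V := F)]
          exact Nat.pow_le_pow_right Nat.card_pos (two_le_finrank hKne))
        omega)
      have h3 := congrArg (fun X : Subgroup PG => Nat.card X) (top_of _ hle h2)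
      simp only [card_subGroupK, hxy.card_norm hodd, hK] at h3
      have h5 : 5 ≤ p := by
        have := (Fact.out : p.Prime).two_le
        by_contra h
        interval_cases p
        · exact hp2 rfl
        · exact hp3 rfl
        · exact absurd (Fact.out : Nat.Prime 4) (by norm_num)
      have := Nat.mul_le_mul (show 6 ≤ p + 1 by omega) (Nat.mul_le_mul h5 (show 4 ≤ p - 1 by omega))
      omega
    have hFp : Nat.card F = p := by rw [← hK, hK1, Nat.card_congr Subfield.topEquiv.toEquiv]
    refine .octa _ _ hxy rfl hFp ?_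
    rw [hFp] at h8
    have := Nat.odd_iff.1 (hFp ▸ hodd)
    omega
  | icosa hp iso => exact absurd (alt_le_psl hodd (.inr iso)) hnle
  | subfield K k hle hcard =>
    have hK : K ≠ ⊤ := by
      rintro rfl
      have h1 : Nat.card (⊤ : Subfield F) = Nat.card F := Nat.card_congr Subfield.topEquiv.toEquiv
      rw [card_pgl_two h1, ← card_pgl_two (K := F) rfl] at hcard
      rcases hcard with h2 | ⟨-, h2⟩
      · exact hM.1 (Subgroup.eq_top_of_card_eq M h2)
      · have hi : M.index = 2 := by
          have h3 := M.card_mul_index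
          rw [← h2, mul_comm 2] at h3
          exact Nat.eq_of_mul_eq_mul_left Nat.card_pos h3
        haveI := Subgroup.normal_of_index_eq_two hi
        haveI := Matrix.ProjectiveSpecialLinearGroup.rank_two_simple (F := F) (by omega)
        set f := ProjectiveSpecialLinearGroup.toPGL (n := Fin 2) (R := F)
        rcases (inferInstance : (M.comap f).Normal).eq_bot_or_eq_top with hb | ht
        · have h4 : (M.comap f).index ∣ M.index := by
            rw [Subgroup.index_comap]
            exact Subgroup.relIndex_dvd_index_of_normal _ _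
          rw [hb, Subgroup.index_bot] at h4
          have h5 : Nat.card (Matrix.ProjectiveSpecialLinearGroup (Fin 2) F) = Nat.card (pslRange F) :=
            Nat.card_congr (MonoidHom.ofInjective ProjectiveSpecialLinearGroup.toPGL_injective).toEquiv
          have := Nat.le_of_dvd (by omega) h4
          omega
        · refine hML ?_
          rintro _ ⟨z, rfl⟩
          have : z ∈ M.comap f := ht ▸ Subgroup.mem_top z
          exact this
    have hne : subGroupK K k ≠ ⊤ := ne_top_of_card _ (by
      rw [card_subGroupK, two_mul_psl_of_odd hodd]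
      have := card_pgl_mono (Q := Nat.card K) (q := Nat.card F) Finite.one_lt_card (by
        rw [Module.natCard_eq_pow_finrank (K := K) (V := F)]
        exact Nat.pow_le_pow_right Nat.card_pos (two_le_finrank hK))
      omega)
    have heq := (top_of _ hle hne).symm
    have hmodd : Odd (Module.finrank K F) := by
      rw [← Nat.not_even_iff_odd]
      exact fun he => hnle (heq ▸ subGroupK_le_psl hodd K k he)
    set m := Module.finrank K F with hm
    have hm2 : 2 ≤ m := two_le_finrank hK
    obtain ⟨r, hr, hrm⟩ := Nat.exists_prime_and_dvd (show m ≠ 1 by omega)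
    rcases eq_or_ne m r with hmr | hmr
    · exact .subfield K k r hr (hmr ▸ hmodd) hmr heq
    exfalso
    obtain ⟨K', hKK', hK'c⟩ := exists_intermediate p hrm
    obtain ⟨j, hj⟩ := hrm
    rw [← hm, hj, Nat.mul_div_cancel_left _ hr.pos] at hK'c
    have hj2 : 2 ≤ j := by
      by_contra h
      interval_cases j
      · omega
      · exact hmr (by rw [hj, mul_one])
    have hjm : j < m := hj ▸ lt_mul_of_one_lt_left (by omega) hr.one_lt
    have hK' : K' ≠ ⊤ := by
      rintro rfl
      rw [Nat.card_congr Subfield.topEquiv.toEquiv, Module.natCard_eq_pow_finrank (K := K) (V := F), ← hm] at hK'c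
      exact absurd (Nat.pow_right_injective (Finite.one_lt_card : 2 ≤ Nat.card K) hK'c) hjm.ne'
    have hne' : subGroupK K' k ≠ ⊤ := ne_top_of_card _ (by
      rw [card_subGroupK, two_mul_psl_of_odd hodd]
      have := card_pgl_mono (Q := Nat.card K') (q := Nat.card F) Finite.one_lt_card (by
        rw [Module.natCard_eq_pow_finrank (K := K') (V := F)]
        exact Nat.pow_le_pow_right Nat.card_pos (two_le_finrank hK'))
      omega)
    have hMK : M = subGroupK K k := heq
    have h3 : Nat.card (subGroupK K' k) = Nat.card (subGroupK K k) := by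
      rw [top_of _ (hMK.le.trans (subGroupK_mono hKK' k)) hne', hMK]
    rw [card_subGroupK, card_subGroupK] at h3
    have := card_pgl_mono (Q := Nat.card K) (q := Nat.card K') Finite.one_lt_card
      (hK'c ▸ Nat.pow_le_pow_right Nat.card_pos hj2)
    omega

end CfsgLib.PSL2
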