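import Cfsg.Agent.Lib.PSL2.Tori

/-!
Solubilizers in `PGL₂(F) = PSL₂(F)`, `F` of characteristic two.

A nontrivial solvable subgroup fixes a point or permutes a pair of points of the extended line. For an involution `x`
with fixed point `c`, the solubilizer is the stabiliser of `c`, the involutions outside it, and their translates by `x`.
-/

set_option autoImplicit false
set_option linter.style.haveILetI false
set_option linter.unusedSectionVars false

namespace CfsgLib.PSL2.SolubilizerEven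

open Matrix MulAction CfsgLib.Classical CfsgLib.PSL2
open scoped LinearAlgebra.Projectivization commutatorElement

section general

variable {G : Type*} [Group G]

theorem exists_abelian_normal (H : Subgroup G) [Group.IsSolvable H] (hH : H ≠ ⊥) :
    ∃ a ∈ H, a ≠ 1 ∧ ∀ h ∈ H, Commute a (h * a * h⁻¹) := by
  classical
  have hs : ∃ n, derivedSeries H n = ⊥ := Group.IsSolvable.solvable
  have hn := Nat.find_spec hs
  obtain ⟨m, hm⟩ : ∃ m, Nat.find hs = m + 1 := by
    refine ⟨Nat.find hs - 1, ?_⟩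
    by_contra hne
    have h0 : Nat.find hs = 0 := by omega
    rw [h0, derivedSeries_zero] at hn
    exact hH ((Subgroup.eq_bot_iff_forall _).2 fun z hz =>
      congrArg Subtype.val ((Subgroup.mem_bot (G := H)).1 (hn ▸ Subgroup.mem_top (⟨z, hz⟩ : H))))
  have hne : derivedSeries H m ≠ ⊥ := fun e => Nat.find_min hs (by omega) e
  obtain ⟨a, ha, ha1⟩ := (Subgroup.bot_or_exists_ne_one _).resolve_left hne
  refine ⟨a, a.2, fun e => ha1 (Subtype.ext e), fun h hh => ?_⟩
  have hconj := (derivedSeries_normal H m).conj_mem a ha ⟨h, hh⟩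
  rw [hm, derivedSeries_succ, Subgroup.commutator_eq_bot_iff_le_centralizer] at hn
  exact (congrArg Subtype.val (Subgroup.mem_centralizer_iff.1 (hn ha) _ hconj)).symm

theorem solvable_of_derived_le {D : Subgroup G} (T : Subgroup G)
    (hc : ∀ g ∈ D, ∀ h ∈ D, ⁅g, h⁆ ∈ T) (hT : ∀ g ∈ T, ∀ h ∈ T, g * h = h * g) : Group.IsSolvable D := by
  refine (Group.isSolvable_def _).2 ⟨2, ?_⟩
  have h1 : derivedSeries D 1 ≤ T.subgroupOf D := by
    rw [derivedSeries_succ, derivedSeries_zero, Subgroup.commutator_le]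
    intro g _ h _
    exact hc g g.2 h h.2
  rw [derivedSeries_succ, Subgroup.commutator_eq_bot_iff_le_centralizer]
  intro g hg
  exact Subgroup.mem_centralizer_iff.2 fun h hh => Subtype.ext (hT _ (h1 hh) _ (h1 hg))

theorem solvable_of_le {H K : Subgroup G} (h : H ≤ K) [Group.IsSolvable K] : Group.IsSolvable H :=
  Group.isSolvable_of_isSolvable_injective (f := Subgroup.inclusion h) (Subgroup.inclusion_injective h)

end general

variable {F : Type*} [Field F] [Finite F] [Fact (Nat.Prime 2)] [CharP F 2]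

local notation "PG" => Matrix.ProjGenLinGroup (Fin 2) F
local notation "P1" => ℙ F (Fin 2 → F)
local notation "PE" => ℙ (Ext2 F 2) (Fin 2 → Ext2 F 2)

theorem hP : P1Like 2 PG PE := p1Like_ext

theorem even_card : Even (Nat.card F) := by
  obtain ⟨k, hk, e⟩ := card_eq_charPow (F := F) (p := 2)
  rw [e]; exact Nat.even_pow.2 ⟨even_two, hk.ne'⟩

theorem rational_of_sq {u : PG} (hu : u ≠ 1) (h2 : u ^ 2 = 1) :
    ∃ z : P1, u • embP 2 z = embP 2 z ∧ ∀ c : PE, u • c = c → c = embP 2 z := by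
  obtain ⟨z, hz⟩ := exists_rational_fix (p := 2) h2
  have hz' : u • embP 2 z = embP 2 z := by rw [← embP_smul, hz]
  exact ⟨z, hz', fun c hc => hP.unique_fix hu h2 hc hz'⟩

theorem two_fixed {u : PG} (h2 : u ^ 2 ≠ 1) :
    ∃ a b : PE, a ≠ b ∧ u • a = a ∧ u • b = b ∧ ∀ c : PE, u • c = c → c = a ∨ c = b := by
  obtain ⟨a, ha⟩ := exists_fix_ext (p := 2) u
  obtain ⟨b, hba, hb⟩ := hP.exists_other h2 ha
  refine ⟨a, b, hba.symm, ha, hb, fun c hc => ?_⟩
  by_contra hne
  push Not at hne
  exact h2 (by rw [hP.sharp hba.symm hne.1.symm hne.2.symm ha hb hc, one_pow])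

theorem smul_fixed_of_commute {g u : PG} (h : Commute g u) {c : PE} (hc : u • c = c) : u • (g • c) = g • c := by
  rw [← mul_smul, ← h.eq, mul_smul, hc]

theorem sq_ne_of_swap {u : PG} {a b : PE} (hab : a ≠ b) (ha : u • a = b) (hb : u • b = a) : u ^ 2 = 1 := by
  rw [pow_two]; exact hP.swap_sq hab ha hb

theorem solvable_cases (H : Subgroup PG) [Group.IsSolvable H] (hH : H ≠ ⊥) :
    (∃ z : P1, ∀ h ∈ H, h • embP 2 z = embP 2 z) ∨ ∃ a b : PE, a ≠ b ∧ H ≤ pairStab a b := by
  obtain ⟨u, huH, hu1, hcomm⟩ := exists_abelian_normal H hH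
  by_cases h2 : u ^ 2 = 1
  · obtain ⟨z, hz, huniq⟩ := rational_of_sq hu1 h2
    refine .inl ⟨z, fun h hh => huniq _ ?_⟩
    set v := h * u * h⁻¹ with hv
    have hv1 : v ≠ 1 := fun e => hu1 (conj_eq_one_iff.1 e)
    have hv2 : v ^ 2 = 1 := by rw [hv, conj_pow, h2, mul_one, mul_inv_cancel]
    have hvc : v • (h • embP 2 z) = h • embP 2 z := by rw [hv, mul_smul, mul_smul, inv_smul_smul, hz]
    exact smul_eq_of_commute hP hv1 hv2 hvc (hcomm h hh)
  · obtain ⟨a, b, hab, ha, hb, hfix⟩ := two_fixed h2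
    refine .inr ⟨a, b, hab, fun h hh => ?_⟩
    set v := h * u * h⁻¹ with hv
    have hva : v • (h • a) = h • a := by rw [hv, mul_smul, mul_smul, inv_smul_smul, ha]
    have hvb : v • (h • b) = h • b := by rw [hv, mul_smul, mul_smul, inv_smul_smul, hb]
    have hv2 : v ^ 2 ≠ 1 := fun e => h2 (by rw [hv, conj_pow, conj_eq_one_iff] at e; exact e)
    obtain ⟨a', b', hab', ha', hb', hfix'⟩ := two_fixed hv2
    have hne : h • a ≠ h • b := fun e => hab (smul_left_cancel h e)
    have hu1 := smul_fixed_of_commute (hcomm h hh) hva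
    have hu2 := smul_fixed_of_commute (hcomm h hh) hvb
    have key : ∀ c, c = h • a ∨ c = h • b → u • c = h • a ∨ u • c = h • b := by
      intro c hc
      have h' : v • (u • c) = u • c := smul_fixed_of_commute (hcomm h hh) (by rcases hc with rfl | rfl <;> assumption)
      rcases hfix' _ hva with ea | ea <;> rcases hfix' _ hvb with eb | eb <;> rcases hfix' _ h' with ec | ec <;>
        simp_all
    have hfa : u • (h • a) = h • a := by
      rcases key _ (.inl rfl) with e | e
      · exact e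
      · rcases key _ (.inr rfl) with e' | e'
        · exact absurd (sq_ne_of_swap hne e e') h2
        · exact absurd (smul_left_cancel u (e.trans e'.symm)) hne
    have hfb : u • (h • b) = h • b := by
      rcases key _ (.inr rfl) with e | e
      · exact absurd (smul_left_cancel u (e.trans hfa.symm)) hne.symm
      · exact e
    rcases hfix _ hfa with e | e
    · rcases hfix _ hfb with e' | e'
      · exact absurd (e.trans e'.symm) hne
      · exact .inl ⟨e, e'⟩
    · rcases hfix _ hfb with e' | e'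
      · exact .inr ⟨e, e'⟩
      · exact absurd (e.trans e'.symm) hne

instance solvable_stabilizer (c : PE) : Group.IsSolvable (stabilizer PG c) :=
  solvable_of_derived_le (unipAt hP c)
    (fun g hg h hh => ⟨by
      rw [commutatorElement_def]
      exact mem_stabilizer_iff.1 (mul_mem (mul_mem (mul_mem hg hh) (inv_mem hg)) (inv_mem hh)),
      by rw [commutatorElement_def]; exact hP.comm_unip hg hh⟩)
    (fun g hg h hh => (hP.unip_mul hg.2 hh.2 hg.1 hh.1).2)

theorem solvable_pairStab {a b : PE} (hab : a ≠ b) : Group.IsSolvable (pairStab (G := PG) a b) := by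
  refine solvable_of_derived_le (stabilizer PG a ⊓ stabilizer PG b) (fun g hg h hh => ?_) (fun g hg h hh => ?_)
  · rw [commutatorElement_def]
    refine ⟨?_, ?_⟩ <;> show (g * h * g⁻¹ * h⁻¹) • _ = _ <;> rw [mul_smul, mul_smul, mul_smul] <;>
      rcases hg with ⟨g1, g2⟩ | ⟨g1, g2⟩ <;> rcases hh with ⟨h1, h2⟩ | ⟨h1, h2⟩ <;>
      simp [g1, g2, h1, h2, inv_smul_eq_iff.2 g1.symm, inv_smul_eq_iff.2 g2.symm, inv_smul_eq_iff.2 h1.symm,
        inv_smul_eq_iff.2 h2.symm]
  · haveI := (hP (F := F)).two_cyclic hab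
    letI := IsCyclic.commGroup (α := ↥(stabilizer PG a ⊓ stabilizer PG b))
    exact congrArg Subtype.val (mul_comm (⟨g, hg⟩ : ↥(stabilizer PG a ⊓ stabilizer PG b)) ⟨h, hh⟩)

/-- The solubilizer. -/
def Sol (x : PG) : Set PG := {y | Group.IsSolvable (Subgroup.closure ({x, y} : Set PG))}

theorem mem_sol_iff {x y : PG} (hx : x ≠ 1) :
    y ∈ Sol x ↔ (∃ z : P1, x • embP 2 z = embP 2 z ∧ y • embP 2 z = embP 2 z) ∨
      ∃ a b : PE, a ≠ b ∧ x ∈ pairStab a b ∧ y ∈ pairStab a b := by
  set H := Subgroup.closure ({x, y} : Set PG) with hH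
  have hxH : x ∈ H := Subgroup.subset_closure (Set.mem_insert _ _)
  have hyH : y ∈ H := Subgroup.subset_closure (Set.mem_insert_of_mem _ rfl)
  constructor
  · intro hy
    haveI : Group.IsSolvable H := hy
    rcases solvable_cases H (fun e => hx ((Subgroup.mem_bot).1 (e ▸ hxH))) with ⟨z, hz⟩ | ⟨a, b, hab, hle⟩
    · exact .inl ⟨z, hz x hxH, hz y hyH⟩
    · exact .inr ⟨a, b, hab, hle hxH, hle hyH⟩
  · rintro (⟨z, h1, h2⟩ | ⟨a, b, hab, h1, h2⟩)
    · exact solvable_of_le (K := stabilizer PG (embP 2 z))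
        ((Subgroup.closure_le _).2 (by rintro w (rfl | rfl) <;> assumption))
    · haveI := solvable_pairStab (F := F) hab
      exact solvable_of_le (K := pairStab a b) ((Subgroup.closure_le _).2 (by rintro w (rfl | rfl) <;> assumption))

theorem card_stab_point (z : P1) : Nat.card (stabilizer PG (embP 2 z)) = Nat.card F * (Nat.card F - 1) := by
  have horb : orbit PG (embP 2 z) = Set.range (embP (F := F) 2) := by
    ext b
    constructor
    · rintro ⟨g, rfl⟩
      exact ⟨g • z, embP_smul 2 g z⟩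
    · rintro ⟨w, rfl⟩
      obtain ⟨k, hk⟩ := exists_to_inf z
      obtain ⟨l, hl⟩ := exists_to_inf w
      refine ⟨l * k⁻¹, ?_⟩
      show (l * k⁻¹) • embP 2 z = _
      rw [← embP_smul, mul_smul, inv_smul_eq_iff.2 hk.symm, hl]
  have h := card_orbit_mul (G := PG) (embP 2 z)
  rw [horb, Nat.card_coe_set_eq, Set.ncard_range_of_injective (embP_injective 2), card_proj_line,
    card_pgl_two rfl] at h
  exact Nat.eq_of_mul_eq_mul_left (Nat.succ_pos _) h

theorem card_torus_pair {a b : PE} (h : GoodPair (F := F) a b) :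
    Nat.card (pairStab (G := PG) a b) = 2 * torusCard (F := F) a := by
  obtain ⟨r, w, -, -, -, -, -, -, hro, -, hc, -⟩ := torus_psl h (fun _ e => by
    have := even_card (F := F); rw [e] at this; exact absurd this (by decide))
  rw [pslRange_eq_top_of_even even_card, inf_top_eq] at hc
  rw [hc, hro, gcd_two_card_sub_one_of_even even_card, Nat.div_one]

theorem stab_stab_iff {a b : PE} (hab : a ≠ b) {g : PG} (hg : g ∈ pairStab a b) :
    g ∈ stabilizer PG a ↔ g ∈ stabilizer PG a ⊓ stabilizer PG b := by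
  refine ⟨fun h => ⟨h, ?_⟩, fun h => h.1⟩
  rcases hg with ⟨-, h2⟩ | ⟨h1, -⟩
  · exact h2
  · exact absurd ((mem_stabilizer_iff.1 h).symm.trans h1) hab

/-- The semisimple case: nothing but the subgroups through the fixed points. -/
theorem sol_semisimple {x : PG} (h2 : x ^ 2 ≠ 1) {a b : PE} (hab : a ≠ b) (ha : x • a = a) (hb : x • b = b) :
    Sol x = ((pairStab (G := PG) a b : Set PG) ∪ {y | ∃ z : P1, (embP 2 z = a ∨ embP 2 z = b) ∧ y • embP 2 z = embP 2 z}) := by
  have hx : x ≠ 1 := fun e => h2 (by rw [e, one_pow])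
  have only : ∀ c : PE, x • c = c → c = a ∨ c = b := fun c hc => by
    by_contra hne
    push Not at hne
    exact hx (hP.sharp hab hne.1.symm hne.2.symm ha hb hc)
  ext y
  rw [mem_sol_iff hx]
  constructor
  · rintro (⟨z, h1, h3⟩ | ⟨c, d, hcd, hxcd, hy⟩)
    · exact .inr ⟨z, only _ h1, h3⟩
    · rcases hxcd with ⟨hc, hd⟩ | ⟨hc, hd⟩
      · left
        rcases only _ hc with rfl | rfl <;> rcases only _ hd with rfl | rfl
        · exact absurd rfl hcd
        · exact hy
        · exact hy.elim (fun h => .inl ⟨h.2, h.1⟩) (fun h => .inr ⟨h.2, h.1⟩)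
        · exact absurd rfl hcd
      · exact absurd (sq_ne_of_swap hcd hc hd) h2
  · rintro (hy | ⟨z, hz, hy⟩)
    · exact .inr ⟨a, b, hab, .inl ⟨ha, hb⟩, hy⟩
    · exact .inl ⟨z, by rcases hz with e | e <;> rw [e] <;> assumption, hy⟩

theorem sol_split_card {x : PG} (h2 : x ^ 2 ≠ 1) (ho : orderOf x ∣ Nat.card F - 1) :
    (Sol x).ncard = 2 * Nat.card F * (Nat.card F - 1) := by
  have hx : x ≠ 1 := fun e => h2 (by rw [e, one_pow])
  obtain ⟨a, b, hab, ha, hb, -⟩ := two_fixed h2
  have hg := goodPair_of_fixed hx hab ha hb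
  rw [sol_semisimple h2 hab ha hb]
  obtain ⟨⟨u, rfl⟩, ⟨v, rfl⟩⟩ : IsRat a ∧ IsRat b := by
    rcases hg.2 with h | ⟨hna, -, -⟩
    · exact h
    · exfalso
      have h1 : orderOf x ∣ Nat.card F + 1 := by
        rw [← card_stab_nonrat hna]; exact Subgroup.orderOf_dvd_natCard _ (mem_stabilizer_iff.2 ha)
      have hq := Finite.one_lt_card (α := F)
      have h3 : orderOf x ∣ 2 := by
        have := Nat.dvd_sub h1 ho
        rwa [show Nat.card F + 1 - (Nat.card F - 1) = 2 by omega] at this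
      exact h2 (orderOf_dvd_iff_pow_eq_one.1 h3)
  set A := stabilizer PG (embP 2 u) with hA
  set B := stabilizer PG (embP 2 v) with hB
  set D := pairStab (G := PG) (embP 2 u) (embP 2 v) with hD
  have hU : {y : PG | ∃ z : P1, (embP 2 z = embP 2 u ∨ embP 2 z = embP 2 v) ∧ y • embP 2 z = embP 2 z} =
      (A : Set PG) ∪ (B : Set PG) := by
    ext y
    constructor
    · rintro ⟨z, e | e, hy⟩ <;> rw [e] at hy
      · exact .inl hy
      · exact .inr hy
    · rintro (hy | hy)
      · exact ⟨u, .inl rfl, hy⟩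
      · exact ⟨v, .inr rfl, hy⟩
  have hT : Nat.card ↥(A ⊓ B) = Nat.card F - 1 := by
    rw [card_torus hg, torusCard, if_pos ⟨u, rfl⟩]
  have hDAB : (D : Set PG) ∩ ((A : Set PG) ∪ B) = ((A ⊓ B : Subgroup PG) : Set PG) := by
    ext y
    constructor
    · rintro ⟨hy, h | h⟩
      · exact (stab_stab_iff hab hy).1 h
      · refine ⟨?_, h⟩
        rcases hy with ⟨h1, -⟩ | ⟨-, h1⟩
        · exact h1
        · exact absurd ((mem_stabilizer_iff.1 h).symm.trans h1) hab.symm
    · intro hy
      exact ⟨.inl ⟨hy.1, hy.2⟩, .inl hy.1⟩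
  rw [hU]
  have e1 := Set.ncard_union_add_ncard_inter (D : Set PG) ((A : Set PG) ∪ B)
  have e2 := Set.ncard_union_add_ncard_inter (A : Set PG) (B : Set PG)
  rw [hDAB] at e1
  simp only [← Subgroup.coe_inf, ← Nat.card_coe_set_eq, SetLike.coe_sort_coe] at e1 e2
  rw [hT] at e1 e2
  rw [hA, hB, card_stab_point, card_stab_point] at e2
  rw [hD, card_torus_pair hg, torusCard, if_pos ⟨u, rfl⟩] at e1
  rw [← Nat.card_coe_set_eq]
  have hq := Finite.one_lt_card (α := F)
  have : Nat.card F - 1 ≤ Nat.card F * (Nat.card F - 1) := Nat.le_mul_of_pos_left _ (by omega)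
  rw [← hA, ← hB] at e2
  rw [← hD] at e1
  rw [mul_assoc]
  omega

theorem sol_nonsplit_card {x : PG} (h2 : x ^ 2 ≠ 1) (ho : orderOf x ∣ Nat.card F + 1) :
    (Sol x).ncard = 2 * (Nat.card F + 1) := by
  have hx : x ≠ 1 := fun e => h2 (by rw [e, one_pow])
  obtain ⟨a, b, hab, ha, hb, -⟩ := two_fixed h2
  have hg := goodPair_of_fixed hx hab ha hb
  have hna : ¬ IsRat a ∧ ¬ IsRat b := by
    rcases hg.2 with ⟨hra, -⟩ | ⟨h1, h3, -⟩
    · exfalso
      have h1 : orderOf x ∣ Nat.card F - 1 := by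
        have h := Subgroup.orderOf_dvd_natCard (stabilizer PG a ⊓ stabilizer PG b) (x := x) ⟨ha, hb⟩
        rwa [card_torus hg, torusCard, if_pos hra] at h
      have hq := Finite.one_lt_card (α := F)
      have h3 : orderOf x ∣ 2 := by
        have := Nat.dvd_sub ho h1
        rwa [show Nat.card F + 1 - (Nat.card F - 1) = 2 by omega] at this
      exact h2 (orderOf_dvd_iff_pow_eq_one.1 h3)
    · exact ⟨h1, h3⟩
  rw [sol_semisimple h2 hab ha hb]
  have hU : {y : PG | ∃ z : P1, (embP 2 z = a ∨ embP 2 z = b) ∧ y • embP 2 z = embP 2 z} = ∅ :=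
    Set.eq_empty_iff_forall_notMem.2 fun y ⟨z, hz, _⟩ => hz.elim (fun e => hna.1 ⟨z, e⟩) (fun e => hna.2 ⟨z, e⟩)
  rw [hU, Set.union_empty, ← Nat.card_coe_set_eq, SetLike.coe_sort_coe, card_torus_pair hg, torusCard, if_neg hna.1]

theorem card_invol_fix (z : P1) :
    {u : PG | u • embP 2 z = embP 2 z ∧ u ^ 2 = 1}.ncard = Nat.card F := by
  classical
  set S : P1 → Set PG := fun w => {u | u • embP 2 z = embP 2 z ∧ u • embP 2 w = embP 2 w ∧ u ≠ 1} with hS
  haveI := Fintype.ofFinite P1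
  haveI := Fintype.ofFinite PG
  have hdisj : ∀ w ∈ (Finset.univ.erase z : Finset P1), ∀ w' ∈ (Finset.univ.erase z : Finset P1), w ≠ w' →
      Disjoint (S w).toFinset (S w').toFinset := by
    intro w hw w' hw' hne
    rw [Set.disjoint_toFinset, Set.disjoint_left]
    rintro u ⟨h1, h2, h3⟩ ⟨-, h4, -⟩
    exact h3 (hP.sharp (fun e => (Finset.ne_of_mem_erase hw) (embP_injective 2 e).symm)
      (fun e => (Finset.ne_of_mem_erase hw') (embP_injective 2 e).symm)
      (fun e => hne (embP_injective 2 e)) h1 h2 h4)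
  have hsize : ∀ w ∈ (Finset.univ.erase z : Finset P1), (S w).toFinset.card = Nat.card F - 2 := by
    intro w hw
    have hne : embP 2 z ≠ embP 2 w := fun e => (Finset.ne_of_mem_erase hw) (embP_injective 2 e).symm
    have he : S w = ((stabilizer PG (embP 2 z) ⊓ stabilizer PG (embP 2 w) : Subgroup PG) : Set PG) \ {1} := by
      ext u
      exact ⟨fun ⟨h1, h2, h3⟩ => ⟨⟨h1, h2⟩, h3⟩, fun ⟨⟨h1, h2⟩, h3⟩ => ⟨h1, h2, h3⟩⟩
    rw [← Set.ncard_eq_toFinset_card', he, Set.ncard_sdiff_singleton_of_mem (one_mem _), ← Nat.card_coe_set_eq,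
      SetLike.coe_sort_coe, card_stab_rat (p := 2) (fun e => (Finset.ne_of_mem_erase hw) e.symm)]
    omega
  have hsplit : ((stabilizer PG (embP 2 z) : Subgroup PG) : Set PG).toFinset =
      ({u : PG | u • embP 2 z = embP 2 z ∧ u ^ 2 = 1}).toFinset ∪
        (Finset.univ.erase z : Finset P1).biUnion (fun w => (S w).toFinset) := by
    ext u
    simp only [Set.mem_toFinset, Finset.mem_union, Finset.mem_biUnion, Finset.mem_erase, Finset.mem_univ, and_true,
      SetLike.mem_coe, mem_stabilizer_iff, Set.mem_ofPred_eq, hS]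
    constructor
    · intro hu
      by_cases h2 : u ^ 2 = 1
      · exact .inl ⟨hu, h2⟩
      · right
        obtain ⟨c, hc, huc⟩ := hP.exists_other h2 hu
        have hu1 : u ≠ 1 := fun e => h2 (by rw [e, one_pow])
        rcases (goodPair_of_fixed hu1 hc.symm hu huc).2 with ⟨-, w, rfl⟩ | ⟨hn, -, -⟩
        · exact ⟨w, fun e => hc (by rw [e]), hu, huc, hu1⟩
        · exact absurd ⟨z, rfl⟩ hn
    · rintro (⟨h, -⟩ | ⟨w, -, h, -, -⟩) <;> exact h
  have hd : Disjoint ({u : PG | u • embP 2 z = embP 2 z ∧ u ^ 2 = 1}).toFinset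
      ((Finset.univ.erase z : Finset P1).biUnion (fun w => (S w).toFinset)) := by
    rw [Finset.disjoint_biUnion_right]
    intro w hw
    rw [Set.disjoint_toFinset, Set.disjoint_left]
    rintro u ⟨h1, h2⟩ ⟨-, h3, h4⟩
    exact (Finset.ne_of_mem_erase hw) (embP_injective 2 (hP.unique_fix h4 h2 h1 h3)).symm
  have h := congrArg Finset.card hsplit
  rw [Finset.card_union_of_disjoint hd, Finset.card_biUnion hdisj, Finset.sum_congr rfl hsize,
    ← Set.ncard_eq_toFinset_card', ← Set.ncard_eq_toFinset_card', Finset.sum_const, Finset.card_erase_of_mem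
    (Finset.mem_univ _), Finset.card_univ, ← Nat.card_coe_set_eq, SetLike.coe_sort_coe, card_stab_point,
    ← Nat.card_eq_fintype_card, card_proj_line, Nat.add_sub_cancel, smul_eq_mul] at h
  have hq := Finite.one_lt_card (α := F)
  obtain ⟨j, hj⟩ : ∃ j, Nat.card F = j + 2 := ⟨Nat.card F - 2, by omega⟩
  rw [hj, show j + 2 - 1 = j + 1 by omega, show j + 2 - 2 = j by omega, mul_add, mul_one] at h
  rw [hj]
  omega

theorem card_invol : {u : PG | u ≠ 1 ∧ u ^ 2 = 1}.ncard = (Nat.card F + 1) * (Nat.card F - 1) := by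
  classical
  haveI := Fintype.ofFinite P1
  haveI := Fintype.ofFinite PG
  set S : P1 → Set PG := fun z => {u | u • embP 2 z = embP 2 z ∧ u ^ 2 = 1} \ {1} with hS
  have hu : {u : PG | u ≠ 1 ∧ u ^ 2 = 1}.toFinset = (Finset.univ : Finset P1).biUnion fun z => (S z).toFinset := by
    ext u
    simp only [Set.mem_toFinset, Set.mem_ofPred_eq, Finset.mem_biUnion, Finset.mem_univ, true_and, hS,
      Set.mem_sdiff, Set.mem_singleton_iff]
    constructor
    · rintro ⟨h1, h2⟩
      obtain ⟨z, hz, -⟩ := rational_of_sq h1 h2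
      exact ⟨z, ⟨hz, h2⟩, h1⟩
    · rintro ⟨z, ⟨-, h2⟩, h1⟩
      exact ⟨h1, h2⟩
  have hd : ∀ z ∈ (Finset.univ : Finset P1), ∀ z' ∈ (Finset.univ : Finset P1), z ≠ z' →
      Disjoint (S z).toFinset (S z').toFinset := by
    intro z _ z' _ hne
    rw [Set.disjoint_toFinset, Set.disjoint_left]
    rintro u ⟨⟨h1, h2⟩, h3⟩ ⟨⟨h4, -⟩, -⟩
    exact hne (embP_injective 2 (hP.unique_fix h3 h2 h1 h4))
  have hc : ∀ z ∈ (Finset.univ : Finset P1), (S z).toFinset.card = Nat.card F - 1 := fun z _ => by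
    rw [← Set.ncard_eq_toFinset_card', hS, Set.ncard_sdiff_singleton_of_mem (by exact ⟨one_smul _ _, one_pow _⟩),
      card_invol_fix]
  rw [Set.ncard_eq_toFinset_card', hu, Finset.card_biUnion hd, Finset.sum_congr rfl hc, Finset.sum_const,
    Finset.card_univ, ← Nat.card_eq_fintype_card, card_proj_line, smul_eq_mul]

theorem sol_invol_card {x : PG} (hx : x ≠ 1) (h2 : x ^ 2 = 1) :
    (Sol x).ncard = 3 * Nat.card F * (Nat.card F - 1) := by
  obtain ⟨z, hz, huniq⟩ := rational_of_sq hx h2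
  have hxi : x⁻¹ = x := inv_eq_of_mul_eq_one_left (by rw [← pow_two, h2])
  set B := stabilizer PG (embP 2 z) with hB
  set I : Set PG := {u | u ≠ 1 ∧ u ^ 2 = 1} \ (B : Set PG) with hI
  set J : Set PG := (fun s => x * s) '' I with hJ
  -- an involution outside `B` does not commute with `x`
  have hodd : ∀ s ∈ I, (x * s) ^ 2 ≠ 1 := by
    rintro s ⟨⟨hs1, hs2⟩, hsB⟩ e
    have hsi : s⁻¹ = s := inv_eq_of_mul_eq_one_left (by rw [← pow_two, hs2])
    have h3 : (x * s)⁻¹ = x * s := inv_eq_of_mul_eq_one_left (by rw [← pow_two, e])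
    rw [_root_.mul_inv_rev, hsi, hxi] at h3
    exact hsB (huniq _ (smul_fixed_of_commute (h3 : Commute s x) hz))
  have hJout : ∀ s ∈ I, x * s ∉ B := fun s hs h => hs.2 (by
    have := mul_mem (inv_mem (show x ∈ B from hz)) h
    rwa [inv_mul_cancel_left] at this)
  -- a pair for `x` and `s`
  have hpair : ∀ s ∈ I, ∃ a b : PE, a ≠ b ∧ x ∈ pairStab a b ∧ s ∈ pairStab a b := by
    intro s hs
    obtain ⟨a, b, hab, ha, hb, hfix⟩ := two_fixed (hodd s hs)
    have hsi : s⁻¹ = s := inv_eq_of_mul_eq_one_left (by rw [← pow_two, hs.1.2])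
    have hinv : ∀ c : PE, (x * s) • c = c → (x * s) • (x • c) = x • c := by
      intro c hc
      have h1 : s • (x • c) = c := by
        have := inv_smul_eq_iff.2 hc.symm
        rwa [_root_.mul_inv_rev, hsi, hxi, mul_smul] at this
      rw [mul_smul, h1]
    have hxp : x ∈ pairStab a b := by
      have hfa := hfix _ (hinv a ha)
      have hfb := hfix _ (hinv b hb)
      rcases hfa with e | e <;> rcases hfb with e' | e'
      · exact absurd (smul_left_cancel x (e.trans e'.symm)) hab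
      · exact .inl ⟨e, e'⟩
      · exact .inr ⟨e, e'⟩
      · exact absurd (smul_left_cancel x (e.trans e'.symm)) hab
    refine ⟨a, b, hab, hxp, ?_⟩
    have := mul_mem (inv_mem hxp) (show x * s ∈ pairStab a b from .inl ⟨ha, hb⟩)
    rwa [inv_mul_cancel_left] at this
  have hsol : Sol x = (B : Set PG) ∪ (I ∪ J) := by
    ext y
    rw [mem_sol_iff hx]
    constructor
    · rintro (⟨w, h1, h3⟩ | ⟨a, b, hab, hxp, hy⟩)
      · rw [huniq _ h1] at h3
        exact .inl h3
      · by_cases hyB : y ∈ B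
        · exact .inl hyB
        right
        have hy1 : y ≠ 1 := fun e => hyB (e ▸ one_mem _)
        rcases hxp with ⟨h1, h3⟩ | ⟨h1, h3⟩
        · exact absurd ((huniq _ h1).trans (huniq _ h3).symm) hab
        rcases hy with ⟨hya, hyb⟩ | ⟨hya, hyb⟩
        · refine .inr ⟨x * y, ⟨⟨fun e => ?_, sq_ne_of_swap hab (by rw [mul_smul, hya, h1]) (by rw [mul_smul, hyb, h3])⟩,
            fun h => hyB ?_⟩, ?_⟩
          · have : (x * y) • a = a := by rw [e, one_smul]
            rw [mul_smul, hya, h1] at this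
            exact hab this.symm
          · have := mul_mem (inv_mem (show x ∈ B from hz)) h
            rwa [inv_mul_cancel_left] at this
          · show x * (x * y) = y
            rw [← mul_assoc, ← pow_two, h2, one_mul]
        · exact .inl ⟨⟨hy1, sq_ne_of_swap hab hya hyb⟩, hyB⟩
    · rintro (hy | hy | ⟨s, hs, rfl⟩)
      · exact .inl ⟨z, hz, hy⟩
      · exact .inr (hpair y hy)
      · obtain ⟨a, b, hab, h1, h3⟩ := hpair s hs
        exact .inr ⟨a, b, hab, h1, mul_mem h1 h3⟩
  have d1 : Disjoint (B : Set PG) (I ∪ J) := by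
    rw [Set.disjoint_left]
    rintro y hy (h | ⟨s, hs, rfl⟩)
    · exact h.2 hy
    · exact hJout s hs hy
  have d2 : Disjoint I J := by
    rw [Set.disjoint_left]
    rintro y hy ⟨s, hs, rfl⟩
    exact hodd s hs hy.1.2
  have hIc : I.ncard = Nat.card F * (Nat.card F - 1) := by
    have hinter : {u : PG | u ≠ 1 ∧ u ^ 2 = 1} ∩ (B : Set PG) =
        {u : PG | u • embP 2 z = embP 2 z ∧ u ^ 2 = 1} \ {1} := by
      ext u
      exact ⟨fun ⟨⟨h1, h2⟩, h3⟩ => ⟨⟨h3, h2⟩, h1⟩, fun ⟨⟨h3, h2⟩, h1⟩ => ⟨⟨h1, h2⟩, h3⟩⟩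
    have e := Set.ncard_inter_add_ncard_sdiff_eq_ncard {u : PG | u ≠ 1 ∧ u ^ 2 = 1} (B : Set PG)
    rw [hinter, Set.ncard_sdiff_singleton_of_mem (by exact ⟨one_smul _ _, one_pow _⟩), card_invol_fix,
      card_invol, ← hI] at e
    rw [add_mul, one_mul] at e
    omega
  rw [hsol, Set.ncard_union_eq d1, Set.ncard_union_eq d2, hJ, Set.ncard_image_of_injective _ (mul_right_injective x),
    hIc, ← Nat.card_coe_set_eq, SetLike.coe_sort_coe, hB, card_stab_point]
  ring

end CfsgLib.PSL2.SolubilizerEven
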