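import Cfsg.Agent.Lib.PSL2.SolubilizerThreeGeo

/-!
Solubilizers of involutions and of elements of order three in `PSL₂(F)` of characteristic three, counted by traces.
-/

set_option autoImplicit false
set_option linter.style.haveILetI false
set_option linter.unusedSectionVars false

namespace CfsgLib.PSL2.SolubilizerThree

open Matrix MulAction CfsgLib.Classical CfsgLib.PSL2
open scoped LinearAlgebra.Projectivization commutatorElement

variable {F : Type*} [Field F] [Finite F] [Fact (Nat.Prime 3)] [CharP F 3]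

local notation "PG" => Matrix.ProjGenLinGroup (Fin 2) F
local notation "P1" => ℙ F (Fin 2 → F)
local notation "PE" => ℙ (Ext2 F 3) (Fin 2 → Ext2 F 3)
local notation "SL2" => Matrix.SpecialLinearGroup (Fin 2) F
local notation "M2" => Matrix (Fin 2) (Fin 2) F
local notation "π" => slToPG (F := F)

theorem three_zero : (3 : F) = 0 := by exact_mod_cast CharP.cast_eq_zero F 3

theorem two_ne : (2 : F) ≠ 0 := fun h =>
  one_ne_zero (show (1 : F) = 0 by linear_combination three_zero (F := F) - h)

theorem mul_self' (s : SL2) : s.1 * s.1 = s.1.trace • s.1 - (1 : M2) := by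
  rw [mul_self_eq, s.2, one_smul]

/-- Being scalar. -/
def IsPM (s : SL2) : Prop := s.1 = 1 ∨ s.1 = -1

theorem isPM_of_smul {s : SL2} {c : F} (h : s.1 = c • (1 : M2)) : IsPM s := by
  have hd := s.2
  rw [h, Matrix.det_smul, Matrix.det_one, mul_one, Fintype.card_fin, pow_two] at hd
  rcases mul_self_eq_one_iff.1 hd with rfl | rfl
  · exact .inl (by rw [h, one_smul])
  · exact .inr (by rw [h, neg_one_smul])

theorem one_smul_inj {a b : F} (h : a • (1 : M2) = b • 1) : a = b := by
  have := congrFun (congrFun h 0) 0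
  simpa using this

theorem pm_sq_trace {s : SL2} (h : IsPM s) : s.1.trace ^ 2 = 1 := by
  rcases h with e | e <;> rw [e] <;> simp only [Matrix.trace_neg, Matrix.trace_one, Fintype.card_fin] <;> push_cast <;>
    linear_combination three_zero (F := F)

theorem sq_iff (s : SL2) : π s ^ 2 = 1 ↔ (s.1.trace = 0 ∨ IsPM s) := by
  rw [← map_pow, slToPG_eq_one_iff, Matrix.SpecialLinearGroup.coe_pow, pow_two, mul_self']
  constructor
  · intro h
    by_cases ht : s.1.trace = 0
    · exact .inl ht
    right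
    have key : ∀ c : F, s.1.trace • s.1 - (1 : M2) = c • 1 → IsPM s := fun c hc =>
      isPM_of_smul (c := (c + 1) / s.1.trace) (by
        rw [div_eq_inv_mul, ← smul_smul, add_smul, one_smul, ← hc, sub_add_cancel, smul_smul, inv_mul_cancel₀ ht,
          one_smul])
    rcases h with h | h
    · exact key 1 (by rw [h, one_smul])
    · exact key (-1) (by rw [h, neg_one_smul])
  · rintro (ht | h)
    · exact .inr (by rw [ht, zero_smul, zero_sub])
    · rw [← mul_self']
      rcases h with e | e <;> rw [e] <;> simp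

theorem cube_iff (s : SL2) : π s ^ 3 = 1 ↔ s.1.trace ^ 2 = 1 := by
  have hc : s.1 ^ 3 = (s.1.trace ^ 2 - 1) • s.1 - s.1.trace • (1 : M2) := by
    rw [pow_succ, pow_two, mul_self', Matrix.sub_mul, Matrix.smul_mul, mul_self', Matrix.one_mul, smul_sub, smul_smul,
      sub_smul, one_smul, ← pow_two]
    abel
  rw [← map_pow, slToPG_eq_one_iff, Matrix.SpecialLinearGroup.coe_pow, hc]
  constructor
  · intro h
    by_contra ht
    have key : ∀ c : F, (s.1.trace ^ 2 - 1) • s.1 - s.1.trace • (1 : M2) = c • 1 → IsPM s := fun c hc =>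
      isPM_of_smul (c := (c + s.1.trace) / (s.1.trace ^ 2 - 1)) (by
        rw [div_eq_inv_mul, ← smul_smul, add_smul, ← hc, sub_add_cancel, smul_smul,
          inv_mul_cancel₀ (sub_ne_zero.2 ht), one_smul])
    rcases h with h | h
    · exact ht (pm_sq_trace (key 1 (by rw [h, one_smul])))
    · exact ht (pm_sq_trace (key (-1) (by rw [h, neg_one_smul])))
  · intro ht
    rw [ht, sub_self, zero_smul, zero_sub]
    rw [pow_two] at ht
    rcases mul_self_eq_one_iff.1 ht with e | e <;> rw [e]
    · exact .inr (by rw [one_smul])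
    · exact .inl (by rw [neg_one_smul, neg_neg])

theorem comm_of_pm {s X : SL2} (h : IsPM s) : s.1 * X.1 = X.1 * s.1 := by
  rcases h with e | e <;> rw [e] <;> simp

theorem comm_of_mul_pm {X Y : SL2} (h : IsPM (X * Y)) : Y.1 * X.1 = X.1 * Y.1 := by
  have h1 : (X * Y) * X = X * (X * Y) :=
    Matrix.SpecialLinearGroup.ext _ _ (fun i j => congrFun (congrFun (comm_of_pm h) i) j)
  rw [mul_assoc] at h1
  have h2 := congrArg (fun Z : SL2 => Z.1) (mul_left_cancel h1)
  exact h2

/-- Conjugation by an invertible matrix. -/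
noncomputable def conjE (M : GL (Fin 2) F) : SL2 ≃* SL2 where
  toFun Y := ⟨M.1 * Y.1 * (M⁻¹).1, by rw [Matrix.det_units_conj]; exact Y.2⟩
  invFun Y := ⟨(M⁻¹).1 * Y.1 * M.1, by rw [Matrix.det_units_conj']; exact Y.2⟩
  left_inv Y := Subtype.ext (by simp [Matrix.mul_assoc])
  right_inv Y := Subtype.ext (by simp [Matrix.mul_assoc])
  map_mul' X Y := Subtype.ext (by
    show M.1 * (X * Y).1 * (M⁻¹).1 = M.1 * X.1 * (M⁻¹).1 * (M.1 * Y.1 * (M⁻¹).1)
    simp [Matrix.SpecialLinearGroup.coe_mul, Matrix.mul_assoc])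

theorem trace_conjE (M : GL (Fin 2) F) (Y : SL2) : (conjE M Y).1.trace = Y.1.trace :=
  Matrix.trace_units_conj M Y.1

/-- The preimage in `SL` of the solubilizer. -/
def SolSL (X : SL2) : Set SL2 := {Y | Group.IsSolvable (Subgroup.closure ({π X, π Y} : Set PG))}

theorem mem_solL_iff (X Y : SL2) : π Y ∈ SolL (π X) ↔ Y ∈ SolSL X :=
  ⟨fun h => h.2, fun h => ⟨slToPG_mem Y, h⟩⟩

theorem ncard_preimage (X : SL2) : (SolSL X).ncard = 2 * (SolL (π X)).ncard := by
  classical
  haveI := Fintype.ofFinite SL2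
  haveI := Fintype.ofFinite PG
  have himg : (SolSL X).toFinset.image π = (SolL (π X)).toFinset := by
    ext y
    simp only [Finset.mem_image, Set.mem_toFinset]
    constructor
    · rintro ⟨Y, hY, rfl⟩
      exact (mem_solL_iff X Y).2 hY
    · intro hy
      obtain ⟨Y, rfl⟩ := exists_lift hy.1
      exact ⟨Y, (mem_solL_iff X Y).1 hy, rfl⟩
  rw [Set.ncard_eq_toFinset_card', Set.ncard_eq_toFinset_card', ← himg, mul_comm]
  rw [Finset.card_eq_sum_card_image (π : SL2 → PG), mul_comm]
  refine (Finset.sum_const_nat fun y hy => ?_).trans (mul_comm _ _)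
  obtain ⟨Y, hY, rfl⟩ := Finset.mem_image.1 hy
  have hne : -Y ≠ Y := fun e => by
    have h1 := congrArg (fun Z : SL2 => Z.1) e
    simp only [Matrix.SpecialLinearGroup.coe_neg] at h1
    have h2 : Y.1 = 0 := by
      ext i j
      have h3 := congrFun (congrFun h1 i) j
      simp only [Matrix.neg_apply] at h3
      have h4 : (2 : F) * Y.1 i j = 0 := by linear_combination -h3
      simpa [two_ne (F := F)] using h4
    have h5 := Y.2
    rw [h2, Matrix.det_zero] at h5
    exact zero_ne_one h5
  rw [Finset.card_eq_two]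
  refine ⟨Y, -Y, hne.symm, ?_⟩
  ext Z
  simp only [Finset.mem_filter, Finset.mem_insert, Finset.mem_singleton, Set.mem_toFinset] at hY ⊢
  constructor
  · rintro ⟨-, hZ⟩
    have h1 : π (Y⁻¹ * Z) = 1 := by rw [map_mul, map_inv, hZ, inv_mul_cancel]
    rcases slToPG_eq_one_iff.1 h1 with e | e
    · left
      rw [show Z = Y * (Y⁻¹ * Z) by group, show Y⁻¹ * Z = 1 from Subtype.ext e, mul_one]
    · right
      rw [show Z = Y * (Y⁻¹ * Z) by group, show Y⁻¹ * Z = -1 from Subtype.ext (by simpa using e), mul_neg_one]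
  · rintro (rfl | rfl)
    · exact ⟨hY, rfl⟩
    · refine ⟨?_, slToPG_neg Y⟩
      rw [SolSL, Set.mem_ofPred_eq, slToPG_neg]
      exact hY

theorem closure_pair_le {a b c d : PG} (h1 : a ∈ Subgroup.closure ({c, d} : Set PG))
    (h2 : b ∈ Subgroup.closure ({c, d} : Set PG)) (h : Group.IsSolvable (Subgroup.closure ({c, d} : Set PG))) :
    Group.IsSolvable (Subgroup.closure ({a, b} : Set PG)) := by
  haveI := h
  exact SolubilizerEven.solvable_of_le (K := Subgroup.closure ({c, d} : Set PG))
    ((Subgroup.closure_le _).2 (by rintro w (rfl | rfl) <;> assumption))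

theorem no_sq_neg_one (h8 : Nat.card F % 8 = 3) (l : F) : l * l ≠ -1 := by
  haveI := Fintype.ofFinite F
  intro h
  have h1 : IsSquare (-1 : F) := ⟨l, h.symm⟩
  rw [FiniteField.isSquare_neg_one_iff, ← Nat.card_eq_fintype_card] at h1
  omega

theorem fix_eigen {X : SL2} {v : Fin 2 → F} {hv : v ≠ 0}
    (h : π X • Projectivization.mk F v hv = Projectivization.mk F v hv) : ∃ l : F, X.1 *ᵥ v = l • v := by
  rw [slToPG_apply, gl_smul_mk, Projectivization.mk_eq_mk_iff'] at h
  obtain ⟨l, hl⟩ := h
  exact ⟨l, hl.symm⟩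

/-- The solubilizer of an involution, by traces. -/
theorem solSL_invol (h8 : Nat.card F % 8 = 3) (hq : 3 < Nat.card F)
    (hK : ∀ K : Subfield F, Nat.card K = 3 ∨ Nat.card K = Nat.card F) {X : SL2} (ht : X.1.trace = 0) :
    SolSL X = {Y : SL2 | Y.1.trace = 0 ∨ (X * Y).1.trace = 0 ∨ Y.1 * X.1 = X.1 * Y.1 ∨
      (Y.1.trace ^ 2 = 1 ∧ (X * Y).1.trace ^ 2 = 1)} := by
  have hx2 : π X ^ 2 = 1 := (sq_iff X).2 (.inl ht)
  ext Y
  constructor
  · intro hY
    have fy : π Y ^ 2 = 1 → Y.1.trace = 0 ∨ Y.1 * X.1 = X.1 * Y.1 := fun h =>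
      ((sq_iff Y).1 h).imp id comm_of_pm
    have fxy : (π X * π Y) ^ 2 = 1 → (X * Y).1.trace = 0 ∨ Y.1 * X.1 = X.1 * Y.1 := fun h =>
      ((sq_iff (X * Y)).1 (by rwa [map_mul])).imp id comm_of_mul_pm
    rcases cases_of_mem h8 hq hK (slToPG_mem X) ((mem_solL_iff X Y).2 hY) with
      ⟨z, h1, -⟩ | ⟨a, b, hab, hx, hy⟩ | h
    · exfalso
      induction z using Projectivization.ind with | _ v hv => ?_
      obtain ⟨l, hl⟩ := fix_eigen h1
      have h2 : (X.1 * X.1) *ᵥ v = (l * l) • v := by
        rw [← Matrix.mulVec_mulVec, hl, Matrix.mulVec_smul, hl, smul_smul]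
      rw [mul_self', ht, zero_smul, zero_sub, Matrix.neg_mulVec, Matrix.one_mulVec] at h2
      refine no_sq_neg_one h8 l (smul_left_injective F hv ?_)
      show (l * l) • v = (-1 : F) • v
      rw [← h2, neg_one_smul]
    · rcases hx with ⟨hxa, hxb⟩ | ⟨hxa, hxb⟩ <;> rcases hy with ⟨hya, hyb⟩ | ⟨hya, hyb⟩
      · haveI := (hP (F := F)).two_cyclic hab
        letI := IsCyclic.commGroup (α := ↥(stabilizer PG a ⊓ stabilizer PG b))
        have hc : π Y * π X = π X * π Y := congrArg Subtype.val
          (mul_comm (⟨π Y, hya, hyb⟩ : ↥(stabilizer PG a ⊓ stabilizer PG b)) ⟨π X, hxa, hxb⟩)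
        have h1 : π ((X * Y)⁻¹ * (Y * X)) = 1 := by
          rw [map_mul, map_inv, map_mul, map_mul, hc, inv_mul_cancel]
        rcases slToPG_eq_one_iff.1 h1 with e | e
        · right; right; left
          have e2 : Y * X = X * Y := by
            have : (X * Y)⁻¹ * (Y * X) = 1 := Subtype.ext e
            exact (inv_mul_eq_one.1 this).symm
          exact congrArg Subtype.val e2
        · right; left
          have e2 : Y * X = -(X * Y) := by
            have : (X * Y)⁻¹ * (Y * X) = -1 := Subtype.ext (by simpa using e)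
            rw [inv_mul_eq_iff_eq_mul, mul_neg_one] at this
            exact this
          have h3 := congrArg (fun Z : SL2 => Z.1.trace) e2
          simp only [Matrix.SpecialLinearGroup.coe_neg, Matrix.SpecialLinearGroup.coe_mul, Matrix.trace_neg] at h3
          rw [Matrix.trace_mul_comm] at h3
          have h4 : (2 : F) * (X.1 * Y.1).trace = 0 := by linear_combination h3
          simpa [two_ne (F := F)] using h4
      · rcases fy (by rw [pow_two]; exact hP.swap_sq hab hya hyb) with h | h
        exacts [.inl h, .inr (.inr (.inl h))]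
      · rcases fxy (by rw [pow_two]; exact hP.swap_sq hab (by rw [mul_smul, hya, hxa]) (by rw [mul_smul, hyb, hxb])) with h | h
        exacts [.inr (.inl h), .inr (.inr (.inl h))]
      · rcases fy (by rw [pow_two]; exact hP.swap_sq hab hya hyb) with h | h
        exacts [.inl h, .inr (.inr (.inl h))]
    · rcases h (π Y) (Subgroup.subset_closure (Set.mem_insert_of_mem _ rfl)) with e | e
      · rcases fy e with h | h
        exacts [.inl h, .inr (.inr (.inl h))]
      · rcases h (π X * π Y) (mul_mem (Subgroup.subset_closure (Set.mem_insert _ _))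
          (Subgroup.subset_closure (Set.mem_insert_of_mem _ rfl))) with e' | e'
        · rcases fxy e' with h | h
          exacts [.inr (.inl h), .inr (.inr (.inl h))]
        · exact .inr (.inr (.inr ⟨(cube_iff Y).1 e, (cube_iff (X * Y)).1 (by rwa [map_mul])⟩))
  · rintro (h | h | h | ⟨h1, h2⟩)
    · exact solvable_two_invol hx2 ((sq_iff Y).2 (.inl h))
    · refine closure_pair_le (c := π X) (d := π X * π Y) (Subgroup.subset_closure (Set.mem_insert _ _)) ?_
        (solvable_two_invol hx2 (by rw [← map_mul]; exact (sq_iff _).2 (.inl h)))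
      have := mul_mem (inv_mem (Subgroup.subset_closure (Set.mem_insert (π X) {π X * π Y})))
        (Subgroup.subset_closure (Set.mem_insert_of_mem (π X) (Set.mem_singleton (π X * π Y))))
      rwa [inv_mul_cancel_left] at this
    · refine solvable_comm ?_
      rw [← map_mul, ← map_mul, show X * Y = Y * X from Subtype.ext h.symm]
    · exact solvable_tetra hx2 ((cube_iff Y).2 h1) (by rw [← map_mul]; exact (cube_iff _).2 h2)
        (Subgroup.subset_closure (Set.mem_insert _ _)) (Subgroup.subset_closure (Set.mem_insert_of_mem _ rfl))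

/-- The standard unipotent element. -/
def U : SL2 := ⟨!![1, 1; 0, 1], by simp [Matrix.det_fin_two]⟩

/-- The solubilizer of the standard element of order three. -/
theorem solSL_U (h8 : Nat.card F % 8 = 3) (hq : 3 < Nat.card F)
    (hK : ∀ K : Subfield F, Nat.card K = 3 ∨ Nat.card K = Nat.card F) :
    SolSL (U : SL2) = {Y : SL2 | Y.1 1 0 = 0 ∨ (Y.1 1 0 ^ 2 = 1 ∧ (Y.1.trace = 0 ∨ Y.1.trace ^ 2 = 1))} := by
  have h3 := three_zero (F := F)
  have hUv : (U : SL2).1 = !![1, 1; 0, 1] := rfl
  have hx3 : π U ^ 3 = 1 := (cube_iff U).2 (by simp [hUv, Matrix.trace_fin_two]; linear_combination h3)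
  have hx1 : π U ≠ 1 := fun e => by
    rcases slToPG_eq_one_iff.1 e with e | e
    · simpa [hUv] using congrFun (congrFun e 0) 1
    · simpa [hUv] using congrFun (congrFun e 0) 1
  have tUY : ∀ Y : SL2, (U * Y).1.trace = Y.1.trace + Y.1 1 0 := fun Y => by
    simp [Matrix.SpecialLinearGroup.coe_mul, hUv, Matrix.trace_fin_two, Matrix.mul_apply, Fin.sum_univ_two, Matrix.vecMul, dotProduct]
    ring
  have tUiY : ∀ Y : SL2, (U⁻¹ * Y).1.trace = Y.1.trace - Y.1 1 0 := fun Y => by
    simp [Matrix.SpecialLinearGroup.coe_mul, Matrix.SpecialLinearGroup.coe_inv, Matrix.adjugate_fin_two, hUv,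
      Matrix.trace_fin_two, Matrix.mul_apply, Fin.sum_univ_two, Matrix.vecMul, dotProduct]
    ring
  ext Y
  have hd := Y.2
  rw [Matrix.det_fin_two] at hd
  have hcm : ⁅(U : SL2), Y⁆.1.trace = 2 + Y.1 1 0 ^ 2 := by
    simp [commutatorElement_def, Matrix.SpecialLinearGroup.coe_mul, Matrix.SpecialLinearGroup.coe_inv,
      Matrix.adjugate_fin_two, hUv, Matrix.trace_fin_two, Matrix.mul_apply, Fin.sum_univ_two, Matrix.vecMul,
      dotProduct]
    linear_combination 2 * hd
  have fy0 : IsPM Y → Y.1 1 0 = 0 := by rintro (e | e) <;> simp [e]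
  have fxy0 : IsPM ((U : SL2) * Y) → Y.1 1 0 = 0 := by
    rintro (e | e) <;>
    · have := congrFun (congrFun e 1) 0
      simpa [Matrix.SpecialLinearGroup.coe_mul, hUv, Matrix.mul_apply, Fin.sum_univ_two] using this
  constructor
  · intro hY
    rcases cases_of_mem h8 hq hK (slToPG_mem U) ((mem_solL_iff U Y).2 hY) with
      ⟨z, h1, h2⟩ | ⟨a, b, hab, hx, -⟩ | h
    · left
      have e1 : π U • embP 3 z = embP 3 z := by rw [← embP_smul, h1]
      have e2 : π Y • embP 3 z = embP 3 z := by rw [← embP_smul, h2]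
      have h4 := hP.comm_unip e1 e2
      rw [← map_inv, ← map_inv, ← map_mul, ← map_mul, ← map_mul, ← commutatorElement_def] at h4
      have h5 := (cube_iff _).1 h4
      rw [hcm] at h5
      by_contra hc
      have h6 : Y.1 1 0 ^ 2 * (Y.1 1 0 ^ 2 + 4) = 0 := by linear_combination h5 - h3
      rcases mul_eq_zero.1 h6 with e | e
      · exact hc (pow_eq_zero_iff two_ne_zero |>.1 e)
      · exact no_sq_neg_one h8 (Y.1 1 0) (by linear_combination e - h3)
    · exfalso
      rcases hx with ⟨hxa, hxb⟩ | ⟨hxa, hxb⟩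
      · exact hab (hP.unique_fix hx1 hx3 hxa hxb)
      · have h2 : π U * π U = 1 := hP.swap_sq hab hxa hxb
        exact hx1 (by rwa [pow_succ, pow_two, h2, one_mul] at hx3)
    · have hz : (U * Y).1.trace = 0 ∨ (U * Y).1.trace ^ 2 = 1 ∨ Y.1 1 0 = 0 := by
        rcases h (π U * π Y) (mul_mem (Subgroup.subset_closure (Set.mem_insert _ _))
          (Subgroup.subset_closure (Set.mem_insert_of_mem _ rfl))) with e | e <;> rw [← map_mul] at e
        · rcases (sq_iff _).1 e with h | h
          exacts [.inl h, .inr (.inr (fxy0 h))]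
        · exact .inr (.inl ((cube_iff _).1 e))
      rw [tUY] at hz
      rcases h (π Y) (Subgroup.subset_closure (Set.mem_insert_of_mem _ rfl)) with e | e
      · rcases (sq_iff _).1 e with ht | ht
        · rcases hz with e' | e' | e'
          · exact .inl (by rwa [ht, zero_add] at e')
          · exact .inr ⟨by rwa [ht, zero_add] at e', .inl ht⟩
          · exact .inl e'
        · exact .inl (fy0 ht)
      · have ht := (cube_iff _).1 e
        rcases hz with e' | e' | e'
        · refine .inr ⟨?_, .inr ht⟩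
          rw [show Y.1 1 0 = -Y.1.trace by linear_combination e', neg_sq, ht]
        · have h6 : Y.1 1 0 * (2 * Y.1.trace + Y.1 1 0) = 0 := by linear_combination e' - ht
          rcases mul_eq_zero.1 h6 with e'' | e''
          · exact .inl e''
          · refine .inr ⟨?_, .inr ht⟩
            rw [show Y.1 1 0 = Y.1.trace by linear_combination e'' - Y.1.trace * h3, ht]
        · exact .inl e'
  · rintro (hc | ⟨hc, ht⟩)
    · have fix1 : ∀ Z : SL2, Z.1 1 0 = 0 → π Z • embP 3 (pInf F) = embP 3 (pInf F) := fun Z hZ => by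
        rw [← embP_smul, slToPG_apply, (fix_pInf_iff _).2 hZ]
      exact solvable_fix (fix1 U (by simp [hUv])) (fix1 Y hc)
    · have mU : π U ∈ Subgroup.closure ({π U, π Y} : Set PG) := Subgroup.subset_closure (Set.mem_insert _ _)
      rcases ht with ht | ht
      · refine solvable_tetra (s := π Y) (r := π U) ((sq_iff Y).2 (.inl ht)) hx3 ?_
          (Subgroup.subset_closure (Set.mem_insert_of_mem _ rfl)) (Subgroup.subset_closure (Set.mem_insert _ _))
        rw [← map_mul, cube_iff, Matrix.SpecialLinearGroup.coe_mul, Matrix.trace_mul_comm,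
          ← Matrix.SpecialLinearGroup.coe_mul, tUY, ht, zero_add, hc]
      · have hr : (π Y)⁻¹ ^ 3 = 1 := by rw [inv_pow, (cube_iff Y).2 ht, inv_one]
        rcases (sq_eq_sq_iff_eq_or_eq_neg.1 (hc.trans ht.symm)) with e | e
        · have hs : π (U⁻¹ * Y) ^ 2 = 1 := (sq_iff _).2 (.inl (by rw [tUiY, e, sub_self]))
          refine solvable_tetra (s := π (U⁻¹ * Y)) (r := (π Y)⁻¹) hs hr ?_ ?_ ?_
          · rw [map_mul, map_inv, mul_inv_cancel_right, inv_pow, hx3, inv_one]
          · have := inv_mem (mul_mem (Subgroup.subset_closure (Set.mem_insert (π (U⁻¹ * Y)) {(π Y)⁻¹}))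
              (Subgroup.subset_closure (Set.mem_insert_of_mem (π (U⁻¹ * Y)) (Set.mem_singleton (π Y)⁻¹))))
            rw [map_mul, map_inv] at this ⊢
            rwa [mul_inv_cancel_right, inv_inv] at this
          · have := inv_mem (Subgroup.subset_closure (Set.mem_insert_of_mem (π (U⁻¹ * Y)) (Set.mem_singleton (π Y)⁻¹)))
            rwa [inv_inv] at this
        · have hs : π (U * Y) ^ 2 = 1 := (sq_iff _).2 (.inl (by rw [tUY, e, add_neg_cancel]))
          refine solvable_tetra (s := π (U * Y)) (r := (π Y)⁻¹) hs hr ?_ ?_ ?_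
          · rw [map_mul, mul_inv_cancel_right, hx3]
          · have := mul_mem (Subgroup.subset_closure (Set.mem_insert (π (U * Y)) {(π Y)⁻¹}))
              (Subgroup.subset_closure (Set.mem_insert_of_mem (π (U * Y)) (Set.mem_singleton (π Y)⁻¹)))
            rw [map_mul] at this ⊢
            rwa [mul_inv_cancel_right] at this
          · have := inv_mem (Subgroup.subset_closure (Set.mem_insert_of_mem (π (U * Y)) (Set.mem_singleton (π Y)⁻¹)))
            rwa [inv_inv] at this

theorem image_solSL (M : GL (Fin 2) F) (X : SL2) : conjE M '' SolSL X = SolSL (conjE M X) := by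
  have hpi : ∀ Z : SL2, π (conjE M Z) = MulAut.conj (ProjGenLinGroup.mk M) (π Z) := fun Z => by
    rw [slToPG_apply, slToPG_apply, MulAut.conj_apply, ← map_inv, ← map_mul, ← map_mul]
    exact congrArg _ (Units.ext rfl)
  have key : ∀ Y, conjE M Y ∈ SolSL (conjE M X) ↔ Y ∈ SolSL X := by
    intro Y
    show Group.IsSolvable (Subgroup.closure ({π (conjE M X), π (conjE M Y)} : Set PG)) ↔ _
    rw [hpi, hpi]
    set c := (MulAut.conj (ProjGenLinGroup.mk M)).toMonoidHom
    have e : Subgroup.closure ({c (π X), c (π Y)} : Set PG) = (Subgroup.closure ({π X, π Y} : Set PG)).map c := by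
      rw [MonoidHom.map_closure, Set.image_pair]
    show Group.IsSolvable (Subgroup.closure ({c (π X), c (π Y)} : Set PG)) ↔ _
    rw [e]
    let ε := (Subgroup.closure ({π X, π Y} : Set PG)).equivMapOfInjective c (MulAut.conj _).injective
    exact ⟨fun h => @Group.isSolvable_of_surjective _ _ _ _ ε.symm.toMonoidHom ε.symm.surjective h,
      fun h => @Group.isSolvable_of_surjective _ _ _ _ ε.toMonoidHom ε.surjective h⟩
  ext Z
  obtain ⟨Y, rfl⟩ := (conjE M).surjective Z
  rw [(conjE M).injective.mem_set_image]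
  exact (key Y).symm

/-- Solutions of `u² + w² = v`. -/
def lev (v : F) : Set (F × F) := {r | r.1 ^ 2 + r.2 ^ 2 = v}

theorem lev_ncard (h8 : Nat.card F % 8 = 3) :
    (lev (0 : F)).ncard = 1 ∧ ∀ v : F, v ≠ 0 → (lev v).ncard = Nat.card F + 1 := by
  classical
  haveI := Fintype.ofFinite F
  have h0 : lev (0 : F) = {((0 : F), (0 : F))} := by
    ext ⟨u, w⟩
    simp only [lev, Set.mem_ofPred_eq, Set.mem_singleton_iff, Prod.mk.injEq]
    constructor
    · intro h
      by_cases hw : w = 0
      · subst hw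
        exact ⟨by simpa using h, rfl⟩
      · exfalso
        refine no_sq_neg_one h8 (u / w) ?_
        rw [div_mul_div_comm, div_eq_iff (mul_ne_zero hw hw)]
        linear_combination h
    · rintro ⟨rfl, rfl⟩
      ring
  refine ⟨by rw [h0, Set.ncard_singleton], ?_⟩
  have hsum : ∀ v : F, ∃ a b : F, a ^ 2 + b ^ 2 = v := by
    intro v
    have hf : (Polynomial.X ^ 2 : Polynomial F).degree = 2 := Polynomial.degree_X_pow 2
    have hg : (Polynomial.X ^ 2 - Polynomial.C v : Polynomial F).degree = 2 :=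
      Polynomial.degree_X_pow_sub_C (by decide) v
    obtain ⟨a, b, h⟩ := FiniteField.exists_root_sum_quadratic hf hg (by
      rw [← Nat.card_eq_fintype_card]; omega)
    refine ⟨a, b, ?_⟩
    simp only [Polynomial.eval_pow, Polynomial.eval_X, Polynomial.eval_sub, Polynomial.eval_C] at h
    linear_combination h
  have hconst : ∀ v : F, v ≠ 0 → (lev v).ncard = (lev (1 : F)).ncard := by
    intro v hv
    obtain ⟨a, b, hab⟩ := hsum v
    have himg : lev v = (fun r : F × F => (a * r.1 - b * r.2, b * r.1 + a * r.2)) '' lev 1 := by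
      ext ⟨u, w⟩
      simp only [lev, Set.mem_ofPred_eq, Set.mem_image, Prod.exists, Prod.mk.injEq]
      constructor
      · intro h
        refine ⟨(a * u + b * w) / v, (a * w - b * u) / v, ?_, ?_, ?_⟩
        · field_simp
          linear_combination v * h + (u ^ 2 + w ^ 2) * hab
        · field_simp
          linear_combination u * hab
        · field_simp
          linear_combination w * hab
      · rintro ⟨r, s, h, rfl, rfl⟩
        linear_combination (r ^ 2 + s ^ 2) * hab + v * h
    rw [himg, Set.ncard_image_of_injective]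
    intro r s h
    simp only [Prod.mk.injEq] at h
    refine Prod.ext (mul_left_cancel₀ hv ?_) (mul_left_cancel₀ hv ?_)
    · linear_combination a * h.1 + b * h.2 - (r.1 - s.1) * hab
    · linear_combination a * h.2 - b * h.1 - (r.2 - s.2) * hab
  intro v hv
  rw [hconst v hv]
  have htot : ∀ v : F, (lev v).ncard = (Finset.univ.filter fun r : F × F => r.1 ^ 2 + r.2 ^ 2 = v).card := fun v => by
    rw [← Set.ncard_coe_finset]; congr 1; ext r; simp [lev]
  have hT := Finset.card_eq_sum_card_fiberwise (f := fun r : F × F => r.1 ^ 2 + r.2 ^ 2)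
    (s := Finset.univ) (t := Finset.univ) (fun r _ => Finset.mem_univ _)
  simp only [← htot] at hT
  rw [← Finset.add_sum_erase _ _ (Finset.mem_univ (0 : F)), h0, Set.ncard_singleton,
    Finset.sum_congr rfl (fun v hv => hconst v (Finset.ne_of_mem_erase hv)), Finset.sum_const,
    Finset.card_erase_of_mem (Finset.mem_univ _), Finset.card_univ, Finset.card_univ, Fintype.card_prod,
    smul_eq_mul, ← Nat.card_eq_fintype_card] at hT
  obtain ⟨j, hj⟩ : ∃ j, Nat.card F = j + 2 := ⟨Nat.card F - 2, by omega⟩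
  rw [hj] at hT ⊢
  rw [show j + 2 - 1 = j + 1 by omega] at hT
  have : (j + 1) * (j + 3) = (j + 1) * (lev (1 : F)).ncard := by
    have e : (j + 2) * (j + 2) = (j + 1) * (j + 3) + 1 := by ring
    omega
  exact (Nat.eq_of_mul_eq_mul_left (Nat.succ_pos _) this).symm

/-- The standard involution. -/
def J : SL2 := ⟨!![0, 1; -1, 0], by simp [Matrix.det_fin_two]⟩

theorem count_J (h8 : Nat.card F % 8 = 3) :
    {Y : SL2 | Y.1.trace = 0 ∨ ((J : SL2) * Y).1.trace = 0 ∨ Y.1 * (J : SL2).1 = (J : SL2).1 * Y.1 ∨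
      (Y.1.trace ^ 2 = 1 ∧ ((J : SL2) * Y).1.trace ^ 2 = 1)}.ncard = 2 * (Nat.card F * (Nat.card F + 1)) := by
  classical
  haveI := Fintype.ofFinite F
  have h3 := three_zero (F := F)
  have h2 := two_ne (F := F)
  have hJv : (J : SL2).1 = !![0, 1; -1, 0] := rfl
  let good : F × F → Prop := fun p => p.1 = 0 ∨ p.2 = 0 ∨ (p.1 ^ 2 = 1 ∧ p.2 ^ 2 = 1)
  let f : SL2 → (F × F) × (F × F) := fun Y =>
    ((Y.1 0 0 + Y.1 1 1, Y.1 1 0 - Y.1 0 1), (Y.1 0 0 - Y.1 1 1, Y.1 0 1 + Y.1 1 0))
  set S : Finset ((F × F) × (F × F)) := Finset.univ.filter fun p =>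
    p.2.1 ^ 2 + p.2.2 ^ 2 = p.1.1 ^ 2 + p.1.2 ^ 2 - 1 ∧ (good p.1 ∨ (p.2.1 = 0 ∧ p.2.2 = 0)) with hS
  have hset : {Y : SL2 | Y.1.trace = 0 ∨ ((J : SL2) * Y).1.trace = 0 ∨ Y.1 * (J : SL2).1 = (J : SL2).1 * Y.1 ∨
      (Y.1.trace ^ 2 = 1 ∧ ((J : SL2) * Y).1.trace ^ 2 = 1)}.ncard = S.card := by
    rw [← Set.ncard_coe_finset]
    refine Set.ncard_congr (fun Y _ => f Y) ?_ ?_ ?_
    · intro Y hY
      have hd := Y.2
      rw [Matrix.det_fin_two] at hd
      have e1 : Y.1.trace = Y.1 0 0 + Y.1 1 1 := Matrix.trace_fin_two _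
      have e2 : ((J : SL2) * Y).1.trace = Y.1 1 0 - Y.1 0 1 := by
        simp [Matrix.SpecialLinearGroup.coe_mul, hJv, Matrix.trace_fin_two, Matrix.mul_apply, Fin.sum_univ_two,
          Matrix.vecMul, dotProduct]
        ring
      simp only [Set.mem_ofPred_eq, e1, e2] at hY
      simp only [hS, Finset.coe_filter, Finset.mem_univ, true_and, Set.mem_ofPred_eq, f, good]
      refine ⟨by linear_combination -4 * hd - h3, ?_⟩
      rcases hY with h | h | h | h
      · exact .inl (.inl h)
      · exact .inl (.inr (.inl h))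
      · right
        have ha := congrFun (congrFun h 0) 0
        have hb := congrFun (congrFun h 0) 1
        simp [hJv, Matrix.mul_apply, Fin.sum_univ_two] at ha hb
        exact ⟨by linear_combination hb, by linear_combination -ha⟩
      · exact .inl (.inr (.inr h))
    · intro Y Z _ _ h
      simp only [f, Prod.mk.injEq] at h
      obtain ⟨⟨h1, h4⟩, h5, h6⟩ := h
      refine Subtype.ext ?_
      ext i j
      fin_cases i <;> fin_cases j <;> refine mul_left_cancel₀ h2 ?_ <;> simp only [Fin.zero_eta, Fin.mk_one, Fin.isValue]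
      · linear_combination h1 + h5
      · linear_combination h6 - h4
      · linear_combination h6 + h4
      · linear_combination h1 - h5
    · rintro ⟨⟨t, z⟩, ⟨u, w⟩⟩ hp
      simp only [hS, Finset.coe_filter, Finset.mem_univ, true_and, Set.mem_ofPred_eq, good] at hp
      obtain ⟨he, hg⟩ := hp
      let Y : SL2 := ⟨!![-(t + u), -(w - z); -(z + w), -(t - u)], by
        rw [Matrix.det_fin_two_of]; linear_combination -he⟩
      have e1 : Y.1.trace = t := by
        simp [Y, Matrix.trace_fin_two]; linear_combination -t * h3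
      have e2 : ((J : SL2) * Y).1.trace = z := by
        rw [Matrix.SpecialLinearGroup.coe_mul]
        simp [Y, Matrix.SpecialLinearGroup.coe_mul, hJv, Matrix.trace_fin_two, Matrix.mul_apply, Fin.sum_univ_two,
          Matrix.vecMul, dotProduct]
        linear_combination -z * h3
      refine ⟨Y, ?_, ?_⟩
      · simp only [Set.mem_ofPred_eq, e1, e2]
        rcases hg with (h | h | h) | ⟨rfl, rfl⟩
        · exact .inl h
        · exact .inr (.inl h)
        · exact .inr (.inr (.inr h))
        · right; right; left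
          ext i j
          fin_cases i <;> fin_cases j <;> simp [Y, hJv, Matrix.mul_apply, Fin.sum_univ_two] <;> ring
      · simp only [f, Y, Prod.mk.injEq]
        simp
        refine ⟨⟨?_, ?_⟩, ?_, ?_⟩
        · linear_combination -t * h3
        · linear_combination -z * h3
        · linear_combination -u * h3
        · linear_combination -w * h3
  rw [hset]
  have hfib := Finset.card_eq_sum_card_fiberwise (f := fun p : (F × F) × (F × F) => p.1)
    (s := S) (t := Finset.univ) (fun r _ => Finset.mem_univ _)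
  rw [hfib]
  obtain ⟨hl0, hl⟩ := lev_ncard h8
  have hfibre : ∀ p : F × F, (S.filter fun r => r.1 = p).card =
      (if p.1 ^ 2 + p.2 ^ 2 = 1 then 1 else 0) +
        (if p.1 ^ 2 + p.2 ^ 2 ≠ 1 ∧ good p then Nat.card F + 1 else 0) := by
    intro p
    have hinj : Function.Injective (fun r : F × F => (p, r)) := fun r s h => (Prod.mk.inj h).2
    by_cases hv : p.1 ^ 2 + p.2 ^ 2 = 1
    · rw [if_pos hv, if_neg (fun h => h.1 hv), add_zero, Finset.card_eq_one]
      refine ⟨(p, (0, 0)), ?_⟩
      ext ⟨p', r⟩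
      simp only [hS, Finset.mem_filter, Finset.mem_univ, true_and, Finset.mem_singleton, Prod.mk.injEq]
      constructor
      · rintro ⟨⟨h, -⟩, rfl⟩
        rw [hv, sub_self] at h
        have : r ∈ lev (0 : F) := h
        refine ⟨rfl, ?_⟩
        have e : lev (0 : F) = {((0 : F), (0 : F))} := by
          obtain ⟨a, ha⟩ := Set.ncard_eq_one.1 hl0
          have h00 : ((0 : F), (0 : F)) ∈ lev (0 : F) := by simp [lev]
          rw [ha] at h00 ⊢
          rw [Set.mem_singleton_iff.1 h00]
        rw [e] at this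
        exact this
      · rintro ⟨rfl, rfl⟩
        exact ⟨⟨by simp [hv], .inr ⟨rfl, rfl⟩⟩, rfl⟩
    · rw [if_neg hv, zero_add]
      by_cases hg : good p
      · rw [if_pos ⟨hv, hg⟩, ← hl _ (sub_ne_zero.2 hv), ← Set.ncard_image_of_injective _ hinj,
          ← Set.ncard_coe_finset]
        congr 1
        ext ⟨p', r⟩
        simp only [hS, Finset.coe_filter, Finset.mem_filter, Finset.mem_univ, true_and, Set.mem_ofPred_eq,
          Set.mem_image, lev, Prod.mk.injEq]
        constructor
        · rintro ⟨⟨h, -⟩, rfl⟩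
          exact ⟨r, h, rfl, rfl⟩
        · rintro ⟨r, h, rfl, rfl⟩
          exact ⟨⟨h, .inl hg⟩, rfl⟩
      · rw [if_neg (fun h => hg h.2), Finset.card_eq_zero]
        refine Finset.eq_empty_of_forall_notMem ?_
        rintro ⟨p', r⟩ hr
        simp only [hS, Finset.mem_filter, Finset.mem_univ, true_and] at hr
        obtain ⟨⟨h, hg' | ⟨h1, h4⟩⟩, rfl⟩ := hr
        · exact hg hg'
        · rw [h1, h4] at h
          exact hv (by linear_combination -h)
  rw [Finset.sum_congr rfl (fun p _ => hfibre p), Finset.sum_add_distrib, Finset.sum_boole, ← Finset.sum_filter,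
    Finset.sum_const, smul_eq_mul, Nat.cast_id]
  have hc1 : (Finset.univ.filter fun p : F × F => p.1 ^ 2 + p.2 ^ 2 = 1).card = Nat.card F + 1 := by
    rw [← hl 1 one_ne_zero, ← Set.ncard_coe_finset]
    congr 1; ext p; simp [lev]
  have hpm : ∀ x : F, x ^ 2 = 1 ↔ x = 1 ∨ x = -1 := fun x => by rw [pow_two]; exact mul_self_eq_one_iff
  have hne : (1 : F) ≠ -1 := fun e => h2 (by linear_combination e)
  have hm1 : (Finset.univ.filter fun x : F => x ^ 2 = 1) = {1, -1} := by ext x; simp [hpm]
  set A : Finset F := Finset.univ.filter fun x : F => ¬ x ^ 2 = 1 with hA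
  have hAc : A.card + 2 = Nat.card F := by
    have e := Finset.card_filter_add_card_filter_not (s := (Finset.univ : Finset F)) (p := fun x => x ^ 2 = 1)
    rw [hm1, Finset.card_pair hne, Finset.card_univ, ← Nat.card_eq_fintype_card, ← hA] at e
    omega
  have hc2 : (Finset.univ.filter fun p : F × F => p.1 ^ 2 + p.2 ^ 2 ≠ 1 ∧ good p) =
      (({0} : Finset F) ×ˢ A ∪ A.erase 0 ×ˢ ({0} : Finset F)) ∪ ({1, -1} : Finset F) ×ˢ ({1, -1} : Finset F) := by
    ext ⟨t, z⟩
    simp only [good, Finset.mem_filter, Finset.mem_univ, true_and, Finset.mem_union, Finset.mem_product,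
      Finset.mem_singleton, Finset.mem_erase, hA, Finset.mem_insert, ← hpm]
    constructor
    · rintro ⟨hv, rfl | rfl | h⟩
      · exact .inl (.inl ⟨rfl, fun e => hv (by linear_combination e)⟩)
      · by_cases ht : t = 0
        · subst ht
          exact .inl (.inl ⟨rfl, fun e => hv (by linear_combination e)⟩)
        · exact .inl (.inr ⟨⟨ht, fun e => hv (by linear_combination e)⟩, rfl⟩)
      · exact .inr h
    · rintro ((⟨rfl, h⟩ | ⟨⟨ht, h⟩, rfl⟩) | ⟨ht, hz⟩)
      · exact ⟨fun e => h (by linear_combination e), .inl rfl⟩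
      · exact ⟨fun e => h (by linear_combination e), .inr (.inl rfl)⟩
      · exact ⟨fun e => one_ne_zero (show (1 : F) = 0 by linear_combination e - ht - hz), .inr (.inr ⟨ht, hz⟩)⟩
  have h0A : (0 : F) ∈ A := by simp [hA]
  have d1 : Disjoint (({0} : Finset F) ×ˢ A) (A.erase 0 ×ˢ ({0} : Finset F)) := by
    rw [Finset.disjoint_left]
    rintro ⟨t, z⟩ h1 h4
    simp only [Finset.mem_product, Finset.mem_singleton, Finset.mem_erase] at h1 h4
    exact h4.1.1 h1.1
  have d2 : Disjoint (({0} : Finset F) ×ˢ A ∪ A.erase 0 ×ˢ ({0} : Finset F))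
      (({1, -1} : Finset F) ×ˢ ({1, -1} : Finset F)) := by
    rw [Finset.disjoint_left]
    rintro ⟨t, z⟩ h1 h4
    simp only [Finset.mem_union, Finset.mem_product, Finset.mem_singleton, Finset.mem_insert, ← hpm] at h1 h4
    rcases h1 with ⟨rfl, -⟩ | ⟨-, rfl⟩
    · exact one_ne_zero (show (1 : F) = 0 by linear_combination -h4.1)
    · exact one_ne_zero (show (1 : F) = 0 by linear_combination -h4.2)
  rw [hc1, hc2, Finset.card_union_of_disjoint d2, Finset.card_union_of_disjoint d1, Finset.card_product,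
    Finset.card_product, Finset.card_product, Finset.card_singleton, Finset.card_erase_of_mem h0A,
    Finset.card_pair hne, one_mul, mul_one]
  obtain ⟨j, hj⟩ : ∃ j, A.card = j + 1 := ⟨A.card - 1, by have := Finset.card_pos.2 ⟨0, h0A⟩; omega⟩
  rw [hj, Nat.add_sub_cancel, show Nat.card F = j + 3 by omega]
  ring

theorem count_U :
    {Y : SL2 | Y.1 1 0 = 0 ∨ (Y.1 1 0 ^ 2 = 1 ∧ (Y.1.trace = 0 ∨ Y.1.trace ^ 2 = 1))}.ncard =
      Nat.card F * (Nat.card F + 5) := by
  classical
  haveI := Fintype.ofFinite F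
  have h2 := two_ne (F := F)
  have hne : (1 : F) ≠ -1 := fun e => h2 (by linear_combination e)
  have hpm : ∀ x : F, x ^ 2 = 1 ↔ x = 1 ∨ x = -1 := fun x => by rw [pow_two]; exact mul_self_eq_one_iff
  set B : Set SL2 := {Y | Y.1 1 0 = 0} with hB
  set C : Set SL2 := {Y | Y.1 1 0 ^ 2 = 1 ∧ (Y.1.trace = 0 ∨ Y.1.trace ^ 2 = 1)} with hC
  have hBc : B.ncard = (Nat.card F - 1) * Nat.card F := by
    rw [← card_units_field, ← Nat.card_prod, ← Set.ncard_univ]
    refine Set.ncard_congr (fun Y (hY : Y ∈ B) => ((Units.mk0 (Y.1 0 0) (fun e => by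
      have hd := Y.2
      rw [Matrix.det_fin_two, e, show Y.1 1 0 = 0 from hY] at hd
      simp at hd) : Fˣ), Y.1 0 1)) (fun _ _ => Set.mem_univ _) ?_ ?_
    · intro Y Z hY hZ h
      simp only [Prod.mk.injEq, Units.ext_iff, Units.val_mk0] at h
      have hd := Y.2
      have hd' := Z.2
      rw [Matrix.det_fin_two, show Y.1 1 0 = 0 from hY] at hd
      rw [Matrix.det_fin_two, show Z.1 1 0 = 0 from hZ, ← h.1] at hd'
      refine Subtype.ext ?_
      ext i j
      fin_cases i <;> fin_cases j
      · exact h.1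
      · exact h.2
      · exact (show Y.1 1 0 = 0 from hY).trans (show Z.1 1 0 = 0 from hZ).symm
      · have ha : Y.1 0 0 ≠ 0 := fun e => by rw [e] at hd; simp at hd
        exact mul_left_cancel₀ ha (show Y.1 0 0 * Y.1 1 1 = Y.1 0 0 * Z.1 1 1 by linear_combination hd - hd')
    · rintro ⟨a, b⟩ -
      exact ⟨⟨!![(a : F), b; 0, (a⁻¹ : Fˣ)], by simp [Matrix.det_fin_two]⟩, (show (!![(a : F), b; 0, (a⁻¹ : Fˣ)] : M2) 1 0 = 0 by simp), by simp⟩
  have hCc : C.ncard = 6 * Nat.card F := by
    have e : (6 : ℕ) * Nat.card F =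
        ((((({1, -1} : Finset F) ×ˢ ({0, 1, -1} : Finset F)) ×ˢ (Finset.univ : Finset F)) : Finset ((F × F) × F)) : Set ((F × F) × F)).ncard := by
      rw [Set.ncard_coe_finset, Finset.card_product, Finset.card_product, Finset.card_pair hne, Finset.card_univ,
        Nat.card_eq_fintype_card, Finset.card_insert_of_notMem (by simp), Finset.card_pair hne]
    rw [e]
    refine Set.ncard_congr (fun Y _ => ((Y.1 1 0, Y.1.trace), Y.1 0 0)) ?_ ?_ ?_
    · rintro Y ⟨h1, h4⟩
      simp only [Finset.coe_product, Finset.coe_univ, Set.mem_prod, Set.mem_univ, and_true, Finset.coe_insert,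
        Finset.coe_singleton, Set.mem_insert_iff, Set.mem_singleton_iff]
      exact ⟨(hpm _).1 h1, h4.imp id (fun h => (hpm _).1 h)⟩
    · intro Y Z hY hZ h
      simp only [Prod.mk.injEq, Matrix.trace_fin_two] at h
      obtain ⟨⟨h1, h4⟩, h5⟩ := h
      have hd := Y.2
      have hd' := Z.2
      rw [Matrix.det_fin_two] at hd hd'
      rw [← h1, ← h5] at hd'
      have h11 : Y.1 1 1 = Z.1 1 1 := by linear_combination h4 - h5
      rw [← h11] at hd'
      have hc : Y.1 1 0 ≠ 0 := fun e => by have := hY.1; rw [e] at this; simp at this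
      refine Subtype.ext ?_
      ext i j
      fin_cases i <;> fin_cases j
      · exact h5
      · exact mul_right_cancel₀ hc (show Y.1 0 1 * Y.1 1 0 = Z.1 0 1 * Y.1 1 0 by linear_combination hd' - hd)
      · exact h1
      · exact h11
    · rintro ⟨⟨c, t⟩, a⟩ hp
      simp only [Finset.coe_product, Finset.coe_univ, Set.mem_prod, Set.mem_univ, and_true, Finset.coe_insert,
        Finset.coe_singleton, Set.mem_insert_iff, Set.mem_singleton_iff] at hp
      have hc : c ^ 2 = 1 := (hpm c).2 hp.1
      refine ⟨⟨!![a, c * (a * (t - a) - 1); c, t - a], ?_⟩, ⟨?_, ?_⟩, ?_⟩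
      · rw [Matrix.det_fin_two_of]; linear_combination (1 - a * (t - a)) * hc
      · simpa using hc
      · simpa [Matrix.trace_fin_two] using hp.2.imp id (fun h => (hpm t).2 h)
      · simp [Matrix.trace_fin_two]
  have hu : {Y : SL2 | Y.1 1 0 = 0 ∨ (Y.1 1 0 ^ 2 = 1 ∧ (Y.1.trace = 0 ∨ Y.1.trace ^ 2 = 1))} = B ∪ C := rfl
  have hd : Disjoint B C := by
    rw [Set.disjoint_left]
    rintro Y (hY : Y.1 1 0 = 0) ⟨h, -⟩
    rw [hY] at h
    simp at h
  rw [hu, Set.ncard_union_eq hd, hBc, hCc]
  obtain ⟨j, hj⟩ : ∃ j, Nat.card F = j + 1 := ⟨Nat.card F - 1, by have := Finite.one_lt_card (α := F); omega⟩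
  rw [hj, Nat.add_sub_cancel]
  ring

theorem conj_invol (h8 : Nat.card F % 8 = 3) {X : SL2} (ht : X.1.trace = 0) :
    ∃ M : GL (Fin 2) F, conjE M J = X := by
  let v : Fin 2 → F := ![1, 0]
  let w := X.1 *ᵥ v
  have hXX : X.1 * X.1 = -1 := by rw [mul_self', ht, zero_smul, zero_sub]
  have hw : X.1 *ᵥ w = -v := by
    rw [show X.1 *ᵥ w = (X.1 * X.1) *ᵥ v from Matrix.mulVec_mulVec v X.1 X.1, hXX, Matrix.neg_mulVec,
      Matrix.one_mulVec]
  have hdet : (!![w 0, v 0; w 1, v 1] : M2).det ≠ 0 := by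
    simp only [Matrix.det_fin_two_of]
    intro h
    have h1 : w 1 = 0 := by simpa [v] using h
    have e0 := congrFun hw 0
    simp [w, v, Matrix.mulVec, dotProduct] at e0 h1
    rw [h1, mul_zero, add_zero] at e0
    exact no_sq_neg_one h8 _ e0
  refine ⟨GeneralLinearGroup.mkOfDetNeZero _ hdet, ?_⟩
  set M := GeneralLinearGroup.mkOfDetNeZero _ hdet with hM
  have key : X.1 * M.1 = M.1 * (J : SL2).1 := by
    have e0 := congrFun hw 0
    have e1 := congrFun hw 1
    simp [w, v, Matrix.mulVec, dotProduct] at e0 e1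
    ext i j
    fin_cases i <;> fin_cases j <;>
      simp [hM, J, w, v, GeneralLinearGroup.mkOfDetNeZero, Matrix.mul_apply, Fin.sum_univ_two, Matrix.mulVec, dotProduct]
    · linear_combination e0
    · linear_combination e1
  refine Subtype.ext ?_
  show M.1 * (J : SL2).1 * (M⁻¹).1 = X.1
  rw [← key, Matrix.mul_assoc, Units.mul_inv, Matrix.mul_one]

theorem conj_unip {X : SL2} (ht : X.1.trace = 2) (hne : X.1 ≠ 1) : ∃ M : GL (Fin 2) F, conjE M U = X := by
  set N := X.1 - 1 with hN
  have hNN : N * N = 0 := by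
    rw [hN, sub_mul, mul_sub, mul_self', ht, Matrix.mul_one, Matrix.one_mul, two_smul]
    abel
  obtain ⟨v, hv⟩ : ∃ v, N *ᵥ v ≠ 0 := by
    by_contra h
    push Not at h
    exact hne (sub_eq_zero.1 (Matrix.toLin'.injective (LinearMap.ext fun v => by simp [Matrix.toLin'_apply, ← hN, h v])))
  set w := N *ᵥ v with hw
  have hNw : N *ᵥ w = 0 := by rw [hw, Matrix.mulVec_mulVec, hNN, Matrix.zero_mulVec]
  have hdet : (!![w 0, v 0; w 1, v 1] : M2).det ≠ 0 := by
    simp only [Matrix.det_fin_two_of]
    intro h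
    obtain ⟨i, hi⟩ := Function.ne_iff.1 hv
    have key : (v i) • w = (w i) • v := by
      ext j
      simp only [Pi.smul_apply, smul_eq_mul]
      fin_cases i <;> fin_cases j <;> simp
      · ring
      · linear_combination -h
      · linear_combination h
      · ring
    have e := congrArg (N *ᵥ ·) key
    simp only [Matrix.mulVec_smul, hNw, smul_zero, ← hw] at e
    have := congrFun e i
    simp only [Pi.zero_apply, Pi.smul_apply, smul_eq_mul] at this
    rcases mul_eq_zero.1 this.symm with h' | h' <;> exact hi h'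
  refine ⟨GeneralLinearGroup.mkOfDetNeZero _ hdet, ?_⟩
  set M := GeneralLinearGroup.mkOfDetNeZero _ hdet with hM
  have hXw : X.1 *ᵥ w = w := by
    rw [show X.1 = N + 1 by rw [hN, sub_add_cancel], Matrix.add_mulVec, hNw, Matrix.one_mulVec, zero_add]
  have hXv : X.1 *ᵥ v = v + w := by
    rw [show X.1 = N + 1 by rw [hN, sub_add_cancel], Matrix.add_mulVec, Matrix.one_mulVec, ← hw, add_comm]
  have key : X.1 * M.1 = M.1 * (U : SL2).1 := by
    have a0 := congrFun hXw 0
    have a1 := congrFun hXw 1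
    have b0 := congrFun hXv 0
    have b1 := congrFun hXv 1
    simp [Matrix.mulVec, dotProduct] at a0 a1 b0 b1
    ext i j
    fin_cases i <;> fin_cases j <;>
      simp [hM, U, GeneralLinearGroup.mkOfDetNeZero, Matrix.mul_apply, Fin.sum_univ_two]
    · linear_combination a0
    · linear_combination b0
    · linear_combination a1
    · linear_combination b1
  refine Subtype.ext ?_
  show M.1 * (U : SL2).1 * (M⁻¹).1 = X.1
  rw [← key, Matrix.mul_assoc, Units.mul_inv, Matrix.mul_one]

theorem invol_card (h8 : Nat.card F % 8 = 3) (hq : 3 < Nat.card F)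
    (hK : ∀ K : Subfield F, Nat.card K = 3 ∨ Nat.card K = Nat.card F) {x : PG} (hx : x ∈ pslRange F)
    (hx1 : x ≠ 1) (h2 : x ^ 2 = 1) : (SolL x).ncard = Nat.card F * (Nat.card F + 1) := by
  obtain ⟨X, rfl⟩ := exists_lift hx
  have ht : X.1.trace = 0 := by
    rcases (sq_iff X).1 h2 with h | h
    · exact h
    · exact absurd (slToPG_eq_one_iff.2 h) hx1
  obtain ⟨M, hM⟩ := conj_invol h8 ht
  have h := ncard_preimage X
  rw [← hM, ← image_solSL, Set.ncard_image_of_injective _ (conjE M).injective,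
    solSL_invol h8 hq hK (by simp [J, Matrix.trace_fin_two]), count_J h8, hM] at h
  exact (Nat.eq_of_mul_eq_mul_left two_pos h).symm

theorem three_card (h8 : Nat.card F % 8 = 3) (hq : 3 < Nat.card F)
    (hK : ∀ K : Subfield F, Nat.card K = 3 ∨ Nat.card K = Nat.card F) {x : PG} (hx : x ∈ pslRange F)
    (hx1 : x ≠ 1) (h3 : x ^ 3 = 1) : 2 * (SolL x).ncard = Nat.card F * (Nat.card F + 5) := by
  obtain ⟨X, rfl⟩ := exists_lift hx
  have ht := (cube_iff X).1 h3
  obtain ⟨X', hX', ht'⟩ : ∃ X' : SL2, π X' = π X ∧ X'.1.trace = 2 := by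
    rw [pow_two] at ht
    rcases mul_self_eq_one_iff.1 ht with e | e
    · refine ⟨-X, slToPG_neg X, ?_⟩
      rw [Matrix.SpecialLinearGroup.coe_neg, Matrix.trace_neg, e]
      linear_combination -three_zero (F := F)
    · exact ⟨X, rfl, by rw [e]; linear_combination -three_zero (F := F)⟩
  rw [← hX'] at hx1 ⊢
  obtain ⟨M, hM⟩ := conj_unip ht' (fun e => hx1 (slToPG_eq_one_iff.2 (.inl e)))
  have h := ncard_preimage X'
  rw [← hM, ← image_solSL, Set.ncard_image_of_injective _ (conjE M).injective, solSL_U h8 hq hK, count_U, hM] at h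
  exact h.symm

end CfsgLib.PSL2.SolubilizerThree
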