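import Cfsg.Agent.Lib.PSL2.Classify
import Cfsg.Agent.Lib.FgsC.Basic

/-!
Orders and solvability of the maximal subgroups of `PSL₂(F)`.
-/

set_option autoImplicit false
set_option linter.style.haveILetI false
set_option linter.unusedSectionVars false

namespace CfsgLib.PSL2

open Matrix MulAction CfsgLib.Classical
open scoped LinearAlgebra.Projectivization

variable {F : Type*} [Field F] [Finite F] {p : ℕ} [Fact p.Prime] [CharP F p]

local notation "PG" => Matrix.ProjGenLinGroup (Fin 2) F
local notation "P1" => ℙ F (Fin 2 → F)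
local notation "PE" => ℙ (Ext2 F p) (Fin 2 → Ext2 F p)

variable (p) in
include p in
/-- The largest maximal subgroup is the stabiliser of a point. -/
theorem card_max_le {M : Subgroup PG} (hM : MaxSub M) (hq : 3 < Nat.card F)
    (hq' : Nat.card F ∉ ({5, 7, 9, 11} : Finset ℕ)) :
    Nat.gcd 2 (Nat.card F - 1) * Nat.card M ≤ Nat.card F * (Nat.card F - 1) := by
  have hd2 : Nat.gcd 2 (Nat.card F - 1) ≤ 2 := Nat.le_of_dvd two_pos (Nat.gcd_dvd_left _ _)
  simp only [Finset.mem_insert, Finset.mem_singleton] at hq'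
  have small : ∀ n : ℕ, 2 ∣ n → n ≤ 60 → Nat.card M = n → (¬ p ∣ n ∨ p = 3) →
      Nat.gcd 2 (Nat.card F - 1) * Nat.card M ≤ Nat.card F * (Nat.card F - 1) := by
    intro n h2 hn hc hp
    have ho : Odd (Nat.card F) := odd_of_not_dvd_twelve (p := p) h2 hp
    obtain ⟨j, hj⟩ := ho
    have h13 : 13 ≤ Nat.card F := by omega
    calc Nat.gcd 2 (Nat.card F - 1) * Nat.card M ≤ 2 * 60 := Nat.mul_le_mul hd2 (by omega)
      _ ≤ 13 * 12 := by norm_num
      _ ≤ _ := Nat.mul_le_mul h13 (by omega)
  cases maxType (p := p) hM hq with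
  | borel x heq hc => exact hc.le
  | torus a b hg heq iso =>
    obtain ⟨e⟩ := iso
    obtain ⟨r, w, -, -, -, -, -, -, hro, -, -, -⟩ := torus_psl hg (fun _ => by omega)
    rw [Nat.card_congr e.toEquiv, DihedralGroup.nat_card, mul_left_comm]
    have h1 : Nat.gcd 2 (Nat.card F - 1) * (torusCard a / Nat.gcd 2 (Nat.card F - 1)) ≤ torusCard a :=
      Nat.mul_div_le _ _
    have h2 : torusCard a ≤ Nat.card F + 1 := by rw [torusCard]; split_ifs <;> omega
    calc 2 * (Nat.gcd 2 (Nat.card F - 1) * (torusCard a / Nat.gcd 2 (Nat.card F - 1)))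
        ≤ 2 * (Nat.card F + 1) := Nat.mul_le_mul_left 2 (h1.trans h2)
      _ ≤ Nat.card F * 3 := by omega
      _ ≤ _ := Nat.mul_le_mul_left _ (by omega)
  | tetra hp iso =>
    obtain ⟨e⟩ := iso
    have hc := (Nat.card_congr e.toEquiv).trans card_alt_four
    exact small 12 (by norm_num) (by norm_num) hc (.inl (hc ▸ hp))
  | octa hp iso =>
    obtain ⟨e⟩ := iso
    have hc := (Nat.card_congr e.toEquiv).trans card_perm_four
    exact small 24 (by norm_num) (by norm_num) hc (.inl (hc ▸ hp))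
  | icosa hp iso =>
    obtain ⟨e⟩ := iso
    have hc := (Nat.card_congr e.toEquiv).trans card_alt_five
    exact small 60 (by norm_num) le_rfl hc (hc ▸ hp)
  | subfield K k r hr hm heq h2 =>
    have h1 : Nat.card M ≤ (Nat.card K + 1) * (Nat.card K * (Nat.card K - 1)) := by
      rw [← card_subGroupK K k, heq]; exact Subgroup.card_le_of_le inf_le_left
    have hQ : Nat.card K ^ 2 ≤ Nat.card F := by
      rw [Module.natCard_eq_pow_finrank (K := K) (V := F), hm]
      exact Nat.pow_le_pow_right Nat.card_pos hr.two_le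
    have hQ2 : 2 ≤ Nat.card K := Finite.one_lt_card
    obtain ⟨Q, hQe⟩ : ∃ Q, Nat.card K = Q + 2 := ⟨Nat.card K - 2, by omega⟩
    rw [hQe] at h1 hQ
    have h3 : (Q + 2) ^ 2 * ((Q + 2) ^ 2 - 1) ≤ Nat.card F * (Nat.card F - 1) :=
      Nat.mul_le_mul hQ (Nat.sub_le_sub_right hQ 1)
    refine le_trans ?_ h3
    calc Nat.gcd 2 (Nat.card F - 1) * Nat.card M
        ≤ (Q + 2) * ((Q + 2 + 1) * ((Q + 2) * (Q + 2 - 1))) := Nat.mul_le_mul (by omega) h1
      _ = (Q + 2) ^ 2 * ((Q + 2) ^ 2 - 1) := by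
          rw [show (Q + 2) ^ 2 - 1 = (Q + 3) * (Q + 1) by
            rw [Nat.sub_eq_iff_eq_add (Nat.one_le_pow _ _ (by omega))]; ring, show Q + 2 - 1 = Q + 1 by omega]
          ring

theorem index_ge {H : Subgroup PG} (hq : 3 < Nat.card F) (hq' : Nat.card F ∉ ({5, 7, 9, 11} : Finset ℕ))
    (h : H < pslRange F) : Nat.card F + 1 ≤ H.relIndex (pslRange F) := by
  obtain ⟨p, hp⟩ := CharP.exists F
  haveI := Fact.mk (CharP.char_is_prime F p)
  obtain ⟨M, hM, hHM⟩ := exists_maxSub h
  have h1 := card_max_le p hM hq hq'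
  have h2 : Nat.card H ≤ Nat.card M := Subgroup.card_le_of_le hHM
  have h3 : Nat.card H * H.relIndex (pslRange F) = Nat.card (pslRange F) := by
    rw [Subgroup.relIndex, ← Nat.card_congr (Subgroup.subgroupOfEquivOfLe h.le).toEquiv]
    exact Subgroup.card_mul_index _
  have h4 := card_pslRange_mul (F := F)
  rw [← h3, ← mul_assoc] at h4
  have h5 : (Nat.card F + 1) * (Nat.card F * (Nat.card F - 1)) ≤
      H.relIndex (pslRange F) * (Nat.card F * (Nat.card F - 1)) := by
    rw [← h4, mul_comm _ (H.relIndex (pslRange F))]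
    exact Nat.mul_le_mul_left _ ((Nat.mul_le_mul_left _ h2).trans h1)
  exact Nat.le_of_mul_le_mul_right h5 (Nat.mul_pos (by omega) (by omega))

theorem isSolvable_of_commutators {G : Type*} [Group G] {A : Subgroup G}
    (hA : ∀ a ∈ A, ∀ b ∈ A, a * b = b * a) (h : ∀ g h : G, g * h * g⁻¹ * h⁻¹ ∈ A) : Group.IsSolvable G := by
  have hc : commutator G ≤ A := by
    rw [commutator_def, Subgroup.commutator_le]
    intro g _ k _
    rw [commutatorElement_def]
    exact h g k
  have h1 : Group.IsSolvable (commutator G) :=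
    Group.isSolvable_of_comm fun a b => Subtype.ext (hA a (hc a.2) b (hc b.2))
  have h2 : Group.IsSolvable (G ⧸ commutator G) :=
    Group.isSolvable_of_comm fun a b =>
      ((Subgroup.Normal.quotient_commutative_iff_commutator_le).mpr le_rfl).is_comm.comm a b
  exact (Group.isSolvable_iff_subgroup_quotient _).mpr ⟨h1, h2⟩

variable (p) in
include p in
/-- A subgroup fixing a point is solvable. -/
theorem solvable_of_fix {M : Subgroup PG} {c : P1} (h : M ≤ stabilizer PG c) : Group.IsSolvable M := by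
  have hP : P1Like p PG P1 := p1Like_pgl p
  refine isSolvable_of_commutators (A := (unipAt hP c).subgroupOf M) ?_ fun g k => ?_
  · intro a ha b hb
    exact Subtype.ext (hP.unip_mul ha.2 hb.2 ha.1 hb.1).2
  · rw [Subgroup.mem_subgroupOf]
    refine ⟨?_, ?_⟩
    · exact (stabilizer PG c).mul_mem ((stabilizer PG c).mul_mem ((stabilizer PG c).mul_mem (h g.2) (h k.2))
        ((stabilizer PG c).inv_mem (h g.2))) ((stabilizer PG c).inv_mem (h k.2))
    · exact hP.comm_unip (g := (g : PG)) (h := (k : PG)) (h g.2) (h k.2)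

/-- A subgroup of a torus normaliser is solvable. -/
theorem solvable_of_pair {M : Subgroup PG} {a b : PE} (hab : a ≠ b) (h : M ≤ pairStab a b) :
    Group.IsSolvable M := by
  haveI := charP_ext2 (F := F) (p := p)
  have hPE : P1Like p PG PE := p1Like_ext
  haveI := hPE.two_cyclic hab
  letI := IsCyclic.commGroup (α := ↥(stabilizer PG a ⊓ stabilizer PG b))
  refine isSolvable_of_commutators (A := (stabilizer PG a ⊓ stabilizer PG b).subgroupOf M) ?_ fun g k => ?_
  · intro x hx y hy
    refine Subtype.ext ?_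
    exact (congrArg Subtype.val (mul_comm (⟨x, hx⟩ : ↥(stabilizer PG a ⊓ stabilizer PG b)) ⟨y, hy⟩) :)
  · rw [Subgroup.mem_subgroupOf]
    constructor
    · show ((g : PG) * k * (g : PG)⁻¹ * (k : PG)⁻¹) • a = a
      rcases h g.2 with ⟨g1, g2⟩ | ⟨g1, g2⟩ <;> rcases h k.2 with ⟨k1, k2⟩ | ⟨k1, k2⟩ <;>
        simp [mul_smul, g1, g2, k1, k2, inv_smul_eq_iff.2 g1.symm, inv_smul_eq_iff.2 g2.symm,
          inv_smul_eq_iff.2 k1.symm, inv_smul_eq_iff.2 k2.symm]
    · show ((g : PG) * k * (g : PG)⁻¹ * (k : PG)⁻¹) • b = b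
      rcases h g.2 with ⟨g1, g2⟩ | ⟨g1, g2⟩ <;> rcases h k.2 with ⟨k1, k2⟩ | ⟨k1, k2⟩ <;>
        simp [mul_smul, g1, g2, k1, k2, inv_smul_eq_iff.2 g1.symm, inv_smul_eq_iff.2 g2.symm,
          inv_smul_eq_iff.2 k1.symm, inv_smul_eq_iff.2 k2.symm]

theorem solvable_of_small {M : Subgroup PG} (h : Nat.card M = 12 ∨ Nat.card M = 24)
    (e : Nonempty (M ≃* alternatingGroup (Fin 4)) ∨ Nonempty (M ≃* Equiv.Perm (Fin 4))) : Group.IsSolvable M := by
  haveI := CfsgLib.FgsC.isSolvable_perm_fin_four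
  rcases e with ⟨⟨e⟩⟩ | ⟨⟨e⟩⟩
  · exact Group.isSolvable_of_isSolvable_injective (f := (alternatingGroup (Fin 4)).subtype.comp e.toMonoidHom)
      ((alternatingGroup (Fin 4)).subtype_injective.comp e.injective)
  · exact Group.isSolvable_of_isSolvable_injective (f := e.toMonoidHom) e.injective

/-- `PSL₂` over a field with more than three elements is not solvable. -/
theorem not_solvable_psl {K : Type*} [Field K] [Finite K] (h : 4 ≤ Nat.card K) :
    ¬ Group.IsSolvable (Matrix.ProjectiveSpecialLinearGroup (Fin 2) K) := by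
  intro hs
  haveI := Matrix.ProjectiveSpecialLinearGroup.rank_two_simple (F := K) h
  obtain ⟨p, hp⟩ := CharP.exists K
  haveI := Fact.mk (CharP.char_is_prime K p)
  letI : CommGroup (Matrix.ProjectiveSpecialLinearGroup (Fin 2) K) :=
    { mul_comm := IsSimpleGroup.comm_iff_isSolvable.2 hs }
  have hpr := IsSimpleGroup.prime_card (α := Matrix.ProjectiveSpecialLinearGroup (Fin 2) K)
  obtain ⟨g, ⟨y, rfl⟩, hg⟩ := exists_orderOf_psl (F := K) p
  rw [orderOf_injective _ ProjectiveSpecialLinearGroup.toPGL_injective] at hg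
  have hd := orderOf_dvd_natCard y
  rcases (Nat.dvd_prime hpr).1 hd with e | e
  · rw [e] at hg
    have := Nat.le_of_dvd two_pos (Nat.gcd_dvd_left 2 (Nat.card K - 1))
    have h1 := Nat.div_le_div_left this (Nat.gcd_pos_of_pos_left _ two_pos) (a := Nat.card K + 1)
    omega
  · have hc : Nat.card (pslRange K) = orderOf y := by
      rw [e]
      exact (Nat.card_congr (MonoidHom.ofInjective ProjectiveSpecialLinearGroup.toPGL_injective).toEquiv).symm
    have h2 := card_pslRange_mul (F := K)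
    rw [hc, hg] at h2
    have h3 : Nat.gcd 2 (Nat.card K - 1) * ((Nat.card K + 1) / Nat.gcd 2 (Nat.card K - 1)) ≤ Nat.card K + 1 :=
      Nat.mul_div_le _ _
    have h4 : (Nat.card K + 1) * 2 ≤ (Nat.card K + 1) * (Nat.card K * (Nat.card K - 1)) :=
      Nat.mul_le_mul_left _ (le_trans (by norm_num) (Nat.mul_le_mul h (show 1 ≤ Nat.card K - 1 by omega)))
    omega

/-- `PGL₂` over at most three elements is solvable. -/
theorem solvable_pgl_small {K : Type*} [Field K] [Finite K] (h : Nat.card K ≤ 3) :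
    Group.IsSolvable (Matrix.ProjGenLinGroup (Fin 2) K) := by
  obtain ⟨p, hp⟩ := CharP.exists K
  haveI := Fact.mk (CharP.char_is_prime K p)
  haveI : Finite (ℙ K (Fin 2 → K)) := Quotient.finite _
  have hP : P1Like p (Matrix.ProjGenLinGroup (Fin 2) K) (ℙ K (Fin 2 → K)) := p1Like_pgl p
  refine CfsgLib.FgsC.isSolvable_of_injective_perm (α := ℙ K (Fin 2 → K)) (by rw [card_proj_line]; omega)
    (MulAction.toPermHom _ _) ?_
  rw [injective_iff_map_eq_one]
  intro g hg
  obtain ⟨c, h1, h2⟩ := exists_third (pInf K) (pZero K)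
  have hne : pInf K ≠ pZero K := fun h => by
    rw [pInf, pZero, Projectivization.mk_eq_mk_iff'] at h
    obtain ⟨t, ht⟩ := h
    simpa using congrFun ht 0
  exact hP.sharp hne h1 h2 (Equiv.ext_iff.1 hg _) (Equiv.ext_iff.1 hg _) (Equiv.ext_iff.1 hg _)

variable (p) in
include p in
/-- The proper subgroups are solvable when there are no icosahedral or large subfield subgroups. -/
theorem solvable_of_lt {H : Subgroup PG} (hq : 3 < Nat.card F) (hH : H < pslRange F)
    (h5 : ∀ M : Subgroup PG, M < pslRange F → Nonempty (M ≃* alternatingGroup (Fin 5)) → False)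
    (hsub : ∀ (K : Subfield F) (r : ℕ), r.Prime → Module.finrank K F = r → Nat.card K ≤ 3) :
    Group.IsSolvable H := by
  haveI := charP_ext2 (F := F) (p := p)
  obtain ⟨M, hM, hle⟩ := exists_maxSub hH
  suffices Group.IsSolvable M from Group.isSolvable_of_isSolvable_injective (Subgroup.inclusion_injective hle)
  cases maxType (p := p) hM hq with
  | borel x heq _ => exact solvable_of_fix p (heq.le.trans inf_le_left)
  | torus a b hg heq _ => exact solvable_of_pair hg.1 (heq.le.trans inf_le_left)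
  | tetra _ iso =>
    obtain ⟨e⟩ := iso
    exact solvable_of_small (.inl ((Nat.card_congr e.toEquiv).trans card_alt_four)) (.inl ⟨e⟩)
  | octa _ iso =>
    obtain ⟨e⟩ := iso
    exact solvable_of_small (.inr ((Nat.card_congr e.toEquiv).trans card_perm_four)) (.inr ⟨e⟩)
  | icosa _ iso => exact (h5 M hM.lt iso).elim
  | subfield K k r hr hm heq _ =>
    obtain ⟨e⟩ := subGroupK_equiv K k
    haveI := solvable_pgl_small (K := K) (hsub K r hr hm)
    exact Group.isSolvable_of_isSolvable_injective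
      (f := e.toMonoidHom.comp (Subgroup.inclusion (heq.le.trans inf_le_left)))
      (e.injective.comp (Subgroup.inclusion_injective _))

end CfsgLib.PSL2
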