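import Cfsg.Agent.Lib.PSL2.SolubilizerEven
import Cfsg.Agent.Lib.Classical.PSLSimple
import Cfsg.Agent.Lib.PSL2.Solvable

/-!
Solubilizers in `PSL₂(F)` for a field of order `q ≡ 3 mod 8` of characteristic three without intermediate subfields:
solvable subgroups, and the solubilizer of a semisimple element of order other than two.
-/

set_option autoImplicit false
set_option linter.style.haveILetI false
set_option linter.unusedSectionVars false

namespace CfsgLib.PSL2.SolubilizerThree

open Matrix MulAction CfsgLib.Classical CfsgLib.PSL2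
open scoped LinearAlgebra.Projectivization commutatorElement

section general

variable {G : Type*} [Group G]

theorem solvable_comm {x y : G} (h : x * y = y * x) : Group.IsSolvable (Subgroup.closure ({x, y} : Set G)) := by
  refine SolubilizerEven.solvable_of_derived_le (⊥ : Subgroup G) (fun g hg k hk => ?_) (fun g hg k hk => ?_)
  · rw [Subgroup.mem_bot, commutatorElement_eq_one_iff_mul_comm]
    refine Subgroup.closure_induction₂ (p := fun a b _ _ => a * b = b * a) ?_ (fun _ _ => by simp) (fun _ _ => by simp)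
      (fun a b c _ _ _ h1 h2 => by rw [mul_assoc, h2, ← mul_assoc, h1, mul_assoc])
      (fun a b c _ _ _ h1 h2 => by rw [← mul_assoc, h1, mul_assoc, h2, mul_assoc])
      (fun a b _ _ h1 => (Commute.inv_left h1).eq)
      (fun a b _ _ h1 => (Commute.inv_right h1).eq) hg hk
    rintro a b (rfl | rfl) (rfl | rfl) <;> first | rfl | exact h | exact h.symm
  · rw [Subgroup.mem_bot] at hg hk
    rw [hg, hk]

theorem solvable_of_normalised (N : Subgroup G) (hN : ∀ a ∈ N, ∀ b ∈ N, a * b = b * a) {r : G}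
    (hr : r ∈ Subgroup.normalizer (N : Set G)) : Group.IsSolvable (N ⊔ Subgroup.zpowers r : Subgroup G) := by
  set X := Subgroup.normalizer (N : Set G) with hX
  have hle : N ⊔ Subgroup.zpowers r ≤ X := sup_le Subgroup.le_normalizer (Subgroup.zpowers_le.2 hr)
  let f := QuotientGroup.mk' (N.subgroupOf X)
  have hmem : ∀ g (hg : g ∈ X), g ∈ N ⊔ Subgroup.zpowers r → f ⟨g, hg⟩ ∈ Subgroup.zpowers (f ⟨r, hr⟩) := by
    intro g hg hgs
    have hs : (⟨g, hg⟩ : X) ∈ N.subgroupOf X ⊔ (Subgroup.zpowers r).subgroupOf X := by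
      rw [← Subgroup.subgroupOf_sup Subgroup.le_normalizer (Subgroup.zpowers_le.2 hr)]
      exact hgs
    obtain ⟨a, ha, b, hb, e⟩ := Subgroup.mem_sup_of_normal_left.1 hs
    obtain ⟨m, hm⟩ := hb
    have hb' : b = ⟨r, hr⟩ ^ m := Subtype.ext hm.symm
    rw [← e, map_mul, show f a = 1 from (QuotientGroup.eq_one_iff a).2 ha, one_mul, hb', map_zpow]
    exact zpow_mem (Subgroup.mem_zpowers _) m
  refine SolubilizerEven.solvable_of_derived_le N (fun g hg k hk => ?_) hN
  obtain ⟨m, hm⟩ := hmem g (hle hg) hg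
  obtain ⟨l, hl⟩ := hmem k (hle hk) hk
  have h1 : f ⁅(⟨g, hle hg⟩ : X), ⟨k, hle hk⟩⁆ = 1 := by
    rw [map_commutatorElement, ← hm, ← hl, commutatorElement_eq_one_iff_mul_comm]
    exact (Commute.zpow_zpow (Commute.refl _) m l).eq
  simpa [Subgroup.mem_subgroupOf, commutatorElement_def] using (QuotientGroup.eq_one_iff (N := N.subgroupOf X) _).1 h1

theorem solvable_two_invol {x y : G} (hx : x ^ 2 = 1) (hy : y ^ 2 = 1) :
    Group.IsSolvable (Subgroup.closure ({x, y} : Set G)) := by
  have hxi : x⁻¹ = x := inv_eq_of_mul_eq_one_left (by rw [← pow_two, hx])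
  have hyi : y⁻¹ = y := inv_eq_of_mul_eq_one_left (by rw [← pow_two, hy])
  have hxx : x * x = 1 := by rw [← pow_two, hx]
  have hconj : x * (x * y) * x⁻¹ = (x * y)⁻¹ := by rw [_root_.mul_inv_rev, hxi, hyi, ← mul_assoc, hxx, one_mul]
  have hn : x ∈ Subgroup.normalizer (Subgroup.zpowers (x * y) : Set G) := by
    refine Subgroup.mem_normalizer_iff.2 fun k => ?_
    have key : ∀ k ∈ Subgroup.zpowers (x * y), x * k * x⁻¹ ∈ Subgroup.zpowers (x * y) := by
      rintro _ ⟨m, rfl⟩
      show x * (x * y) ^ m * x⁻¹ ∈ _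
      rw [← conj_zpow, hconj]
      exact zpow_mem (inv_mem (Subgroup.mem_zpowers _)) m
    refine ⟨key k, fun h => ?_⟩
    have := key _ h
    rw [hxi] at this
    rwa [show x * (x * k * x) * x = k by rw [mul_assoc x k, ← mul_assoc x x, hxx, one_mul, mul_assoc, hxx, mul_one]] at this
  haveI := solvable_of_normalised _ (fun a ha b hb => by
    obtain ⟨m, rfl⟩ := Subgroup.mem_zpowers_iff.1 ha
    obtain ⟨l, rfl⟩ := Subgroup.mem_zpowers_iff.1 hb
    exact (Commute.zpow_zpow (Commute.refl _) m l).eq) hn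
  refine SolubilizerEven.solvable_of_le (K := Subgroup.zpowers (x * y) ⊔ Subgroup.zpowers x)
    ((Subgroup.closure_le _).2 ?_)
  rintro w (rfl | rfl)
  · exact Subgroup.mem_sup_right (Subgroup.mem_zpowers _)
  · have h1 := mul_mem
      (inv_mem (Subgroup.mem_sup_right (S := Subgroup.zpowers (x * w)) (Subgroup.mem_zpowers x)))
      (Subgroup.mem_sup_left (T := Subgroup.zpowers x) (Subgroup.mem_zpowers (x * w)))
    rwa [inv_mul_cancel_left] at h1

/-- The tetrahedral relations. -/
theorem solvable_tetra {x y s r : G} (hs : s ^ 2 = 1) (hr : r ^ 3 = 1) (hsr : (s * r) ^ 3 = 1)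
    (hx : x ∈ Subgroup.closure ({s, r} : Set G)) (hy : y ∈ Subgroup.closure ({s, r} : Set G)) :
    Group.IsSolvable (Subgroup.closure ({x, y} : Set G)) := by
  have hss : s * s = 1 := by rw [← pow_two, hs]
  set t := r * s * r⁻¹ with ht
  have htt : t * t = 1 := by
    rw [ht, show r * s * r⁻¹ * (r * s * r⁻¹) = r * (s * s) * r⁻¹ by group, hss, mul_one, mul_inv_cancel]
  have h3 : r * t * r⁻¹ = t * s := by
    have e : s * t * (r * t * r⁻¹) = 1 := by
      have e1 : (s * r) ^ 3 = s * t * (r * t * r⁻¹) * r ^ 3 := by rw [ht]; simp only [pow_succ, pow_zero, one_mul]; group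
      rw [hsr, hr, mul_one] at e1
      exact e1.symm
    calc r * t * r⁻¹ = (s * t)⁻¹ * (s * t * (r * t * r⁻¹)) := by group
      _ = t⁻¹ * s⁻¹ := by rw [e, mul_one, _root_.mul_inv_rev]
      _ = t * s := by rw [inv_eq_of_mul_eq_one_left htt, inv_eq_of_mul_eq_one_left hss]
  have hst : s * t = t * s := by
    have e : (t * s) * (t * s) = 1 := by
      rw [← h3, show r * t * r⁻¹ * (r * t * r⁻¹) = r * (t * t) * r⁻¹ by group, htt, mul_one, mul_inv_cancel]
    calc s * t = t⁻¹ * (t * s * (t * s)) * s⁻¹ := by group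
      _ = t⁻¹ * s⁻¹ := by rw [e, mul_one]
      _ = t * s := by rw [inv_eq_of_mul_eq_one_left htt, inv_eq_of_mul_eq_one_left hss]
  set N := Subgroup.closure ({s, t} : Set G) with hN
  have hab : ∀ a ∈ N, ∀ b ∈ N, a * b = b * a := by
    intro a ha b hb
    refine Subgroup.closure_induction₂ (p := fun a b _ _ => a * b = b * a) ?_ (fun _ _ => by simp) (fun _ _ => by simp)
      (fun a b c _ _ _ h1 h2 => by rw [mul_assoc, h2, ← mul_assoc, h1, mul_assoc])
      (fun a b c _ _ _ h1 h2 => by rw [← mul_assoc, h1, mul_assoc, h2, mul_assoc])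
      (fun a b _ _ h1 => (Commute.inv_left h1).eq)
      (fun a b _ _ h1 => (Commute.inv_right h1).eq) ha hb
    rintro a b (rfl | rfl) (rfl | rfl) <;> first | rfl | exact hst | exact hst.symm
  have key : ∀ k ∈ N, r * k * r⁻¹ ∈ N := by
    intro k hk
    have : N ≤ N.comap (MulAut.conj r).toMonoidHom := (Subgroup.closure_le _).2 (by
      rintro w (rfl | rfl)
      · exact Subgroup.subset_closure (Set.mem_insert_of_mem _ rfl)
      · show r * _ * r⁻¹ ∈ N
        rw [h3]
        exact mul_mem (Subgroup.subset_closure (Set.mem_insert_of_mem _ rfl)) (Subgroup.subset_closure (Set.mem_insert _ _)))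
    exact this hk
  have hn : r ∈ Subgroup.normalizer (N : Set G) := by
    refine Subgroup.mem_normalizer_iff.2 fun k => ⟨key k, fun h => ?_⟩
    have h2 := key _ (key _ h)
    rwa [show r * (r * (r * k * r⁻¹) * r⁻¹) * r⁻¹ = r ^ 3 * k * (r ^ 3)⁻¹ by simp only [pow_succ, pow_zero, one_mul]; group,
      hr, one_mul, inv_one, mul_one] at h2
  haveI := solvable_of_normalised N hab hn
  have hle : Subgroup.closure ({s, r} : Set G) ≤ N ⊔ Subgroup.zpowers r := (Subgroup.closure_le _).2 (by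
    rintro w (rfl | rfl)
    · exact Subgroup.mem_sup_left (Subgroup.subset_closure (Set.mem_insert _ _))
    · exact Subgroup.mem_sup_right (Subgroup.mem_zpowers _))
  exact SolubilizerEven.solvable_of_le (K := N ⊔ Subgroup.zpowers r)
    ((Subgroup.closure_le _).2 (by rintro w (rfl | rfl); exacts [hle hx, hle hy]))

end general

variable {F : Type*} [Field F] [Finite F] [Fact (Nat.Prime 3)] [CharP F 3]

local notation "PG" => Matrix.ProjGenLinGroup (Fin 2) F
local notation "P1" => ℙ F (Fin 2 → F)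
local notation "PE" => ℙ (Ext2 F 3) (Fin 2 → Ext2 F 3)

theorem hP : P1Like 3 PG PE := p1Like_ext

theorem odd_card (h8 : Nat.card F % 8 = 3) : Odd (Nat.card F) := Nat.odd_iff.2 (by omega)

theorem gcd_two (h8 : Nat.card F % 8 = 3) : Nat.gcd 2 (Nat.card F - 1) = 2 :=
  gcd_two_card_sub_one_of_odd (odd_card h8)

theorem two_mul_card_L (h8 : Nat.card F % 8 = 3) :
    2 * Nat.card (pslRange F) = (Nat.card F + 1) * (Nat.card F * (Nat.card F - 1)) := by
  rw [two_mul_card_pslRange_of_odd (odd_card h8), card_pgl_two rfl]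

theorem not_eight_dvd (h8 : Nat.card F % 8 = 3) : ¬ 8 ∣ Nat.card (pslRange F) := by
  intro h
  have e := two_mul_card_L h8
  obtain ⟨k, hk⟩ := h
  obtain ⟨m, hm⟩ : ∃ m, Nat.card F = 8 * m + 3 := ⟨Nat.card F / 8, by omega⟩
  rw [hk, hm, show 8 * m + 3 - 1 = 2 * (4 * m + 1) by omega] at e
  have e2 : 16 * k = 8 * ((2 * m + 1) * ((8 * m + 3) * (4 * m + 1))) :=
    calc 16 * k = 2 * (8 * k) := by ring
      _ = _ := by rw [e]; ring
  have hodd : Odd ((2 * m + 1) * ((8 * m + 3) * (4 * m + 1))) :=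
    (odd_two_mul_add_one m).mul ((Nat.odd_iff.2 (by omega)).mul (Nat.odd_iff.2 (by omega)))
  rw [Nat.odd_iff] at hodd
  omega

theorem order_small (h8 : Nat.card F % 8 = 3) {g : PG} (hg : g ∈ pslRange F) (h12 : g ^ 12 = 1) :
    g ^ 2 = 1 ∨ g ^ 3 = 1 := by
  have ho := orderOf_dvd_of_pow_eq_one h12
  by_cases h3 : 3 ∣ orderOf g
  · right
    by_contra hne
    set u := g ^ (orderOf g / 3) with hu
    have huo : orderOf u = 3 := orderOf_pow_orderOf_div (orderOf_pos g).ne' h3
    have hu1 : u ≠ 1 := fun e => by rw [e, orderOf_one] at huo; omega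
    have hu3 : u ^ 3 = 1 := by rw [← huo]; exact pow_orderOf_eq_one u
    obtain ⟨c, hc⟩ := exists_fix_ext (p := 3) u
    have hgc : g • c = c := smul_eq_of_commute hP hu1 hu3 hc (by rw [hu]; exact (Commute.self_pow g _).eq)
    obtain ⟨b, hb, hgb⟩ := hP.exists_other hne hgc
    refine hb (hP.unique_fix hu1 hu3 ?_ hc)
    exact mem_stabilizer_iff.1 (Subgroup.pow_mem _ (mem_stabilizer_iff.2 hgb) _)
  · left
    have h4 : orderOf g ∣ 4 :=
      ((Nat.prime_three.coprime_iff_not_dvd.2 h3).symm).dvd_of_dvd_mul_left (show orderOf g ∣ 3 * 4 from ho)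
    rcases order_dvd_pslRange 3 hg h3 with h | h <;> rw [gcd_two h8] at h
    · refine orderOf_dvd_iff_pow_eq_one.1 ((Nat.dvd_gcd h4 h).trans ?_)
      have e : Nat.gcd 4 ((Nat.card F + 1) / 2) = 2 := by
        rw [Nat.gcd_rec, show ((Nat.card F + 1) / 2) % 4 = 2 by omega]; rfl
      rw [e]
    · refine orderOf_dvd_iff_pow_eq_one.1 ((Nat.dvd_gcd h4 h).trans ?_)
      have hodd : Odd ((Nat.card F - 1) / 2) := Nat.odd_iff.2 (by omega)
      have e : Nat.Coprime 4 ((Nat.card F - 1) / 2) :=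
        (Nat.Prime.coprime_iff_not_dvd Nat.prime_two).2 hodd.not_two_dvd_nat |>.pow_left 2
      rw [e.gcd_eq_one]
      exact one_dvd _

theorem not_solvable_L (h8 : Nat.card F % 8 = 3) (hq : 3 < Nat.card F) : ¬ Group.IsSolvable (pslRange F) := by
  intro h
  haveI := h
  haveI : IsSimpleGroup (Matrix.ProjectiveSpecialLinearGroup (Fin 2) F) :=
    isSimpleGroup_PSL_fin 2 le_rfl (fun _ => hq)
  have e := MonoidHom.ofInjective (Matrix.ProjectiveSpecialLinearGroup.toPGL_injective (n := Fin 2) (R := F))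
  haveI : Group.IsSolvable (Matrix.ProjectiveSpecialLinearGroup.toPGL (n := Fin 2) (R := F)).range := h
  haveI : Group.IsSolvable (Matrix.ProjectiveSpecialLinearGroup (Fin 2) F) :=
    Group.isSolvable_of_surjective (f := e.symm.toMonoidHom) e.symm.surjective
  have hcomm := IsSimpleGroup.comm_iff_isSolvable.2 ‹Group.IsSolvable (Matrix.ProjectiveSpecialLinearGroup (Fin 2) F)›
  let A : Matrix.SpecialLinearGroup (Fin 2) F := ⟨!![1, 1; 0, 1], by simp [Matrix.det_fin_two]⟩
  let B : Matrix.SpecialLinearGroup (Fin 2) F := ⟨!![1, 0; 1, 1], by simp [Matrix.det_fin_two]⟩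
  have h1 := hcomm (QuotientGroup.mk' (Subgroup.center _) A) (QuotientGroup.mk' (Subgroup.center _) B)
  rw [← map_mul, ← map_mul, QuotientGroup.mk'_eq_mk'] at h1
  obtain ⟨z, hz, hzz⟩ := h1
  obtain ⟨r, -, hr⟩ := Matrix.SpecialLinearGroup.mem_center_iff.1 hz
  have hv := congrArg (Subtype.val : _ → Matrix (Fin 2) (Fin 2) F) hzz
  have h2 := congrFun (congrFun hv 0) 0
  have h3 := congrFun (congrFun hv 0) 1
  change ((A.1 * B.1) * z.1) 0 0 = (B.1 * A.1) 0 0 at h2
  change ((A.1 * B.1) * z.1) 0 1 = (B.1 * A.1) 0 1 at h3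
  simp [A, B, ← hr, Matrix.mul_apply, Fin.sum_univ_two] at h2 h3
  exact one_ne_zero (show (1 : F) = 0 by linear_combination h2 - 2 * h3)

theorem solvable_cases (h8 : Nat.card F % 8 = 3) (hq : 3 < Nat.card F)
    (hK : ∀ K : Subfield F, Nat.card K = 3 ∨ Nat.card K = Nat.card F) (H : Subgroup PG) (hH : H ≤ pslRange F)
    [hs : Group.IsSolvable H] :
    (∃ z : P1, ∀ h ∈ H, h • z = z) ∨ (∃ a b : PE, a ≠ b ∧ H ≤ pairStab a b) ∨
      ∀ h ∈ H, h ^ 2 = 1 ∨ h ^ 3 = 1 := by
  have h12 : Nat.card H = 12 → ∀ h ∈ H, h ^ 2 = 1 ∨ h ^ 3 = 1 := by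
    intro hc h hh
    refine order_small h8 (hH hh) ?_
    have := pow_card_eq_one' (G := H) (x := ⟨h, hh⟩)
    rw [hc] at this
    exact congrArg Subtype.val this
  have h24 : Nat.card H ≠ 24 := fun hc =>
    not_eight_dvd h8 (dvd_trans (by norm_num) (hc ▸ Subgroup.card_dvd_of_le hH))
  cases geoCase (p := 3) H with
  | borel x hx _ => exact .inl ⟨x, hx⟩
  | pair a b hab hle _ => exact .inr (.inl ⟨a, b, hab, hle⟩)
  | tetra _ iso => exact .inr (.inr (h12 ((Nat.card_congr iso.some.toEquiv).trans card_alt_four)))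
  | octa _ iso => exact absurd ((Nat.card_congr iso.some.toEquiv).trans card_perm_four) h24
  | icosa _ iso =>
    exfalso
    obtain ⟨e⟩ := iso
    haveI : Group.IsSolvable (alternatingGroup (Fin 5)) :=
      Group.isSolvable_of_surjective (f := e.toMonoidHom) e.surjective
    haveI : IsSimpleGroup (alternatingGroup (Fin 5)) := alternatingGroup.isSimpleGroup_five
    have hc := IsSimpleGroup.comm_iff_isSolvable.2 ‹Group.IsSolvable (alternatingGroup (Fin 5))›
    have := congrArg Subtype.val (hc ⟨c[0, 1, 2], Equiv.Perm.mem_alternatingGroup.2 (by decide)⟩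
      ⟨c[2, 3, 4], Equiv.Perm.mem_alternatingGroup.2 (by decide)⟩)
    revert this
    decide
  | subfield K k _ hcard =>
    rw [card_pgl_two rfl] at hcard
    rcases hK K with e | e
    · rw [e] at hcard
      rcases hcard with hc | ⟨-, hc⟩
      · exact absurd hc h24
      · exact .inr (.inr (h12 (by omega)))
    · exfalso
      have hle : Nat.card (pslRange F) ≤ Nat.card H := by
        have h2 := two_mul_card_L h8
        rw [e] at hcard
        rcases hcard with hc | ⟨-, hc⟩ <;> omega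
      exact not_solvable_L h8 hq ((Subgroup.eq_of_le_of_card_ge hH hle) ▸ hs)

/-- The solubilizer inside `PSL`. -/
def SolL (x : PG) : Set PG := {y | y ∈ pslRange F ∧ Group.IsSolvable (Subgroup.closure ({x, y} : Set PG))}

theorem cases_of_mem (h8 : Nat.card F % 8 = 3) (hq : 3 < Nat.card F)
    (hK : ∀ K : Subfield F, Nat.card K = 3 ∨ Nat.card K = Nat.card F) {x y : PG} (hx : x ∈ pslRange F)
    (hy : y ∈ SolL x) :
    (∃ z : P1, x • z = z ∧ y • z = z) ∨ (∃ a b : PE, a ≠ b ∧ x ∈ pairStab a b ∧ y ∈ pairStab a b) ∨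
      ∀ h ∈ Subgroup.closure ({x, y} : Set PG), h ^ 2 = 1 ∨ h ^ 3 = 1 := by
  haveI := hy.2
  have hle : Subgroup.closure ({x, y} : Set PG) ≤ pslRange F :=
    (Subgroup.closure_le _).2 (by rintro w (rfl | rfl); exacts [hx, hy.1])
  have hxm : x ∈ Subgroup.closure ({x, y} : Set PG) := Subgroup.subset_closure (Set.mem_insert _ _)
  have hym : y ∈ Subgroup.closure ({x, y} : Set PG) := Subgroup.subset_closure (Set.mem_insert_of_mem _ rfl)
  rcases solvable_cases h8 hq hK _ hle with ⟨z, hz⟩ | ⟨a, b, hab, h⟩ | h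
  · exact .inl ⟨z, hz x hxm, hz y hym⟩
  · exact .inr (.inl ⟨a, b, hab, h hxm, h hym⟩)
  · exact .inr (.inr h)

theorem solvable_fix {x y : PG} {c : PE} (hx : x • c = c) (hy : y • c = c) :
    Group.IsSolvable (Subgroup.closure ({x, y} : Set PG)) := by
  haveI : Group.IsSolvable (stabilizer PG c) :=
    SolubilizerEven.solvable_of_derived_le (unipAt hP c)
      (fun g hg h hh => ⟨by
        rw [commutatorElement_def]
        exact mem_stabilizer_iff.1 (mul_mem (mul_mem (mul_mem hg hh) (inv_mem hg)) (inv_mem hh)),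
        by rw [commutatorElement_def]; exact hP.comm_unip hg hh⟩)
      (fun g hg h hh => (hP.unip_mul hg.2 hh.2 hg.1 hh.1).2)
  exact SolubilizerEven.solvable_of_le (K := stabilizer PG c)
    ((Subgroup.closure_le _).2 (by rintro w (rfl | rfl) <;> assumption))

theorem card_stab_L (h8 : Nat.card F % 8 = 3) (hq : 3 < Nat.card F) (z : P1) :
    2 * Nat.card ↥(stabilizer PG (embP 3 z) ⊓ pslRange F) = Nat.card F * (Nat.card F - 1) := by
  obtain ⟨w, hw, -⟩ := exists_third z z
  have hg : GoodPair (F := F) (embP 3 z) (embP 3 w) :=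
    ⟨fun e => hw (embP_injective 3 e), .inl ⟨⟨z, rfl⟩, ⟨w, rfl⟩⟩⟩
  have hA : Nat.card (stabilizer PG (embP 3 z)) = Nat.card F * (Nat.card F - 1) := by
    have horb : orbit PG (embP 3 z) = Set.range (embP (F := F) 3) := by
      ext b
      constructor
      · rintro ⟨g, rfl⟩
        exact ⟨g • z, embP_smul 3 g z⟩
      · rintro ⟨w, rfl⟩
        obtain ⟨k, hk⟩ := exists_to_inf z
        obtain ⟨l, hl⟩ := exists_to_inf w
        refine ⟨l * k⁻¹, ?_⟩
        show (l * k⁻¹) • embP 3 z = _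
        rw [← embP_smul, mul_smul, inv_smul_eq_iff.2 hk.symm, hl]
    have h := card_orbit_mul (G := PG) (embP 3 z)
    rw [horb, Nat.card_coe_set_eq, Set.ncard_range_of_injective (embP_injective 3), card_proj_line,
      card_pgl_two rfl] at h
    exact Nat.eq_of_mul_eq_mul_left (Nat.succ_pos _) h
  set A := stabilizer PG (embP 3 z) with hAdef
  have hnot : ¬ A ≤ pslRange F := by
    intro hle
    obtain ⟨r, -, -, -, -, -, -, -, hro, hzp, -, -⟩ := torus_psl hg (fun _ => by omega)
    have h1 : stabilizer PG (embP 3 z) ⊓ stabilizer PG (embP 3 w) ⊓ pslRange F =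
        stabilizer PG (embP 3 z) ⊓ stabilizer PG (embP 3 w) := inf_eq_left.2 (inf_le_left.trans hle)
    have h2 := congrArg (fun S : Subgroup PG => Nat.card S) (h1.symm.trans hzp)
    simp only [card_torus hg, Nat.card_zpowers] at h2
    rw [hro, gcd_two h8, torusCard, if_pos ⟨z, rfl⟩] at h2
    omega
  have hidx : (A ⊓ pslRange F).subgroupOf A = (pslRange F).subgroupOf A := Subgroup.inf_subgroupOf_left _ _
  have h2 : ((pslRange F).subgroupOf A).index = 2 := by
    have hd : (pslRange F).relIndex A ∣ (pslRange F).index := Subgroup.relIndex_dvd_index_of_normal _ _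
    rw [index_pslRange, gcd_two h8] at hd
    rcases (Nat.dvd_prime Nat.prime_two).1 hd with e | e
    · exact absurd (Subgroup.relIndex_eq_one.1 e) hnot
    · exact e
  have h := ((A ⊓ pslRange F).subgroupOf A).card_mul_index
  rw [Nat.card_congr (Subgroup.subgroupOfEquivOfLe inf_le_left).toEquiv, hidx, h2, hA] at h
  omega

theorem card_pair_L (h8 : Nat.card F % 8 = 3) (hq : 3 < Nat.card F) {a b : PE} (h : GoodPair (F := F) a b) :
    2 * Nat.card ↥(stabilizer PG a ⊓ stabilizer PG b ⊓ pslRange F) = torusCard (F := F) a ∧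
      Nat.card ↥(pairStab a b ⊓ pslRange F) = torusCard (F := F) a := by
  obtain ⟨r, w, -, -, -, -, -, -, hro, hzp, hc, -⟩ := torus_psl h (fun _ => by omega)
  have hev : 2 ∣ torusCard (F := F) a := by
    rw [torusCard]; split_ifs <;> omega
  rw [gcd_two h8] at hro
  rw [hzp, hc, Nat.card_zpowers, hro, Nat.mul_div_cancel' hev]
  exact ⟨rfl, rfl⟩

theorem semisimple (h8 : Nat.card F % 8 = 3) (hq : 3 < Nat.card F)
    (hK : ∀ K : Subfield F, Nat.card K = 3 ∨ Nat.card K = Nat.card F) {x : PG} (hx : x ∈ pslRange F)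
    (h2 : x ^ 2 ≠ 1) (h3 : x ^ 3 ≠ 1) :
    (orderOf x ∣ Nat.card F - 1 → (SolL x).ncard = Nat.card F * (Nat.card F - 1)) ∧
      (orderOf x ∣ Nat.card F + 1 → (SolL x).ncard = Nat.card F + 1) := by
  have hx1 : x ≠ 1 := fun e => h2 (by rw [e, one_pow])
  obtain ⟨a, ha⟩ := exists_fix_ext (p := 3) x
  obtain ⟨b, hba, hb⟩ := hP.exists_other h3 ha
  have hab := hba.symm
  have hg := goodPair_of_fixed hx1 hab ha hb
  have only : ∀ c : PE, x • c = c → c = a ∨ c = b := fun c hc => by
    by_contra hne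
    push Not at hne
    exact hx1 (hP.sharp hab hne.1.symm hne.2.symm ha hb hc)
  have hset : SolL x = ((pairStab a b ⊓ pslRange F : Subgroup PG) : Set PG) ∪
      {y | y ∈ pslRange F ∧ ∃ z : P1, (embP 3 z = a ∨ embP 3 z = b) ∧ y • z = z} := by
    ext y
    constructor
    · intro hy
      rcases cases_of_mem h8 hq hK hx hy with ⟨z, h1, h4⟩ | ⟨c, d, hcd, hxcd, hy'⟩ | h
      · exact .inr ⟨hy.1, z, only _ (by rw [← embP_smul, h1]), h4⟩
      · left
        refine ⟨?_, hy.1⟩
        rcases hxcd with ⟨hc, hd⟩ | ⟨hc, hd⟩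
        · rcases only _ hc with rfl | rfl <;> rcases only _ hd with rfl | rfl
          · exact absurd rfl hcd
          · exact hy'
          · exact hy'.elim (fun h => .inl ⟨h.2, h.1⟩) (fun h => .inr ⟨h.2, h.1⟩)
          · exact absurd rfl hcd
        · exact absurd (by rw [pow_two]; exact hP.swap_sq hcd hc hd) h2
      · rcases h x (Subgroup.subset_closure (Set.mem_insert _ _)) with e | e
        · exact absurd e h2
        · exact absurd e h3
    · rintro (⟨hy, hyL⟩ | ⟨hyL, z, hz, hy⟩)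
      · refine ⟨hyL, ?_⟩
        rcases hy with ⟨hya, -⟩ | ⟨h1, h4⟩
        · exact solvable_fix ha hya
        · -- `y` is an involution swapping the fixed points of `x`
          have hy2 : y ^ 2 = 1 := by rw [pow_two]; exact hP.swap_sq hab h1 h4
          have hxy2 : (x * y) ^ 2 = 1 := by
            rw [pow_two]
            exact hP.swap_sq hab (by rw [mul_smul, h1, hb]) (by rw [mul_smul, h4, ha])
          haveI := solvable_two_invol hxy2 hy2
          refine SolubilizerEven.solvable_of_le (K := Subgroup.closure ({x * y, y} : Set PG))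
            ((Subgroup.closure_le _).2 ?_)
          rintro w (rfl | rfl)
          · have h5 := mul_mem (Subgroup.subset_closure (Set.mem_insert (w * y) {y}))
              (inv_mem (Subgroup.subset_closure (Set.mem_insert_of_mem (w * y) (Set.mem_singleton y))))
            rwa [mul_inv_cancel_right] at h5
          · exact Subgroup.subset_closure (Set.mem_insert_of_mem _ rfl)
      · refine ⟨hyL, solvable_fix (c := embP 3 z) ?_ (by rw [← embP_smul, hy])⟩
        rcases hz with e | e <;> rw [e] <;> assumption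
  constructor
  · intro ho
    obtain ⟨⟨u, rfl⟩, ⟨v, rfl⟩⟩ : IsRat a ∧ IsRat b := by
      rcases hg.2 with h | ⟨hna, -, -⟩
      · exact h
      · exfalso
        have h1 : orderOf x ∣ Nat.card F + 1 := by
          rw [← card_stab_nonrat hna]; exact Subgroup.orderOf_dvd_natCard _ (mem_stabilizer_iff.2 ha)
        have h4 : orderOf x ∣ 2 := by
          have := Nat.dvd_sub h1 ho
          rwa [show Nat.card F + 1 - (Nat.card F - 1) = 2 by omega] at this
        exact h2 (orderOf_dvd_iff_pow_eq_one.1 h4)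
    set A := stabilizer PG (embP 3 u) ⊓ pslRange F with hA
    set B := stabilizer PG (embP 3 v) ⊓ pslRange F with hB
    set D := pairStab (embP 3 u) (embP 3 v) ⊓ pslRange F with hD
    have hU : {y : PG | y ∈ pslRange F ∧ ∃ z : P1, (embP 3 z = embP 3 u ∨ embP 3 z = embP 3 v) ∧ y • z = z} =
        (A : Set PG) ∪ (B : Set PG) := by
      ext y
      constructor
      · rintro ⟨hL, z, e | e, hy⟩ <;> obtain rfl := embP_injective 3 e
        · exact .inl ⟨by show y • embP 3 z = _; rw [← embP_smul, hy], hL⟩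
        · exact .inr ⟨by show y • embP 3 z = _; rw [← embP_smul, hy], hL⟩
      · rintro (⟨hy, hL⟩ | ⟨hy, hL⟩)
        · exact ⟨hL, u, .inl rfl, embP_injective 3 ((embP_smul 3 y u).trans hy)⟩
        · exact ⟨hL, v, .inr rfl, embP_injective 3 ((embP_smul 3 y v).trans hy)⟩
    set T := stabilizer PG (embP 3 u) ⊓ stabilizer PG (embP 3 v) ⊓ pslRange F with hT
    have hAB : (A : Set PG) ∩ B = T := by
      ext y
      exact ⟨fun ⟨⟨h1, h4⟩, ⟨h5, _⟩⟩ => ⟨⟨h1, h5⟩, h4⟩, fun ⟨⟨h1, h5⟩, h4⟩ => ⟨⟨h1, h4⟩, ⟨h5, h4⟩⟩⟩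
    have hDAB : (D : Set PG) ∩ ((A : Set PG) ∪ B) = T := by
      ext y
      constructor
      · rintro ⟨⟨hy, hL⟩, ⟨h, -⟩ | ⟨h, -⟩⟩ <;> rcases hy with ⟨h1, h4⟩ | ⟨h1, h4⟩
        · exact ⟨⟨h1, h4⟩, hL⟩
        · exact absurd ((mem_stabilizer_iff.1 h).symm.trans h1) hab
        · exact ⟨⟨h1, h4⟩, hL⟩
        · exact absurd ((mem_stabilizer_iff.1 h).symm.trans h4) hba
      · intro hy
        exact ⟨⟨.inl ⟨hy.1.1, hy.1.2⟩, hy.2⟩, .inl ⟨hy.1.1, hy.2⟩⟩
    rw [hset, hU]
    have e1 := Set.ncard_union_add_ncard_inter (D : Set PG) ((A : Set PG) ∪ B)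
    have e2 := Set.ncard_union_add_ncard_inter (A : Set PG) (B : Set PG)
    rw [hDAB] at e1
    rw [hAB] at e2
    obtain ⟨c1, c2⟩ := card_pair_L h8 hq hg
    rw [torusCard, if_pos ⟨u, rfl⟩, ← hT] at c1
    rw [torusCard, if_pos ⟨u, rfl⟩, ← hD] at c2
    have c3 := card_stab_L h8 hq u
    have c4 := card_stab_L h8 hq v
    rw [← hA] at c3
    rw [← hB] at c4
    simp only [← Nat.card_coe_set_eq, SetLike.coe_sort_coe] at e1 e2 ⊢
    omega
  · intro ho
    have hna : ¬ IsRat a ∧ ¬ IsRat b := by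
      rcases hg.2 with ⟨hra, -⟩ | ⟨h1, h4, -⟩
      · exfalso
        have h1 : orderOf x ∣ Nat.card F - 1 := by
          have h := Subgroup.orderOf_dvd_natCard (stabilizer PG a ⊓ stabilizer PG b) (x := x) ⟨ha, hb⟩
          rwa [card_torus hg, torusCard, if_pos hra] at h
        have h4 : orderOf x ∣ 2 := by
          have := Nat.dvd_sub ho h1
          rwa [show Nat.card F + 1 - (Nat.card F - 1) = 2 by omega] at this
        exact h2 (orderOf_dvd_iff_pow_eq_one.1 h4)
      · exact ⟨h1, h4⟩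
    have hU : {y : PG | y ∈ pslRange F ∧ ∃ z : P1, (embP 3 z = a ∨ embP 3 z = b) ∧ y • z = z} = ∅ :=
      Set.eq_empty_iff_forall_notMem.2 fun y ⟨_, z, hz, _⟩ => hz.elim (fun e => hna.1 ⟨z, e⟩) (fun e => hna.2 ⟨z, e⟩)
    rw [hset, hU, Set.union_empty, ← Nat.card_coe_set_eq, SetLike.coe_sort_coe, (card_pair_L h8 hq hg).2,
      torusCard, if_neg hna.1]

end CfsgLib.PSL2.SolubilizerThree
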