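import Cfsg.Agent.Lib.PSL2.MaxExist2
import Cfsg.Agent.Lib.PSL2.Congr

/-!
The subfield subgroups of `PSL₂(F)` over an abstract finite field.
-/

set_option autoImplicit false
set_option linter.style.haveILetI false
set_option linter.unusedSectionVars false

namespace CfsgLib.PSL2

open Matrix CfsgLib.Classical

variable {F : Type*} [Field F] [Finite F]

local notation "PG" => Matrix.ProjGenLinGroup (Fin 2) F

theorem exists_subfield_equiv {K : Type*} [Field K] [Finite K] {r : ℕ} (hr : 0 < r)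
    (h : Nat.card K ^ r = Nat.card F) :
    ∃ K' : Subfield F, Nat.card K' = Nat.card K ∧ Module.finrank K' F = r ∧ Nonempty (K' ≃+* K) := by
  obtain ⟨p, hp⟩ := CharP.exists F
  haveI := Fact.mk (CharP.char_is_prime F p)
  obtain ⟨K', hK', hm⟩ := exists_subfield_card (F := F) p h hr
  haveI := Fintype.ofFinite K'
  haveI := Fintype.ofFinite K
  exact ⟨K', hK', hm, ⟨FiniteField.ringEquivOfCardEq (by rw [← Nat.card_eq_fintype_card, hK', Nat.card_eq_fintype_card])⟩⟩

/-- A subgroup `PGL₂(K)` in the even case. -/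
theorem psl_sub_pgl (ho : Odd (Nat.card F)) {K : Type*} [Field K] [Finite K] {r : ℕ} (hr : 0 < r)
    (h : Nat.card K ^ r = Nat.card F) (he : Even r) :
    ∃ (K' : Subfield F), Module.finrank K' F = r ∧ Nat.card K' = Nat.card K ∧
      Nonempty (↥(subGroupK K' 1 ⊓ pslRange F) ≃* Matrix.ProjGenLinGroup (Fin 2) K) := by
  obtain ⟨K', hK', hm, ⟨c⟩⟩ := exists_subfield_equiv hr h
  obtain ⟨e⟩ := subGroupK_equiv K' 1
  obtain ⟨g⟩ := nonempty_pgl_congr (n := Fin 2) c
  exact ⟨K', hm, hK', ⟨((MulEquiv.subgroupCongr (inf_eq_left.2 (subGroupK_le_psl ho K' 1 (by rw [hm]; exact he)))).trans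
    e).trans g⟩⟩

/-- A subgroup `PSL₂(K)` in the odd case. -/
theorem psl_sub_psl (ho : Odd (Nat.card F)) {K : Type*} [Field K] [Finite K] {r : ℕ} (hr : 0 < r)
    (h : Nat.card K ^ r = Nat.card F) (hodd : Odd r) :
    ∃ (K' : Subfield F), Module.finrank K' F = r ∧ Nat.card K' = Nat.card K ∧
      Nonempty (↥(subGroupK K' 1 ⊓ pslRange F) ≃* Matrix.ProjectiveSpecialLinearGroup (Fin 2) K) := by
  obtain ⟨K', hK', hm, ⟨c⟩⟩ := exists_subfield_equiv hr h
  obtain ⟨e⟩ := subGroupK_inf_psl ho K' 1 (by rw [hm]; exact hodd)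
  obtain ⟨g⟩ := nonempty_psl_congr (n := Fin 2) c
  exact ⟨K', hm, hK', ⟨e.trans g⟩⟩

/-- A subgroup `PSL₂(K)` in characteristic two. -/
theorem psl_sub_even (he : Even (Nat.card F)) {K : Type*} [Field K] [Finite K] {r : ℕ} (hr : 0 < r)
    (h : Nat.card K ^ r = Nat.card F) :
    ∃ (K' : Subfield F), Module.finrank K' F = r ∧ Nat.card K' = Nat.card K ∧
      Nonempty (↥(subGroupK K' 1 ⊓ pslRange F) ≃* Matrix.ProjectiveSpecialLinearGroup (Fin 2) K) := by
  obtain ⟨K', hK', hm, ⟨c⟩⟩ := exists_subfield_equiv hr h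
  obtain ⟨e⟩ := subGroupK_equiv K' 1
  obtain ⟨g⟩ := nonempty_pgl_congr (n := Fin 2) c
  have heK : Even (Nat.card K) := by
    rw [← h, Nat.even_pow] at he
    exact he.1
  have hs : Function.Surjective (Matrix.ProjectiveSpecialLinearGroup.toPGL (n := Fin 2) (R := K)) :=
    MonoidHom.range_eq_top.1 (pslRange_eq_top_of_even heK)
  exact ⟨K', hm, hK', ⟨((MulEquiv.subgroupCongr (by rw [pslRange_eq_top_of_even he, inf_top_eq])).trans e).trans
    (g.trans (MulEquiv.ofBijective _ ⟨ProjectiveSpecialLinearGroup.toPGL_injective, hs⟩).symm)⟩⟩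

theorem exists_psl_copy {K : Type*} [Field K] [Finite K] {r : ℕ} (hr : 0 < r)
    (h : Nat.card K ^ r = Nat.card F) :
    ∃ H : Subgroup PG, H ≤ pslRange F ∧ Nonempty (H ≃* Matrix.ProjectiveSpecialLinearGroup (Fin 2) K) := by
  obtain ⟨K', -, -, ⟨c⟩⟩ := exists_subfield_equiv hr h
  obtain ⟨g⟩ := nonempty_psl_congr (n := Fin 2) c
  set f := ProjGenLinGroup.map (n := Fin 2) K'.subtype with hf
  refine ⟨(pslRange K').map f, ?_, ⟨?_⟩⟩
  · rintro _ ⟨x, hx, rfl⟩
    simpa using map_mem_psl K' 1 hx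
  · exact (((pslRange K').equivMapOfInjective f (map_subtype_injective K'.subtype)).symm.trans
      (MonoidHom.ofInjective ProjectiveSpecialLinearGroup.toPGL_injective).symm).trans g

theorem pow_mod_of_odd {Q M m : ℕ} (h : Q ^ 2 % M = 1 % M) (hm : Odd m) : Q ^ m % M = Q % M := by
  obtain ⟨j, rfl⟩ := hm
  rw [pow_succ, pow_mul, Nat.mul_mod, Nat.pow_mod, h, ← Nat.pow_mod, one_pow, ← Nat.mul_mod, one_mul]

/-- `PGL₂(K)` does not embed in `PSL₂(F)` for an odd degree. -/
theorem even_of_pgl_sub (ho : Odd (Nat.card F)) {K : Type*} [Field K] [Finite K] {m : ℕ} (hm : 0 < m)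
    (h : Nat.card K ^ m = Nat.card F) {H : Subgroup PG} (hH : H ≤ pslRange F)
    (e : H ≃* Matrix.ProjGenLinGroup (Fin 2) K) : Even m := by
  by_contra hme
  rw [Nat.not_even_iff_odd] at hme
  obtain ⟨p, hp⟩ := CharP.exists F
  haveI := Fact.mk (CharP.char_is_prime F p)
  obtain ⟨pK, hpK⟩ := CharP.exists K
  haveI := Fact.mk (CharP.char_is_prime K pK)
  set Q := Nat.card K with hQ
  have hQo : Odd Q := by rw [← h] at ho; exact (Nat.odd_pow_iff hm.ne').1 ho
  have hQ3 : 3 ≤ Q := by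
    have : 1 < Q := Finite.one_lt_card
    obtain ⟨j, hj⟩ := hQo
    omega
  obtain ⟨i, hi⟩ := hQo
  have hQp : pK ∣ Q := by
    obtain ⟨k, hk, hk'⟩ := card_eq_charPow (F := K) (p := pK)
    exact hQ ▸ hk' ▸ dvd_pow_self pK (by omega)
  have hpp : pK = p := by
    obtain ⟨k, hk, hk'⟩ := card_eq_charPow (F := F) (p := p)
    have : pK ∣ p ^ k := hk' ▸ h ▸ dvd_pow hQp hm.ne'
    exact (Nat.prime_dvd_prime_iff_eq (Fact.out : pK.Prime) (Fact.out : p.Prime)).1
      ((Fact.out : pK.Prime).dvd_of_dvd_pow this)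
  subst hpp
  have key : ∀ plus : Bool, (bif plus then Q + 1 else Q - 1) ∣ (Nat.card F + 1) / 2 ∨
      (bif plus then Q + 1 else Q - 1) ∣ (Nat.card F - 1) / 2 := by
    intro plus
    obtain ⟨g, hg⟩ := exists_orderOf_pgl (F := K) pK plus
    have h1 : orderOf ((e.symm g : H) : PG) = bif plus then Q + 1 else Q - 1 := by
      rw [Subgroup.orderOf_coe, MulEquiv.orderOf_eq, hg]
    have hnd : ¬ pK ∣ orderOf ((e.symm g : H) : PG) := fun hd => by
      rw [h1] at hd
      have h5 := (Fact.out : pK.Prime).two_le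
      cases plus
      · obtain ⟨x, hx⟩ := Nat.dvd_sub hQp hd
        simp only [cond_false] at hx
        rw [show Q - (Q - 1) = 1 by omega] at hx
        exact absurd (Nat.eq_one_of_mul_eq_one_right hx.symm) (by omega)
      · obtain ⟨x, hx⟩ := Nat.dvd_sub hd hQp
        simp only [cond_true] at hx
        rw [show Q + 1 - Q = 1 by omega] at hx
        exact absurd (Nat.eq_one_of_mul_eq_one_right hx.symm) (by omega)
    have := order_dvd_pslRange pK (hH (e.symm g).2) hnd
    rwa [h1, gcd_two_card_sub_one_of_odd ho] at this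
  have hmod : ∀ M : ℕ, Q ^ 2 % M = 1 % M → Nat.card F % M = Q % M := fun M hM => h ▸ pow_mod_of_odd hM hme
  rcases Nat.even_or_odd i with ⟨j, hj⟩ | ⟨j, hj⟩
  · -- `Q ≡ 1 (mod 4)`
    obtain ⟨c, hc⟩ : ∃ c, Q ^ 2 = 1 + c * (2 * (Q - 1)) :=
      ⟨i + 1, by rw [hi, show 2 * i + 1 - 1 = 2 * i by omega]; ring⟩
    have h1 := hmod (2 * (Q - 1)) (by rw [hc, Nat.add_mul_mod_self_right])
    rw [Nat.mod_eq_of_lt (show Q < 2 * (Q - 1) by omega)] at h1
    have hqd := Nat.div_add_mod (Nat.card F) (2 * (Q - 1))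
    rw [h1] at hqd
    set t := Nat.card F / (2 * (Q - 1))
    rcases key false with h2 | h2 <;> simp only [cond_false] at h2
    · rw [show (Nat.card F + 1) / 2 = (Q - 1) * t + (i + 1) by
        rw [← hqd, mul_assoc]; omega, Nat.dvd_add_right (dvd_mul_right _ _)] at h2
      have := Nat.le_of_dvd (by omega) h2
      obtain ⟨x, hx⟩ := h2
      rcases x with _ | _ | x
      · omega
      · omega
      · have : (Q - 1) * 2 ≤ (Q - 1) * (x + 1 + 1) := Nat.mul_le_mul_left _ (by omega)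
        omega
    · rw [show (Nat.card F - 1) / 2 = (Q - 1) * t + i by
        rw [← hqd, mul_assoc]; omega, Nat.dvd_add_right (dvd_mul_right _ _)] at h2
      have := Nat.le_of_dvd (by omega) h2
      omega
  · -- `Q ≡ 3 (mod 4)`
    obtain ⟨c, hc⟩ : ∃ c, Q ^ 2 = 1 + c * (2 * (Q + 1)) := ⟨i, by rw [hi]; ring⟩
    have h1 := hmod (2 * (Q + 1)) (by rw [hc, Nat.add_mul_mod_self_right])
    rw [Nat.mod_eq_of_lt (show Q < 2 * (Q + 1) by omega)] at h1
    have hqd := Nat.div_add_mod (Nat.card F) (2 * (Q + 1))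
    rw [h1] at hqd
    set t := Nat.card F / (2 * (Q + 1))
    rcases key true with h2 | h2 <;> simp only [cond_true] at h2
    · rw [show (Nat.card F + 1) / 2 = (Q + 1) * t + (i + 1) by
        rw [← hqd, mul_assoc]; omega, Nat.dvd_add_right (dvd_mul_right _ _)] at h2
      have := Nat.le_of_dvd (by omega) h2
      omega
    · rw [show (Nat.card F - 1) / 2 = (Q + 1) * t + i by
        rw [← hqd, mul_assoc]; omega, Nat.dvd_add_right (dvd_mul_right _ _)] at h2
      have := Nat.le_of_dvd (by omega) h2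
      omega

end CfsgLib.PSL2
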